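import Groth.Agent.L21.Mod.Glue
import Groth.Agent.L21.RR.Mul
import Groth.Agent.L21.RR.PointPow

/-!
Isomorphisms of modules given by frames with the same transition functions.
-/

set_option autoImplicit false
set_option backward.isDefEq.respectTransparency false
universe u

open CategoryTheory CategoryTheory.Limits AlgebraicGeometry TopologicalSpace Opposite
open Groth.L18.Frame (IsFrame rs ro rs_self rs_rs rs_smul)
open Groth.L21.RR (st st_germ bijective_germ_frame)

noncomputable section

namespace Groth.L21.Mero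

variable {X : Scheme.{u}}

theorem nonempty_iso_of_frames {M N : X.Modules} {ι : Type u} (U : ι → X.Opens) (hU : ∀ x : X, ∃ i, x ∈ U i)
    (e : ∀ i, Γ(M, U i)) (f : ∀ i, Γ(N, U i)) (he : ∀ i, IsFrame M (U i) (e i)) (hf : ∀ i, IsFrame N (U i) (f i))
    (hc : ∀ i j (W : X.Opens) (hi : W ≤ U i) (hj : W ≤ U j) (u : Γ(X, W)),
      rs M hi (e i) = u • rs M hj (e j) → rs N hi (f i) = u • rs N hj (f j)) :
    Nonempty (M ≅ N) := by
  have hcov : iSup U = ⊤ := eq_top_iff.2 fun x _ => Opens.mem_iSup.2 (hU x)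
  choose t ht using fun (i : ι) (W : X.Opens) (h : W ≤ U i) (m : Γ(M, W)) => (he i).exists_coeff h m
  let φ : ∀ i (W : X.Opens), W ≤ U i → (Γ(M, W) ⟶ Γ(N, W)) := fun i W h =>
    AddCommGrpCat.ofHom (AddMonoidHom.mk' (fun m => t i W h m • rs N h (f i)) fun m m' => by
      rw [← add_smul, show t i W h (m + m') = t i W h m + t i W h m' from
        (he i).inj h (by rw [add_smul, ht, ht, ht])])
  have hsmul : ∀ i W (h : W ≤ U i) (r : Γ(X, W)) (s : Γ(M, W)), φ i W h (r • s) = r • φ i W h s := fun i W h r s => by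
    show t i W h (r • s) • rs N h (f i) = r • t i W h s • rs N h (f i)
    rw [smul_smul, show t i W h (r • s) = r * t i W h s from (he i).inj h (by rw [mul_smul, ht, ht])]
  obtain ⟨Φ, hΦ, -⟩ := Groth.L21.Mod.existsUnique_hom hcov φ (fun i k V W hV hW h => by
    ext m
    show t i V hV (rs M h m) • rs N hV (f i) = rs N h (t k W hW m • rs N hW (f k))
    rw [rs_smul, rs_rs]
    obtain ⟨u, hu⟩ := (he k).exists_coeff (h.trans hW) (rs M hV (e i))
    have h1 := hc i k V hV (h.trans hW) u hu.symm
    have h2 : ro h (t k W hW m) = t i V hV (rs M h m) * u := (he k).inj (h.trans hW) (by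
      rw [mul_smul, hu, ht, ← rs_rs M hW h, ← rs_smul, ht])
    rw [h2, mul_smul, ← h1]) hsmul
  suffices IsIso Φ from ⟨asIso Φ⟩
  rw [Groth.L21.Mod.isIso_iff_stalk_bijective]
  intro x
  obtain ⟨i, hx⟩ := hU x
  have h0 : Φ.app (U i) (e i) = f i := by
    rw [hΦ i (U i) le_rfl]
    show t i (U i) le_rfl (e i) • rs N le_rfl (f i) = f i
    rw [show t i (U i) le_rfl (e i) = 1 from (he i).inj le_rfl (by rw [ht, one_smul, rs_self]), one_smul, rs_self]
  have h1 : ∀ r : X.presheaf.stalk x, st Φ x (r • M.presheaf.germ (U i) x hx (e i)) =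
      r • N.presheaf.germ (U i) x hx (f i) := fun r => by rw [map_smul, st_germ, h0]
  have h2 : Function.Bijective (st Φ x ∘ fun r : X.presheaf.stalk x => r • M.presheaf.germ (U i) x hx (e i)) := by
    rw [show st Φ x ∘ (fun r : X.presheaf.stalk x => r • M.presheaf.germ (U i) x hx (e i)) = _ from funext h1]
    exact bijective_germ_frame (hf i) hx
  exact (Function.Bijective.of_comp_iff _ (bijective_germ_frame (he i) hx)).1 h2

end Groth.L21.Mero
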