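import Groth.Agent.L21.Mero.OfIdeal
import Groth.Agent.L21.VanOrders
import Groth.Agent.L22.ZeroScheme

/-!
Divisors of zero schemes of nonzero sections on integral schemes.
-/

set_option autoImplicit false
set_option backward.isDefEq.respectTransparency false
set_option linter.style.haveILetI false
universe u

open CategoryTheory CategoryTheory.Limits AlgebraicGeometry TopologicalSpace Opposite
open Groth.L18.Frame (IsFrame rs ro rs_self rs_rs rs_smul)
open Groth.L18.GenLoc (secOf)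
open Groth.L22.ZeroScheme (idealOn mem_idealOn_iff zeroScheme_ideal)
open Groth.L21.RR (st st_germ bijective_germ_frame)

noncomputable section

namespace Groth.L21.Mero

open _root_.Mero (Divisor KStalk regStalk regSub regGerm divMod IsDivOfIdeal DivCond germOf)

variable {X : Scheme.{u}} {L : X.Modules}

theorem exists_frame_affine (hL : PicF.IsInvertible L) (x : X) {O : X.Opens} (hxO : x ∈ O) :
    ∃ (U : X.affineOpens) (e : Γ(L, U.1)), x ∈ (U : X.Opens) ∧ U.1 ≤ O ∧ IsFrame L U.1 e := by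
  obtain ⟨W, e, hxW, he⟩ := Groth.L18.Frame.exists_frame hL x
  obtain ⟨V, hV, hxV, hVW⟩ := exists_isAffineOpen_mem_and_subset (x := x) (U := W ⊓ O) ⟨hxW, hxO⟩
  exact ⟨⟨V, hV⟩, rs L (fun z hz => (hVW hz).1) e, hxV, fun z hz => (hVW hz).2, he.mono _⟩

/-- In a frame the zero scheme is cut out by the coefficient. -/
theorem zeroScheme_ideal_frame (hL : PicF.IsInvertible L) (s : Coh.structureModule X ⟶ L) (U : X.affineOpens)
    {e : Γ(L, U.1)} (he : IsFrame L U.1 e) {a : Γ(X, U.1)}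
    (ha : a • e = rs L (le_top : U.1 ≤ ⊤) (secOf s)) :
    (PicF2.zeroScheme L s).ideal U = Ideal.span {a} := by
  rw [zeroScheme_ideal hL]
  ext r
  rw [mem_idealOn_iff, Ideal.mem_span_singleton']
  constructor
  · intro h
    obtain ⟨b, hb⟩ := h e
    rw [← ha, smul_smul] at hb
    exact ⟨b, (he.inj le_rfl (by rw [rs_self]; exact hb)).symm⟩
  · rintro ⟨c, rfl⟩ m
    obtain ⟨d, hd⟩ := he.exists_coeff le_rfl m
    rw [rs_self] at hd
    exact ⟨c * d, by rw [← hd, ← ha, smul_smul, smul_smul, mul_right_comm]⟩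

variable [IsIntegral X]

theorem coeff_ne_zero (hL : PicF.IsInvertible L) {s : Coh.structureModule X ⟶ L} (hs : s ≠ 0) {U : X.Opens}
    {e : Γ(L, U)} {a : Γ(X, U)} (ha : a • e = rs L (le_top : U ≤ ⊤) (secOf s)) {x : X} (hx : x ∈ U) :
    X.presheaf.germ U x hx a ≠ 0 := by
  intro h0
  refine hs ?_
  have hsec : secOf s = 0 := by
    refine Groth.L21.VanOrders.germ_injective hL x ?_
    rw [map_zero, ← Groth.L20.ModStalk.germ_rs L (le_top : U ≤ ⊤) hx (secOf s), ← ha, Groth.L20.ModStalk.germ_smul, h0]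
    exact zero_smul _ _
  ext V r
  show s.app V r = 0
  rw [Groth.L18.GenLoc.app_eq, hsec]
  exact (congrArg ((show Γ(X, V) from r) • ·) (map_zero _)).trans (smul_zero _)

theorem mem_regSub_coeff (hL : PicF.IsInvertible L) {s : Coh.structureModule X ⟶ L} (hs : s ≠ 0) {U : X.Opens}
    {e : Γ(L, U)} {a : Γ(X, U)} (ha : a • e = rs L (le_top : U ≤ ⊤) (secOf s)) : a ∈ regSub X U :=
  fun x => mem_nonZeroDivisors_of_ne_zero (coeff_ne_zero hL hs ha x.2)

theorem isEffCartier_zeroScheme (hL : PicF.IsInvertible L) {s : Coh.structureModule X ⟶ L} (hs : s ≠ 0) :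
    BlowUp.IsEffCartierIdeal (PicF2.zeroScheme L s) := fun x => by
  obtain ⟨U, e, hxU, -, he⟩ := exists_frame_affine hL x (O := ⊤) trivial
  obtain ⟨a, ha⟩ := he.exists_coeff le_rfl (rs L (le_top : U.1 ≤ ⊤) (secOf s))
  rw [rs_self] at ha
  exact ⟨U, hxU, a, Groth.L22.Mero.mem_nonZeroDivisors_of_mem_regSub (mem_regSub_coeff hL hs ha),
    zeroScheme_ideal_frame hL s U he ha⟩

/-- The class of a regular germ. -/
abbrev clsOf {y : X} (a : regStalk X y) : _root_.Mero.Germ X y :=
  QuotientGroup.mk (IsLocalization.map_units (KStalk X y) a).unit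

omit [IsIntegral X] in
theorem class_eq_of_isDivOfIdeal {D : Divisor X} {I : X.IdealSheafData} (hD : IsDivOfIdeal D I) (U : X.affineOpens)
    {a : Γ(X, U.1)} (ha : a ∈ regSub X U.1) (hI : I.ideal U = Ideal.span {a}) (y : U.1) :
    D.1 y.1 = clsOf (regGerm y ⟨a, ha⟩) := by
  obtain ⟨V, hyV, f, hf, hIf, hcls⟩ := hD y.1
  rw [hcls ⟨y.1, hyV⟩]
  exact class_eq_of_span_eq _ _ (span_germ_eq I V U hyV y.2 hIf hI)

end Groth.L21.Mero
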