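import Groth.Agent.L21.Mero.Stalk
import Groth.Agent.L19.IdealInvertible
import Groth.Prelude.Def_BlowUp2

/-!
The divisor of an effective Cartier ideal sheaf.
-/

set_option autoImplicit false
set_option backward.isDefEq.respectTransparency false
universe u

open CategoryTheory CategoryTheory.Limits AlgebraicGeometry TopologicalSpace Opposite
open Groth.L21.RR (st bijective_smul_one one range_st_idealModι)

noncomputable section

namespace Groth.L21.Mero

open _root_.Mero (Divisor KStalk regSub regGerm IsEffective IsDivOfIdeal)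

variable {X : Scheme.{u}}

/-- The stalk of an ideal sheaf inside the local ring. -/
def stIdeal (I : X.IdealSheafData) (y : X) : Set (X.presheaf.stalk y) :=
  {r | ∃ u, st (ClSub.idealModι I) y u = r • one X y}

theorem map_germ_eq (I : X.IdealSheafData) {y : X} {V : X.Opens} (hV : IsAffineOpen V) (hyV : y ∈ V) :
    ((I.ideal ⟨V, hV⟩).map (X.presheaf.germ V y hyV).hom : Set (X.presheaf.stalk y)) = stIdeal I y := by
  ext r
  show r ∈ _ ↔ ∃ u, st (ClSub.idealModι I) y u = r • one X y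
  rw [range_st_idealModι I hV hyV]
  exact ⟨fun h => ⟨r, h, rfl⟩, fun ⟨r', h', he⟩ => (bijective_smul_one y).1 he ▸ h'⟩

theorem coe_span_germ (I : X.IdealSheafData) {y : X} (U : X.affineOpens) (hyU : y ∈ (U : X.Opens))
    {f : Γ(X, U.1)} (hf : I.ideal U = Ideal.span {f}) :
    (Ideal.span {X.presheaf.germ U.1 y hyU f} : Set (X.presheaf.stalk y)) = stIdeal I y := by
  obtain ⟨V, hV⟩ := U
  refine Eq.trans ?_ (map_germ_eq I hV hyU)
  rw [hf, Ideal.map_span, Set.image_singleton]

theorem span_germ_eq (I : X.IdealSheafData) {y : X} (U V : X.affineOpens) (hyU : y ∈ (U : X.Opens))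
    (hyV : y ∈ (V : X.Opens)) {f : Γ(X, U.1)} {g : Γ(X, V.1)} (hf : I.ideal U = Ideal.span {f})
    (hg : I.ideal V = Ideal.span {g}) :
    Ideal.span {X.presheaf.germ U.1 y hyU f} = Ideal.span {X.presheaf.germ V.1 y hyV g} :=
  SetLike.coe_injective ((coe_span_germ I U hyU hf).trans (coe_span_germ I V hyV hg).symm)

theorem class_eq_of_span_eq {y : X} (a b : _root_.Mero.regStalk X y)
    (h : Ideal.span {(a : X.presheaf.stalk y)} = Ideal.span {(b : X.presheaf.stalk y)}) :
    (QuotientGroup.mk (IsLocalization.map_units (KStalk X y) a).unit : _root_.Mero.Germ X y) =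
      QuotientGroup.mk (IsLocalization.map_units (KStalk X y) b).unit := by
  obtain ⟨c, hc⟩ := Ideal.mem_span_singleton'.1 (h ▸ Ideal.mem_span_singleton_self (a : X.presheaf.stalk y))
  obtain ⟨d, hd⟩ := Ideal.mem_span_singleton'.1 (h.symm ▸ Ideal.mem_span_singleton_self (b : X.presheaf.stalk y))
  have hdc : d * c = 1 := by
    refine (mul_cancel_right_mem_nonZeroDivisors (_root_.Mero.regStalk_le_nonZeroDivisors y b.2)).1 ?_
    rw [mul_assoc, hc, hd, one_mul]
  refine QuotientGroup.eq.2 ⟨(IsUnit.of_mul_eq_one c hdc).unit, Units.ext ?_⟩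
  show j y d = _
  rw [Units.val_mul, eq_comm, Units.inv_mul_eq_iff_eq_mul]
  show j y (b : X.presheaf.stalk y) = j y (a : X.presheaf.stalk y) * j y d
  rw [← map_mul, mul_comm, hd]

/-- An effective Cartier ideal has a divisor. -/
theorem exists_divOfIdeal (I : X.IdealSheafData) (hI : BlowUp.IsEffCartierIdeal I) :
    ∃ P : Divisor X, IsDivOfIdeal P I := by
  choose U hxU f hf hfI using hI
  have hreg : ∀ x, f x ∈ regSub X (U x).1 := fun x => Groth.L22.Mero.mem_regSub_of_mem_nonZeroDivisors (U x).2 (hf x)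
  let cls : ∀ y : X, _root_.Mero.Germ X y := fun y =>
    QuotientGroup.mk (IsLocalization.map_units (KStalk X y) (regGerm ⟨y, hxU y⟩ ⟨f y, hreg y⟩)).unit
  have key : ∀ (x : X) (y : (U x).1), cls y.1 =
      QuotientGroup.mk (IsLocalization.map_units (KStalk X y.1) (regGerm y ⟨f x, hreg x⟩)).unit := fun x y =>
    class_eq_of_span_eq _ _ (span_germ_eq I (U y.1) (U x) (hxU y.1) y.2 (hfI y.1) (hfI x))
  refine ⟨⟨cls, fun x => ?_⟩, fun x => ⟨U x, hxU x, f x, hreg x, hfI x, key x⟩⟩
  have hu : IsUnit (_root_.Mero.toK X (U x).1 (f x)) := by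
    let inv : Γ(_root_.Mero.kmod X, (U x).1) :=
      ⟨fun y => LocalizedModule.mk 1 (regGerm y ⟨f x, hreg x⟩), fun y => ⟨_, y.2, 𝟙 _, 1, ⟨f x, hreg x⟩, fun z =>
        _root_.Mero.mk_congr (map_one (X.presheaf.germ (U x).1 z.1 z.2).hom).symm rfl⟩⟩
    refine IsUnit.of_mul_eq_one inv (Groth.L22.Mero.kmod_ext fun y => ?_)
    rw [_root_.Mero.kmod_mul_apply, _root_.Mero.toK_apply, _root_.Mero.kmod_one_apply]
    exact (LocalizedModule.mk_mul_mk.trans (_root_.Mero.mk_congr (mul_one _) (one_mul _))).trans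
      (_root_.Mero.mk_self_eq_one (regGerm y ⟨f x, hreg x⟩))
  exact ⟨(U x).1, hxU x, hu.unit, fun y => (key x y).trans (congrArg _ (Units.ext rfl))⟩

/-- The local ideal of the divisor of an ideal is the stalk of the ideal. -/
theorem coe_eqIdeal_of_isDivOfIdeal {P : Divisor X} {I : X.IdealSheafData} (hP : IsDivOfIdeal P I) (y : X) :
    IsEffective P ∧ (eqIdeal P y : Set (X.presheaf.stalk y)) = stIdeal I y := by
  have heff : IsEffective P := fun x => by
    obtain ⟨U, hxU, f, hf, -, hcls⟩ := hP x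
    exact ⟨regGerm ⟨x, hxU⟩ ⟨f, hf⟩, hcls ⟨x, hxU⟩⟩
  obtain ⟨U, hyU, f, hf, hI, hcls⟩ := hP y
  refine ⟨heff, ?_⟩
  rw [← coe_span_germ I U hyU hI, eqIdeal_eq_span (hcls ⟨y, hyU⟩)
      (show j y (X.presheaf.germ U.1 y hyU f) = _ from rfl)]

end Groth.L21.Mero
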