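import Groth.Agent.L21.Mero.AssPts
import Groth.Agent.L15.WeakAss
import Mathlib.Topology.Sober

/-!
Meromorphic functions out of local fractions; pseudo-functions.
-/

set_option autoImplicit false
set_option backward.isDefEq.respectTransparency false
universe u

open CategoryTheory AlgebraicGeometry TopologicalSpace IsLocalRing Opposite
open Groth.L18.Frame (ro)

noncomputable section

namespace Groth.L21.Mero

open _root_.Mero (KStalk regStalk regSub regGerm kmod toK evalK)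

variable {X : Scheme.{u}}

/-- The meromorphic function of a fraction. -/
def frac {W : X.Opens} (a : Γ(X, W)) (b : regSub X W) : Γ(kmod X, W) :=
  ⟨fun y => LocalizedModule.mk (X.presheaf.germ W y.1 y.2 a) (regGerm y b),
    fun y => ⟨W, y.2, 𝟙 _, a, b, fun _ => rfl⟩⟩

theorem frac_eq_frac_iff {W W' : X.Opens} (a : Γ(X, W)) (b : regSub X W) (a' : Γ(X, W')) (b' : regSub X W')
    {z : X} (hz : z ∈ W) (hz' : z ∈ W') :
    (frac a b).1 ⟨z, hz⟩ = (frac a' b').1 ⟨z, hz'⟩ ↔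
      X.presheaf.germ (W ⊓ W') z ⟨hz, hz'⟩ (ro (inf_le_left : W ⊓ W' ≤ W) a *
        ro (inf_le_right : W ⊓ W' ≤ W') b'.1 - ro (inf_le_right : W ⊓ W' ≤ W') a' *
          ro (inf_le_left : W ⊓ W' ≤ W) b.1) = 0 := by
  show LocalizedModule.mk _ _ = LocalizedModule.mk _ _ ↔ _
  rw [Groth.L22.Mero.mk_eq_mk_iff, map_sub, map_mul, map_mul, sub_eq_zero]
  simp only [ro, TopCat.Presheaf.germ_res_apply]

/-- Sections of `K_X` glue pointwise. -/
theorem exists_glue {U : X.Opens} (W : U → X.Opens) (hW : ∀ y, W y ≤ U) (hy : ∀ y : U, y.1 ∈ W y)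
    (s : ∀ y, Γ(kmod X, W y))
    (hc : ∀ (y : U) (z : X) (hz : z ∈ W y), (s y).1 ⟨z, hz⟩ = (s ⟨z, hW y hz⟩).1 ⟨z, hy _⟩) :
    ∃ t : Γ(kmod X, U), ∀ (y : U) (z : X) (hz : z ∈ W y), t.1 ⟨z, hW y hz⟩ = (s y).1 ⟨z, hz⟩ := by
  refine ⟨⟨fun z => (s z).1 ⟨z.1, hy z⟩, fun y => ?_⟩, fun y z hz => (hc y z hz).symm⟩
  obtain ⟨V, hyV, i, a, b, w⟩ := (s y).2 ⟨y.1, hy y⟩
  refine ⟨V, hyV, homOfLE fun z hz => hW y (i.le hz), a, b, fun z => ?_⟩
  exact (hc y z.1 (i.le z.2)).symm.trans (w z)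

/-- Fractions that agree on a schematically dense open are equal. -/
theorem frac_eq_of_dense {U V : X.Opens}
    (hV : ∀ W : X.Opens, W ≤ U →
      Function.Injective ⇑(X.presheaf.map (homOfLE (inf_le_left : W ⊓ V ≤ W)).op))
    {W W' : X.Opens} (hW : W ≤ U) (a : Γ(X, W)) (b : regSub X W) (a' : Γ(X, W')) (b' : regSub X W')
    (h : ∀ (z : X) (hz : z ∈ W) (hz' : z ∈ W'), z ∈ V → (frac a b).1 ⟨z, hz⟩ = (frac a' b').1 ⟨z, hz'⟩)
    {z : X} (hz : z ∈ W) (hz' : z ∈ W') : (frac a b).1 ⟨z, hz⟩ = (frac a' b').1 ⟨z, hz'⟩ := by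
  rw [frac_eq_frac_iff]
  refine Eq.trans (congrArg _ (hV (W ⊓ W') (inf_le_left.trans hW) (a₁ := _) (a₂ := 0) ?_)) (map_zero _)
  rw [map_zero]
  refine TopCat.Presheaf.section_ext X.sheaf _ _ 0 fun y hy => ?_
  change X.presheaf.germ _ y hy _ = X.presheaf.germ _ y hy 0
  rw [TopCat.Presheaf.germ_res_apply, map_zero]
  exact (frac_eq_frac_iff a b a' b' hy.1.1 hy.1.2).1 (h y hy.1.1 hy.1.2 hy.2)

/-- A schematically dense open contains a point killing. -/
theorem mem_of_germ_supported {U V : X.Opens}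
    (hV : ∀ W : X.Opens, W ≤ U →
      Function.Injective ⇑(X.presheaf.map (homOfLE (inf_le_left : W ⊓ V ≤ W)).op))
    {W : X.Opens} (hW : W ≤ U) {x : X} (hxW : x ∈ W) (a : Γ(X, W)) (ha : X.presheaf.germ W x hxW a ≠ 0)
    (h : ∀ (y : X) (hy : y ∈ W), ¬ x ⤳ y → X.presheaf.germ W y hy a = 0) : x ∈ V := by
  by_contra hxV
  refine ha ?_
  refine Eq.trans (congrArg _ (hV W hW (a₁ := a) (a₂ := 0) ?_)) (map_zero _)
  rw [map_zero]
  refine TopCat.Presheaf.section_ext X.sheaf _ _ 0 fun y hy => ?_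
  change X.presheaf.germ _ y hy _ = X.presheaf.germ _ y hy 0
  rw [TopCat.Presheaf.germ_res_apply, map_zero]
  exact h y hy.1 fun hxy => hxV (hxy.mem_open V.2 hy.2)

theorem maximal_iff_closure_mem (x : X) :
    closure ({x} : Set X) ∈ irreducibleComponents (X : Type u) ↔ ∀ y : X, y ⤳ x → y = x := by
  constructor
  · intro h y hy
    refine (Specializes.antisymm hy ?_).eq
    refine specializes_iff_closure_subset.2 ?_
    exact (h.2 isIrreducible_singleton.closure (specializes_iff_closure_subset.1 hy))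
  · intro h
    obtain ⟨Z, hZ, hxZ⟩ : ∃ Z ∈ irreducibleComponents (X : Type u), x ∈ Z :=
      ⟨irreducibleComponent x, irreducibleComponent_mem_irreducibleComponents x, mem_irreducibleComponent⟩
    have hg := hZ.1.isGenericPoint_genericPoint (isClosed_of_mem_irreducibleComponents Z hZ)
    rw [← h _ (hg.specializes hxZ), hg.def]
    exact hZ

/-- Prime avoidance: a regular section cutting an open containing the weakly associated points. -/
theorem exists_regular_basicOpen_le {W : X.Opens} (hW : IsAffineOpen W) {V : X.Opens}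
    (hfin : {x : X | x ∈ W ∧ Curv2.IsWeakAssPoint (Coh.structureModule X) x}.Finite)
    (hmem : ∀ x ∈ W, Curv2.IsWeakAssPoint (Coh.structureModule X) x → x ∈ V) :
    ∃ b : Γ(X, W), b ∈ regSub X W ∧ X.basicOpen b ≤ V := by
  classical
  let C : Set (PrimeSpectrum Γ(X, W)) := (hW.fromSpec ⁻¹' (V : Set X))ᶜ
  have hC : IsClosed C := (V.2.preimage hW.fromSpec.continuous).isClosed_compl
  obtain ⟨I, hI⟩ := (PrimeSpectrum.isClosed_iff_zeroLocus_ideal C).1 hC
  let S : Finset X := hfin.toFinset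
  let P : X → Ideal Γ(X, W) := fun x => if hx : x ∈ W then (hW.primeIdealOf ⟨x, hx⟩).asIdeal else ⊤
  have hsub : ¬ ((I : Set Γ(X, W)) ⊆ ⋃ i ∈ (↑(insert (default : Option X) (S.image some)) : Set (Option X)),
      ((Option.elim i ⊥ P : Ideal Γ(X, W)) : Set Γ(X, W))) ∨ I ≤ ⊥ := by
    by_cases hI0 : I ≤ ⊥
    · exact Or.inr hI0
    left
    intro hsub
    have hp : ∀ i ∈ insert (default : Option X) (S.image some), i ≠ none → i ≠ none →
        (Option.elim i ⊥ P : Ideal Γ(X, W)).IsPrime := fun i hi hne _ => by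
      rcases Finset.mem_insert.1 hi with rfl | hi
      · exact absurd rfl hne
      · obtain ⟨x, hxS, rfl⟩ := Finset.mem_image.1 hi
        simp only [Option.elim, P, dif_pos (hfin.mem_toFinset.1 hxS).1]
        exact (hW.primeIdealOf _).2
    obtain ⟨i, hi, hle⟩ := (Ideal.subset_union_prime none none hp).1 hsub
    rcases Finset.mem_insert.1 hi with rfl | hi
    · exact hI0 hle
    · obtain ⟨x, hxS, rfl⟩ := Finset.mem_image.1 hi
      obtain ⟨hxW, hxA⟩ := hfin.mem_toFinset.1 hxS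
      have h1 : (hW.primeIdealOf ⟨x, hxW⟩) ∈ C := by
        rw [hI]
        simpa [P, hxW] using hle
      exact h1 (by
        show hW.fromSpec (hW.primeIdealOf ⟨x, hxW⟩) ∈ V
        rw [hW.fromSpec_primeIdealOf]
        exact hmem x hxW hxA)
  have hle : ∀ b ∈ I, X.basicOpen b ≤ V := fun b hb z hz => by
    have hzW : z ∈ W := X.basicOpen_le b hz
    have h1 : hW.primeIdealOf ⟨z, hzW⟩ ∈ hW.fromSpec ⁻¹ᵁ X.basicOpen b := by
      show hW.fromSpec _ ∈ X.basicOpen b
      rw [hW.fromSpec_primeIdealOf]; exact hz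
    rw [hW.fromSpec_preimage_basicOpen] at h1
    by_contra hzV
    have h2 : hW.primeIdealOf ⟨z, hzW⟩ ∈ C := by
      show ¬ hW.fromSpec _ ∈ V
      rw [hW.fromSpec_primeIdealOf]; exact hzV
    rw [hI] at h2
    exact h1 (h2 hb)
  have hunit : ∀ b : Γ(X, W), (∀ x ∈ S, b ∉ P x) → b ∈ regSub X W := fun b hb =>
    Groth.L22.mem_regSub_of_weakAss fun x hx hA => by
      have h1 := hb x (hfin.mem_toFinset.2 ⟨hx, hA⟩)
      simp only [P, dif_pos hx] at h1
      letI : Algebra Γ(X, W) (X.presheaf.stalk x) :=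
        TopCat.Presheaf.algebra_section_stalk X.presheaf ⟨x, hx⟩
      haveI := hW.isLocalization_stalk ⟨x, hx⟩
      exact IsLocalization.map_units (X.presheaf.stalk x) (⟨b, h1⟩ : (hW.primeIdealOf ⟨x, hx⟩).asIdeal.primeCompl)
  rcases hsub with hsub | hI0
  · obtain ⟨b, hbI, hb⟩ := Set.not_subset.1 hsub
    refine ⟨b, hunit b fun x hx hmem' => hb ?_, hle b hbI⟩
    exact Set.mem_biUnion (x := some x) (Finset.mem_insert_of_mem (Finset.mem_image_of_mem _ hx)) hmem'
  · refine ⟨1, Submonoid.one_mem _, fun z hz => ?_⟩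
    by_contra hzV
    have hzW : z ∈ W := X.basicOpen_le (1 : Γ(X, W)) hz
    obtain ⟨q, hq, hqz⟩ := Ideal.exists_minimalPrimes_le
      (bot_le : (⊥ : Ideal Γ(X, W)) ≤ (hW.primeIdealOf ⟨z, hzW⟩).asIdeal)
    let q' : Spec Γ(X, W) := ⟨q, hq.1.1⟩
    have hqW : hW.fromSpec q' ∈ W := hW.range_fromSpec.subset ⟨q', rfl⟩
    have h1 : q' ∈ C := by rw [hI]; exact hI0.trans bot_le
    exact h1 (hmem _ hqW (Groth.L22.isWeakAssPoint_of_maximal (Groth.L22.maximal_fromSpec hW q' hq)))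

end Groth.L21.Mero
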