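import Groth.Agent.L21.Mero.Basic
import Groth.Agent.L21.Mero.Pseudo
import Groth.Prelude.Def_BlowUp2

/-!
Ideal sheaves given by locally principal ideals of the local rings.
-/

set_option autoImplicit false
set_option backward.isDefEq.respectTransparency false
set_option linter.style.haveILetI false
universe u

open CategoryTheory AlgebraicGeometry TopologicalSpace Opposite
open Groth.L18.Frame (ro)

noncomputable section

namespace Groth.L21.Mero

open _root_.Mero (KStalk regSub regGerm)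

variable {X : Scheme.{u}}

/-- Divisibility by a regular section is checked on germs. -/
theorem exists_mul_eq_of_germ_mem {V : X.Opens} (f : Γ(X, V)) (c : regSub X V)
    (h : ∀ z : V, X.presheaf.germ V z.1 z.2 f ∈ Ideal.span {X.presheaf.germ V z.1 z.2 c.1}) :
    ∃ q : Γ(X, V), q * c.1 = f := by
  obtain ⟨q, hq⟩ := exists_section_of_range (frac f c) fun z => by
    obtain ⟨q, hq⟩ := Ideal.mem_span_singleton'.1 (h z)
    refine ⟨q, ?_⟩
    show algebraMap _ (KStalk X z.1) q = LocalizedModule.mk _ _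
    rw [Groth.L22.Mero.algebraMap_eq_mk, Groth.L22.Mero.mk_eq_mk_iff, Submonoid.coe_one, mul_one]
    exact hq
  refine ⟨q, TopCat.Presheaf.section_ext X.sheaf _ _ _ fun z hz => ?_⟩
  have h1 := hq ⟨z, hz⟩
  change LocalizedModule.mk _ _ = j z _ at h1
  rw [j, Groth.L22.Mero.algebraMap_eq_mk, Groth.L22.Mero.mk_eq_mk_iff, Submonoid.coe_one, mul_one] at h1
  exact (map_mul _ _ _).trans h1.symm

variable (R : ∀ x : X, Ideal (X.presheaf.stalk x))

/-- Sections with germs in the given ideals. -/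
def germIdeal (U : X.Opens) : Ideal Γ(X, U) := ⨅ z : U, (R z.1).comap (X.presheaf.germ U z.1 z.2).hom

theorem mem_germIdeal {U : X.Opens} {f : Γ(X, U)} :
    f ∈ germIdeal R U ↔ ∀ z : U, X.presheaf.germ U z.1 z.2 f ∈ R z.1 := by
  simp [germIdeal, Ideal.mem_comap]

/-- The local ideals are locally generated by one regular section. -/
def LocPrincipal : Prop :=
  ∀ y : X, ∃ (W : X.affineOpens) (_ : y ∈ W.1) (r : regSub X W.1),
    ∀ z : W.1, R z.1 = Ideal.span {X.presheaf.germ W.1 z.1 z.2 r.1}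

variable {R}

theorem germIdeal_eq_span {W : X.Opens} (r : regSub X W)
    (hr : ∀ z : W, R z.1 = Ideal.span {X.presheaf.germ W z.1 z.2 r.1}) : germIdeal R W = Ideal.span {r.1} := by
  ext f
  rw [mem_germIdeal, Ideal.mem_span_singleton']
  constructor
  · exact fun h => exists_mul_eq_of_germ_mem f r fun z => hr z ▸ h z
  · rintro ⟨q, rfl⟩ z
    rw [hr z, map_mul]
    exact Ideal.mem_span_singleton'.2 ⟨_, rfl⟩

theorem exists_pow_mul_mem_germIdeal (hR : LocPrincipal R) {U : X.Opens} (hU : IsAffineOpen U) (h g : Γ(X, U))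
    (hg : ∀ (z : X) (hz : z ∈ U), z ∈ X.basicOpen h → X.presheaf.germ U z hz g ∈ R z) :
    ∃ n : ℕ, h ^ n * g ∈ germIdeal R U := by
  have hloc : ∀ y : U, ∃ (W : X.Opens) (_ : y.1 ∈ W) (hWU : W ≤ U) (n : ℕ), ∀ z : W,
      X.presheaf.germ U z.1 (hWU z.2) (h ^ n * g) ∈ R z.1 := fun y => by
    obtain ⟨W₀, hy₀, r, hr⟩ := hR y.1
    obtain ⟨W, hW, hyW, hWle⟩ := exists_isAffineOpen_mem_and_subset (show y.1 ∈ W₀.1 ⊓ U from ⟨hy₀, y.2⟩)
    have hW₀ : W ≤ W₀.1 := fun z hz => (hWle hz).1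
    have hWU : W ≤ U := fun z hz => (hWle hz).2
    let h' : Γ(X, W) := ro hWU h
    haveI := hW.isLocalization_basicOpen h'
    let r' : regSub X (X.basicOpen h') :=
      ⟨_, _root_.Mero.regSub_res (homOfLE ((X.basicOpen_le h').trans hW₀)) r.2⟩
    obtain ⟨q, hq⟩ := exists_mul_eq_of_germ_mem (ro ((X.basicOpen_le h').trans hWU) g) r' fun z => by
      have hzW : z.1 ∈ W := X.basicOpen_le h' z.2
      have hzh : z.1 ∈ X.basicOpen h := by
        have := (X.mem_basicOpen h' z.1 hzW).1 z.2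
        rw [TopCat.Presheaf.germ_res_apply] at this
        exact (X.mem_basicOpen h z.1 (hWU hzW)).2 this
      have h1 := hg z.1 (hWU hzW) hzh
      rw [hr ⟨z.1, hW₀ hzW⟩] at h1
      simp only [r', ro, TopCat.Presheaf.germ_res_apply] at h1 ⊢
      exact h1
    obtain ⟨⟨q', _, k, rfl⟩, hk⟩ := IsLocalization.surj (Submonoid.powers h') q
    have h0 : algebraMap Γ(X, W) Γ(X, X.basicOpen h') (h' ^ k * ro hWU g) =
        algebraMap Γ(X, W) Γ(X, X.basicOpen h') (q' * ro hW₀ r.1) := by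
      rw [map_mul, map_mul, ← hk]
      have e₁ : algebraMap Γ(X, W) Γ(X, X.basicOpen h') (ro hWU g) = ro ((X.basicOpen_le h').trans hWU) g :=
        Groth.L18.Frame.ro_ro _ _ _
      have e₂ : algebraMap Γ(X, W) Γ(X, X.basicOpen h') (ro hW₀ r.1) = r'.1 := Groth.L18.Frame.ro_ro _ _ _
      rw [e₁, e₂, ← hq]
      ring
    obtain ⟨⟨_, l, rfl⟩, hl⟩ := (IsLocalization.eq_iff_exists (Submonoid.powers h') _).1 h0
    refine ⟨W, hyW, hWU, l + k, fun z => ?_⟩
    rw [hr ⟨z.1, hW₀ z.2⟩]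
    refine Ideal.mem_span_singleton'.2 ⟨X.presheaf.germ W z.1 z.2 (h' ^ l * q'), ?_⟩
    have h3 := congrArg (X.presheaf.germ W z.1 z.2) hl
    simp only [h', ro, map_mul, map_pow, TopCat.Presheaf.germ_res_apply, TopCat.Presheaf.germ_res_apply'] at h3 ⊢
    rw [pow_add, mul_assoc, mul_assoc, ← h3]
  choose W hyW hWU n hn using hloc
  obtain ⟨t, ht⟩ := hU.isCompact.elim_finite_subcover (fun y : U => (W y : Set X))
    (fun y => (W y).2) fun x hx => Set.mem_iUnion.2 ⟨⟨x, hx⟩, hyW _⟩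
  refine ⟨t.sup n, (mem_germIdeal R).2 fun z => ?_⟩
  obtain ⟨y, hyt, hz⟩ := Set.mem_iUnion₂.1 (ht z.2)
  obtain ⟨k, hk⟩ := Nat.le.dest (Finset.le_sup (f := n) hyt)
  rw [← hk, add_comm, pow_add, mul_assoc, map_mul]
  exact Ideal.mul_mem_left _ _ (hn y ⟨z.1, hz⟩)

/-- The ideal sheaf. -/
def spanSheaf (hR : LocPrincipal R) : X.IdealSheafData where
  ideal U := germIdeal R U.1
  map_ideal_basicOpen U h := by
    refine le_antisymm (Ideal.map_le_iff_le_comap.2 fun f hf => (mem_germIdeal R).2 fun z => ?_) fun f hf => ?_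
    · show X.presheaf.germ _ z.1 z.2 (X.presheaf.map (homOfLE (X.basicOpen_le h)).op f) ∈ _
      refine Eq.mpr (congrArg (· ∈ R z.1) (TopCat.Presheaf.germ_res_apply X.presheaf
        (homOfLE (X.basicOpen_le h)) z.1 z.2 f)) ?_
      exact (mem_germIdeal R).1 hf ⟨z.1, X.basicOpen_le h z.2⟩
    letI := U.2.isLocalization_basicOpen h
    obtain ⟨⟨g, _, k, rfl⟩, hk⟩ := IsLocalization.surj (Submonoid.powers h) (f : Γ(X, X.basicOpen h))
    obtain ⟨n, hn⟩ := exists_pow_mul_mem_germIdeal hR U.2 h g fun z hz hzh => by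
      have h1 := congrArg (X.presheaf.germ (X.basicOpen h) z hzh) hk
      change _ = X.presheaf.germ (X.basicOpen h) z hzh (X.presheaf.map (homOfLE (X.basicOpen_le h)).op g) at h1
      rw [TopCat.Presheaf.germ_res_apply, map_mul] at h1
      rw [← h1]
      exact Ideal.mul_mem_right _ _ ((mem_germIdeal R).1 hf ⟨z, hzh⟩)
    have hu : IsUnit (algebraMap Γ(X, U.1) Γ(X, X.basicOpen h) (h ^ (n + k))) :=
      IsLocalization.map_units Γ(X, X.basicOpen h) (⟨_, n + k, rfl⟩ : Submonoid.powers h)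
    obtain ⟨d, hd⟩ := hu.exists_left_inv
    have hfd : f = d * algebraMap Γ(X, U.1) Γ(X, X.basicOpen h) (h ^ n * g) := by
      rw [map_mul, ← hk]
      calc f = (d * algebraMap Γ(X, U.1) Γ(X, X.basicOpen h) (h ^ (n + k))) * f := by rw [hd, one_mul]
        _ = _ := by rw [pow_add, map_mul]; ring
    rw [hfd]
    exact Ideal.mul_mem_left _ _ (Ideal.mem_map_of_mem _ hn)

theorem isEffCartier_spanSheaf (hR : LocPrincipal R) : BlowUp.IsEffCartierIdeal (spanSheaf hR) := fun y => by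
  obtain ⟨W, hy, r, hr⟩ := hR y
  exact ⟨W, hy, r.1, Groth.L22.Mero.mem_nonZeroDivisors_of_mem_regSub r.2, germIdeal_eq_span r hr⟩

end Groth.L21.Mero
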