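import Groth.Agent.L21.Mero.ClassMap
import Groth.Agent.S8863

/-!
Divisors on absolute curves.
-/

set_option autoImplicit false
set_option backward.isDefEq.respectTransparency false
set_option linter.style.haveILetI false
universe u

open CategoryTheory AlgebraicGeometry TopologicalSpace Opposite IsLocalRing
open Groth.L18.Frame (ro)

noncomputable section

namespace Groth.L21.Mero

open _root_.Mero (Divisor KStalk regStalk regSub regGerm kmod germOf supp IsEffective)

theorem frac_aux {G : Type*} [CommGroup G] (a b e : G) : a * b⁻¹ = a * e⁻¹ * (b * e⁻¹)⁻¹ := by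
  simp [mul_inv_rev, mul_assoc]

variable {C : Scheme.{u}} [IsNoetherian C]

/-- On an absolute curve a point is closed or maximal. -/
theorem maximal_or_isClosed (hC : ∀ x : C, IsClosed ({x} : Set C) → ringKrullDim (C.presheaf.stalk x) = 1) (x : C) :
    (∀ y : C, y ⤳ x → y = x) ∨ IsClosed ({x} : Set C) := by
  obtain ⟨x₀, hx₀, hx₀c⟩ := IsClosed.exists_closed_singleton (isClosed_closure (s := ({x} : Set C))) ⟨x, subset_closure rfl⟩
  have hxx₀ : x ⤳ x₀ := specializes_iff_mem_closure.2 hx₀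
  obtain ⟨q, hq⟩ : ∃ q, C.fromSpecStalk x₀ q = x := Scheme.range_fromSpecStalk.ge hxx₀
  haveI : Ring.KrullDimLE 1 (C.presheaf.stalk x₀) := Ring.krullDimLE_iff.2 (hC x₀ hx₀c).le
  rcases (Ring.krullDimLE_one_iff (R := C.presheaf.stalk x₀)).1 inferInstance q.asIdeal q.2 with h | h
  · refine Or.inl fun y hy => ?_
    obtain ⟨p, rfl⟩ : ∃ p, C.fromSpecStalk x₀ p = y := Scheme.range_fromSpecStalk.ge (hy.trans hxx₀)
    rw [← hq] at hy ⊢
    have hle : p.asIdeal ≤ q.asIdeal := (PrimeSpectrum.le_iff_specializes p q).2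
      ((C.fromSpecStalk x₀).isEmbedding.isInducing.specializes_iff.1 hy)
    rw [PrimeSpectrum.ext (le_antisymm hle (h.2 ⟨p.2, bot_le⟩ hle))]
  · refine Or.inr ?_
    rw [show q = IsLocalRing.closedPoint _ from PrimeSpectrum.ext (IsLocalRing.eq_maximalIdeal h),
      Scheme.fromSpecStalk_closedPoint] at hq
    rwa [← hq]

theorem isClosed_of_not_maximal (hC : ∀ x : C, IsClosed ({x} : Set C) → ringKrullDim (C.presheaf.stalk x) = 1)
    {x : C} (h : ¬ ∀ y : C, y ⤳ x → y = x) : IsClosed ({x} : Set C) :=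
  (maximal_or_isClosed hC x).resolve_left h

/-- Closed sets without maximal points are finite. -/
theorem finite_of_not_maximal (hC : ∀ x : C, IsClosed ({x} : Set C) → ringKrullDim (C.presheaf.stalk x) = 1)
    {Z : Set C} (hZ : IsClosed Z) (h : ∀ z ∈ Z, ¬ ∀ y : C, y ⤳ z → y = z) : Z.Finite := by
  obtain ⟨S, hSf, hSc, hSi, rfl⟩ := NoetherianSpace.exists_finite_set_isClosed_irreducible hZ
  refine hSf.sUnion fun T hT => ?_
  have hg := (hSi T hT).isGenericPoint_genericPoint (hSc T hT)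
  have hc := isClosed_of_not_maximal hC (h _ (Set.subset_sUnion_of_mem hT hg.mem))
  rw [← hg.def, hc.closure_eq]
  exact Set.finite_singleton _

/-- The failure locus of a regular section to be invertible. -/
theorem finite_nonunit (hC : ∀ x : C, IsClosed ({x} : Set C) → ringKrullDim (C.presheaf.stalk x) = 1)
    {W : C.Opens} (f : regSub C W) :
    {y : C | ∃ hy : y ∈ W, ¬ IsUnit (C.presheaf.germ W y hy f.1)}.Finite := by
  refine ((Set.Finite.union (finite_of_not_maximal hC (Z := closure {y : C | ∃ hy : y ∈ W, ¬ IsUnit (C.presheaf.germ W y hy f.1)})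
    isClosed_closure ?_) Set.finite_empty)).subset fun y hy => Or.inl (subset_closure hy)
  intro z hz hmax
  obtain ⟨S, hSf, hSc, hSi, hS⟩ := NoetherianSpace.exists_finite_set_isClosed_irreducible
    (isClosed_closure (s := {y : C | ∃ hy : y ∈ W, ¬ IsUnit (C.presheaf.germ W y hy f.1)}))
  have hz' := hz
  rw [hS] at hz'
  obtain ⟨T, hT, hzT⟩ := hz'
  by_cases hzW : z ∈ W
  · have hu := Groth.L22.isUnit_germ_of_maximal hzW hmax f.2
    have hmem : z ∈ (C.basicOpen f.1 : Set C) := (C.mem_basicOpen f.1 z hzW).2 hu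
    obtain ⟨w, hwU, ⟨hwW, hwu⟩⟩ := mem_closure_iff.1 hz _ (C.basicOpen f.1).2 hmem
    exact hwu ((C.mem_basicOpen f.1 w hwW).1 hwU)
  · -- a maximal point lies in the closure only if it lies in the set
    have hg := (hSi T hT).isGenericPoint_genericPoint (hSc T hT)
    have hzg : (hSi T hT).genericPoint = z := hmax _ (hg.specializes hzT)
    have hfin : (irreducibleComponents (C : Type u)).Finite := NoetherianSpace.finite_irreducibleComponents
    let O : Set C := (⋃ K ∈ irreducibleComponents (C : Type u) \ {closure {z}}, K)ᶜ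
    have hO : IsOpen O := ((hfin.diff).isClosed_biUnion fun K hK =>
      isClosed_of_mem_irreducibleComponents K hK.1).isOpen_compl
    have hzO : z ∈ O := by
      intro hmem
      obtain ⟨K, ⟨hK, hne⟩, hzK⟩ := Set.mem_iUnion₂.1 hmem
      have hgK := hK.1.isGenericPoint_genericPoint (isClosed_of_mem_irreducibleComponents K hK)
      exact hne (hgK.def.symm.trans (by rw [hmax _ (hgK.specializes hzK)]))
    obtain ⟨w, hwO, ⟨hwW, -⟩⟩ := mem_closure_iff.1 hz _ hO hzO
    obtain ⟨K, hK, hwK⟩ : ∃ K ∈ irreducibleComponents (C : Type u), w ∈ K :=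
      ⟨irreducibleComponent w, irreducibleComponent_mem_irreducibleComponents w, mem_irreducibleComponent⟩
    by_cases hKz : K = closure {z}
    · exact hzW ((specializes_iff_mem_closure.2 (hKz ▸ hwK)).mem_open W.2 hwW)
    · exact hwO (Set.mem_iUnion₂.2 ⟨K, ⟨hK, hKz⟩, hwK⟩)

theorem germ_eq_one_of_units {W : C.Opens} (a b : regSub C W) {y : W}
    (ha : IsUnit (C.presheaf.germ W y.1 y.2 a.1)) (hb : IsUnit (C.presheaf.germ W y.1 y.2 b.1)) :
    clsOf (regGerm y a) * (clsOf (regGerm y b))⁻¹ = 1 := by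
  rw [(clsOf_eq_one_iff _).2 ha, (clsOf_eq_one_iff _).2 hb, inv_one]
  exact mul_one (1 : _root_.Mero.Germ C y.1)

/-- Divisors with prescribed germs at finitely many closed points. -/
theorem exists_divisor_of_germs (hC : ∀ x : C, IsClosed ({x} : Set C) → ringKrullDim (C.presheaf.stalk x) = 1)
    {S : Set C} (hS : S.Finite) (hSc : ∀ x ∈ S, IsClosed ({x} : Set C)) (a b : ∀ x : C, regStalk C x) :
    ∃ D : Divisor C, (∀ x ∈ S, D.1 x = clsOf (a x) * (clsOf (b x))⁻¹) ∧ ∀ x, x ∉ S → D.1 x = 1 := by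
  classical
  let g : ∀ x : C, _root_.Mero.Germ C x := fun x => if x ∈ S then clsOf (a x) * (clsOf (b x))⁻¹ else 1
  have hSclosed : IsClosed S := by
    rw [← Set.biUnion_of_singleton S]
    exact hS.isClosed_biUnion hSc
  suffices hg : g ∈ _root_.Mero.divisorGroup C from
    ⟨⟨g, hg⟩, fun x hx => if_pos hx, fun x hx => if_neg hx⟩
  intro x
  by_cases hx : x ∈ S
  · obtain ⟨Ua, hxa, fa, hfa, hea⟩ := (a x).2
    obtain ⟨Ub, hxb, fb, hfb, heb⟩ := (b x).2
    let A : regSub C (Ua ⊓ Ub) := ⟨ro inf_le_left fa, _root_.Mero.regSub_res (homOfLE inf_le_left) hfa⟩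
    let B : regSub C (Ua ⊓ Ub) := ⟨ro inf_le_right fb, _root_.Mero.regSub_res (homOfLE inf_le_right) hfb⟩
    let bad : Set C := (({y | ∃ hy : y ∈ Ua ⊓ Ub, ¬ IsUnit (C.presheaf.germ _ y hy A.1)} ∪
      {y | ∃ hy : y ∈ Ua ⊓ Ub, ¬ IsUnit (C.presheaf.germ _ y hy B.1)}) ∪ S) \ {x}
    have hbad : IsClosed bad := by
      have hf : bad.Finite := (((finite_nonunit hC A).union (finite_nonunit hC B)).union hS).diff
      rw [← Set.biUnion_of_singleton bad]
      refine hf.isClosed_biUnion fun y hy => ?_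
      rcases hy.1 with (⟨hyW, hyu⟩ | ⟨hyW, hyu⟩) | hyS
      · exact isClosed_of_not_maximal hC fun h => hyu (Groth.L22.isUnit_germ_of_maximal hyW h A.2)
      · exact isClosed_of_not_maximal hC fun h => hyu (Groth.L22.isUnit_germ_of_maximal hyW h B.2)
      · exact hSc y hyS
    let W : C.Opens := (Ua ⊓ Ub) ⊓ ⟨badᶜ, hbad.isOpen_compl⟩
    let A' : regSub C W := ⟨ro inf_le_left A.1, _root_.Mero.regSub_res (homOfLE inf_le_left) A.2⟩
    let B' : regSub C W := ⟨ro inf_le_left B.1, _root_.Mero.regSub_res (homOfLE inf_le_left) B.2⟩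
    have hu : IsUnit (frac A'.1 B') := by
      refine IsUnit.of_mul_eq_one (frac B'.1 A') (Groth.L22.Mero.kmod_ext fun z => ?_)
      rw [_root_.Mero.kmod_mul_apply, _root_.Mero.kmod_one_apply]
      exact (LocalizedModule.mk_mul_mk.trans (_root_.Mero.mk_congr (mul_comm _ _) rfl)).trans
        (_root_.Mero.mk_self_eq_one (regGerm z B' * regGerm z A'))
    have hgerm : ∀ z : W, clsOf (regGerm z A') * (clsOf (regGerm z B'))⁻¹ = germOf hu.unit z := fun z => by
      rw [mul_inv_eq_iff_eq_mul, clsOf, clsOf, germOf, ← QuotientGroup.mk_mul]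
      refine congrArg _ (Units.ext ?_)
      rw [Units.val_mul]
      show j z.1 (C.presheaf.germ W z.1 z.2 A'.1) = LocalizedModule.mk _ _ * LocalizedModule.mk _ _
      rw [LocalizedModule.mk_mul_mk, j, Groth.L22.Mero.algebraMap_eq_mk, Groth.L22.Mero.mk_eq_mk_iff]
      simp
    refine ⟨W, ⟨⟨hxa, hxb⟩, fun h => h.2 rfl⟩, hu.unit, fun y => Eq.trans ?_ (hgerm y)⟩
    by_cases hyx : y.1 = x
    · obtain ⟨y, hyW⟩ := y
      obtain rfl : y = x := hyx
      show (if y ∈ S then clsOf (a y) * (clsOf (b y))⁻¹ else 1) = _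
      rw [if_pos hx]
      congr 3
      · exact Subtype.ext (by simp only [A', A, ro, TopCat.Presheaf.germ_res_apply, TopCat.Presheaf.germ_res_apply']; exact hea.symm)
      · exact Subtype.ext (by simp only [B', B, ro, TopCat.Presheaf.germ_res_apply, TopCat.Presheaf.germ_res_apply']; exact heb.symm)
    · have hynb : y.1 ∉ bad := y.2.2
      have hyS : y.1 ∉ S := fun h => hynb ⟨Or.inr h, hyx⟩
      show (if y.1 ∈ S then _ else 1) = _
      rw [if_neg hyS]
      refine (germ_eq_one_of_units A' B' ?_ ?_).symm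
      · by_contra hnu
        refine hynb ⟨Or.inl (Or.inl ⟨y.2.1, ?_⟩), hyx⟩
        simpa [A', ro, TopCat.Presheaf.germ_res_apply] using hnu
      · by_contra hnu
        refine hynb ⟨Or.inl (Or.inr ⟨y.2.1, ?_⟩), hyx⟩
        simpa [B', ro, TopCat.Presheaf.germ_res_apply] using hnu
  · refine ⟨⟨Sᶜ, hSclosed.isOpen_compl⟩, hx, 1, fun y => ?_⟩
    show (if y.1 ∈ S then _ else 1) = _
    rw [if_neg y.2, germOf, map_one, QuotientGroup.mk_one]

theorem finite_supp (hC : ∀ x : C, IsClosed ({x} : Set C) → ringKrullDim (C.presheaf.stalk x) = 1) (D : Divisor C) :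
    (supp D).Finite ∧ ∀ x ∈ supp D, IsClosed ({x} : Set C) := by
  choose W hxW a b hab using fun x => exists_local_frac D x
  have hmax : ∀ x ∈ supp D, ¬ ∀ y : C, y ⤳ x → y = x := fun x hx h =>
    hx ((hab x ⟨x, hxW x⟩).trans (germ_eq_one_of_units _ _
      (Groth.L22.isUnit_germ_of_maximal (hxW x) h (a x).2) (Groth.L22.isUnit_germ_of_maximal (hxW x) h (b x).2)))
  refine ⟨?_, fun x hx => isClosed_of_not_maximal hC (hmax x hx)⟩
  obtain ⟨t, ht⟩ := CompactSpace.isCompact_univ.elim_finite_subcover (fun x : C => (W x : Set C))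
    (fun x => (W x).2) fun x _ => Set.mem_iUnion.2 ⟨x, hxW x⟩
  refine (t.finite_toSet.biUnion fun x _ => (finite_nonunit hC (a x)).union (finite_nonunit hC (b x))).subset fun y hy => ?_
  obtain ⟨x, hxt, hyW⟩ := Set.mem_iUnion₂.1 (ht (Set.mem_univ y))
  refine Set.mem_biUnion hxt ?_
  by_contra hn
  rw [Set.mem_union, not_or] at hn
  refine hy ((hab x ⟨y, hyW⟩).trans (germ_eq_one_of_units _ _ ?_ ?_))
  · by_contra h; exact hn.1 ⟨hyW, h⟩
  · by_contra h; exact hn.2 ⟨hyW, h⟩

theorem exists_effective_div_effective (hC : ∀ x : C, IsClosed ({x} : Set C) → ringKrullDim (C.presheaf.stalk x) = 1)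
    (D : Divisor C) :
    ∃ D₁ D₂ : Divisor C, IsEffective D₁ ∧ IsEffective D₂ ∧ D = D₁ * D₂⁻¹ ∧ supp D₁ ⊆ supp D ∧ supp D₂ ⊆ supp D := by
  choose W hxW a b hab using fun x => exists_local_frac D x
  obtain ⟨hfin, hcl⟩ := finite_supp hC D
  obtain ⟨D₁, h₁, h₁'⟩ := exists_divisor_of_germs hC hfin hcl (fun x => regGerm ⟨x, hxW x⟩ (a x)) fun _ => 1
  obtain ⟨D₂, h₂, h₂'⟩ := exists_divisor_of_germs hC hfin hcl (fun x => regGerm ⟨x, hxW x⟩ (b x)) fun _ => 1
  refine ⟨D₁, D₂, fun x => ?_, fun x => ?_, Subtype.ext (funext fun x => ?_),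
    fun x hx => by_contra fun h => hx (h₁' x h), fun x hx => by_contra fun h => hx (h₂' x h)⟩
  · by_cases hx : x ∈ supp D
    · refine ⟨regGerm ⟨x, hxW x⟩ (a x), (h₁ x hx).trans ?_⟩
      rw [clsOf_one, inv_one]
      exact mul_one (clsOf (regGerm ⟨x, hxW x⟩ (a x)) : _root_.Mero.Germ C x)
    · exact isEffectiveAt_of_eq_one (h₁' x hx)
  · by_cases hx : x ∈ supp D
    · refine ⟨regGerm ⟨x, hxW x⟩ (b x), (h₂ x hx).trans ?_⟩
      rw [clsOf_one, inv_one]
      exact mul_one (clsOf (regGerm ⟨x, hxW x⟩ (b x)) : _root_.Mero.Germ C x)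
    · exact isEffectiveAt_of_eq_one (h₂' x hx)
  · show D.1 x = D₁.1 x * (D₂.1 x)⁻¹
    by_cases hx : x ∈ supp D
    · rw [h₁ x hx, h₂ x hx, hab x ⟨x, hxW x⟩]
      exact frac_aux (G := _root_.Mero.Germ C x) _ _ _
    · rw [h₁' x hx, h₂' x hx, Classical.not_not.1 hx]
      exact (mul_inv_cancel (1 : _root_.Mero.Germ C x)).symm

theorem exists_effective_meeting_components
    (hC : ∀ x : C, IsClosed ({x} : Set C) → ringKrullDim (C.presheaf.stalk x) = 1)
    (hpt : ∀ x : C, ¬ IsOpen ({x} : Set C)) (U : C.Opens) (hU : Dense (U : Set C)) :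
    ∃ D : Divisor C, IsEffective D ∧ supp D ⊆ (U : Set C) ∧
      ∀ Z ∈ irreducibleComponents (C : Type u), (supp D ∩ Z).Nonempty := by
  classical
  obtain ⟨t, ht⟩ := CompactSpace.isCompact_univ.elim_finite_subcover
    (fun V : C.affineOpens => ((V : C.Opens) : Set C)) (fun V => (V : C.Opens).2) fun x _ => by
      obtain ⟨V, hV, hxV, -⟩ := exists_isAffineOpen_mem_and_subset (x := x) (U := ⊤) trivial
      exact Set.mem_iUnion.2 ⟨⟨V, hV⟩, hxV⟩
  let A : Set C := {x | IsClosed ({x} : Set C) ∧ Curv2.IsWeakAssPoint (Coh.structureModule C) x}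
  have hAfin : A.Finite := (t.finite_toSet.biUnion fun V _ => finite_weakAss_affine V.2).subset fun x hx => by
    obtain ⟨V, hVt, hxV⟩ := Set.mem_iUnion₂.1 (ht (Set.mem_univ x))
    exact Set.mem_biUnion hVt ⟨hxV, hx.2⟩
  have hfin : (irreducibleComponents (C : Type u)).Finite := NoetherianSpace.finite_irreducibleComponents
  have hAcl : IsClosed A := by
    rw [← Set.biUnion_of_singleton A]
    exact hAfin.isClosed_biUnion fun x hx => hx.1
  have hpick : ∀ Z ∈ irreducibleComponents (C : Type u), ∃ x ∈ Z, x ∈ U ∧ ¬ (∀ y : C, y ⤳ x → y = x) ∧ x ∉ A := by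
    intro Z hZ
    have hg := hZ.1.isGenericPoint_genericPoint (isClosed_of_mem_irreducibleComponents Z hZ)
    set η := hZ.1.genericPoint
    have hmax : ∀ y : C, y ⤳ η → y = η := (maximal_iff_closure_mem η).1 (hg.def.symm ▸ hZ)
    let O : Set C := ((U : Set C) ∩ Aᶜ) ∩ (⋃ K ∈ irreducibleComponents (C : Type u) \ {Z}, K)ᶜ
    have hO : IsOpen O := (U.2.inter hAcl.isOpen_compl).inter ((hfin.diff).isClosed_biUnion fun K hK =>
      isClosed_of_mem_irreducibleComponents K hK.1).isOpen_compl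
    have hηU : η ∈ (U : Set C) := by
      by_contra hn
      let O' : Set C := (⋃ K ∈ irreducibleComponents (C : Type u) \ {Z}, K)ᶜ
      have hO' : IsOpen O' := ((hfin.diff).isClosed_biUnion fun K hK =>
        isClosed_of_mem_irreducibleComponents K hK.1).isOpen_compl
      have hηO : η ∈ O' := by
        intro hmem
        obtain ⟨K, ⟨hK, hne⟩, hηK⟩ := Set.mem_iUnion₂.1 hmem
        have hgK := hK.1.isGenericPoint_genericPoint (isClosed_of_mem_irreducibleComponents K hK)
        exact hne (hgK.def.symm.trans (by rw [hmax _ (hgK.specializes hηK)]; exact hg.def))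
      obtain ⟨w, hwO, hwU⟩ := mem_closure_iff.1 (hU η) O' hO' hηO
      obtain ⟨K, hK, hwK⟩ : ∃ K ∈ irreducibleComponents (C : Type u), w ∈ K :=
        ⟨irreducibleComponent w, irreducibleComponent_mem_irreducibleComponents w, mem_irreducibleComponent⟩
      by_cases hKZ : K = Z
      · exact hn ((hg.specializes (hKZ ▸ hwK)).mem_open U.2 hwU)
      · exact hwO (Set.mem_iUnion₂.2 ⟨K, ⟨hK, hKZ⟩, hwK⟩)
    have hηA : η ∉ A := fun h => hpt η (by
      refine isOpen_iff_forall_mem_open.2 fun y hy => ?_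
      obtain rfl : y = η := hy
      refine ⟨(⋃ K ∈ irreducibleComponents (C : Type u) \ {Z}, K)ᶜ, fun w hw => ?_, ((hfin.diff).isClosed_biUnion
        fun K hK => isClosed_of_mem_irreducibleComponents K hK.1).isOpen_compl, ?_⟩
      · obtain ⟨K, hK, hwK⟩ : ∃ K ∈ irreducibleComponents (C : Type u), w ∈ K :=
          ⟨irreducibleComponent w, irreducibleComponent_mem_irreducibleComponents w, mem_irreducibleComponent⟩
        by_cases hKZ : K = Z
        · rw [hKZ, ← hg.def, h.1.closure_eq] at hwK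
          exact hwK
        · exact absurd (Set.mem_iUnion₂.2 ⟨K, ⟨hK, hKZ⟩, hwK⟩) hw
      · intro hmem
        obtain ⟨K, ⟨hK, hne⟩, hηK⟩ := Set.mem_iUnion₂.1 hmem
        have hgK := hK.1.isGenericPoint_genericPoint (isClosed_of_mem_irreducibleComponents K hK)
        exact hne (hgK.def.symm.trans (by rw [hmax _ (hgK.specializes hηK)]; exact hg.def)))
    have hηO : η ∈ O := by
      refine ⟨⟨hηU, hηA⟩, fun hmem => ?_⟩
      obtain ⟨K, ⟨hK, hne⟩, hηK⟩ := Set.mem_iUnion₂.1 hmem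
      have hgK := hK.1.isGenericPoint_genericPoint (isClosed_of_mem_irreducibleComponents K hK)
      exact hne (hgK.def.symm.trans (by rw [hmax _ (hgK.specializes hηK)]; exact hg.def))
    obtain ⟨x, hxO, hxη⟩ : ∃ x ∈ O, x ≠ η := by
      by_contra hn
      push Not at hn
      exact hpt η ((show ({η} : Set C) = O from Set.Subset.antisymm (Set.singleton_subset_iff.2 hηO) hn) ▸ hO)
    have hxZ : x ∈ Z := by
      obtain ⟨K, hK, hxK⟩ : ∃ K ∈ irreducibleComponents (C : Type u), x ∈ K :=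
        ⟨irreducibleComponent x, irreducibleComponent_mem_irreducibleComponents x, mem_irreducibleComponent⟩
      by_cases hKZ : K = Z
      · exact hKZ ▸ hxK
      · exact absurd (Set.mem_iUnion₂.2 ⟨K, ⟨hK, hKZ⟩, hxK⟩) hxO.2
    exact ⟨x, hxZ, hxO.1.1, fun h => hxη (h η (hg.specializes hxZ)).symm, hxO.1.2⟩
  choose p hpZ hpU hpm hpA using hpick
  let S : Set C := {x | ∃ Z hZ, x = p Z hZ}
  have hSfin : S.Finite := by
    haveI := hfin.to_subtype
    exact (Set.finite_range fun Z : irreducibleComponents (C : Type u) => p Z.1 Z.2).subset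
      fun x ⟨Z, hZ, he⟩ => ⟨⟨Z, hZ⟩, he.symm⟩
  have hScl : ∀ x ∈ S, IsClosed ({x} : Set C) := fun x ⟨Z, hZ, he⟩ =>
    he ▸ isClosed_of_not_maximal hC (hpm Z hZ)
  have hr : ∀ x : C, ∃ r : regStalk C x, x ∈ S → ¬ IsUnit (r : C.presheaf.stalk x) := fun x => by
    by_cases hx : x ∈ S
    · obtain ⟨r, hr, hrr⟩ | ⟨w, hw0, hw⟩ :=
        Groth.L04.exists_regular_or_killed (maximalIdeal (C.presheaf.stalk x)) (C.presheaf.stalk x)
      · refine ⟨⟨r, ?_⟩, fun _ => hr⟩
        rw [Groth.Agent.S8863.result C x]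
        exact mem_nonZeroDivisors_iff_right.2 fun z hz => hrr.right_eq_zero_of_smul (by
          rw [smul_eq_mul, mul_comm]; exact hz)
      · exfalso
        obtain ⟨Z, hZ, he⟩ := hx
        have h1 := (Groth.Agent.S5752.result _ _).1 (Groth.L01.depth_eq_zero_of_smul_eq_zero hw0 hw)
        have h2 : Curv2.IsWeakAssPoint (Coh.structureModule C) x := by
          obtain ⟨-, a, ha⟩ := h1
          refine (Groth.L22.isWeakAssPoint_iff x).2 ⟨a, ?_⟩
          refine Eq.trans ?_ ha.symm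
          congr 1
          ext c
          rw [Groth.L03.WeakAss.mem_annE, Submodule.mem_colon_singleton, Submodule.mem_bot]
        exact hpA Z hZ (he ▸ (⟨hScl x ⟨Z, hZ, he⟩, h2⟩ : x ∈ A))
    · exact ⟨1, fun h => absurd h hx⟩
  choose r hru using hr
  obtain ⟨D, hD, hD'⟩ := exists_divisor_of_germs hC hSfin hScl r fun _ => 1
  have heq : ∀ x ∈ S, D.1 x = clsOf (r x) := fun x hx => by
    rw [hD x hx, clsOf_one, inv_one]
    exact mul_one (clsOf (r x) : _root_.Mero.Germ C x)
  refine ⟨D, fun x => ?_, fun x hx => ?_, fun Z hZ => ⟨p Z hZ, fun h => hru _ ⟨Z, hZ, rfl⟩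
    ((clsOf_eq_one_iff _).1 ((heq _ ⟨Z, hZ, rfl⟩).symm.trans h)), hpZ Z hZ⟩⟩
  · by_cases hx : x ∈ S
    · exact ⟨r x, heq x hx⟩
    · exact isEffectiveAt_of_eq_one (hD' x hx)
  · by_contra hxU
    exact hx (hD' x fun ⟨Z, hZ, he⟩ => hxU (he ▸ hpU Z hZ))

end Groth.L21.Mero
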