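import Groth.Agent.L21.Mero.Zero
import Groth.Agent.L06.QuotRegular
import Groth.Agent.L22.Cyc.OrdGen
import Groth.Agent.L04.Depth

/-!
Effectivity of divisors is checked in depth one.
-/

set_option autoImplicit false
set_option backward.isDefEq.respectTransparency false
set_option linter.style.haveILetI false
universe u

open CategoryTheory AlgebraicGeometry TopologicalSpace Opposite IsLocalRing
open Groth.L18.Frame (ro)

noncomputable section

namespace Groth.L21.Mero

open _root_.Mero (Divisor KStalk regStalk regSub regGerm kmod evalK toK IsEffectiveAt germOf)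

/-- In depth different from one, a principal ideal contains what a power of the maximal ideal carries into it. -/
theorem mem_span_of_pow_mul_mem {A : Type u} [CommRing A] [IsLocalRing A] [IsNoetherianRing A]
    (hd : LocCoh.depth A A ≠ 1) {a b : A} (hb : b ∈ nonZeroDivisors A) {n : ℕ}
    (h : ∀ r ∈ maximalIdeal A ^ n, r * a ∈ Ideal.span {b}) : a ∈ Ideal.span {b} := by
  by_cases hbu : IsUnit b
  · rw [Ideal.span_singleton_eq_top.2 hbu]; trivial
  have hbm : b ∈ maximalIdeal A := hbu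
  have hne : Ideal.span {b} ≠ (⊤ : Ideal A) := fun h => hbu (Ideal.span_singleton_eq_top.1 h)
  haveI := Groth.L01.isLocalRing_quotient hne
  have hreg : IsSMulRegular A b := fun y z hyz =>
    (mul_cancel_left_mem_nonZeroDivisors hb).1 hyz
  have hdd := (Groth.L06.QuotRegular.dim_depth_succ A hbm hreg).2
  obtain ⟨r, hr, hrr⟩ | ⟨w, hw0, hw⟩ :=
    Groth.L04.exists_regular_or_killed (maximalIdeal A) (A ⧸ Ideal.span {b})
  · refine Ideal.Quotient.eq_zero_iff_mem.1 ((hrr.pow n).right_eq_zero_of_smul ?_)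
    show (r ^ n) • Ideal.Quotient.mk (Ideal.span {b}) a = 0
    exact Ideal.Quotient.eq_zero_iff_mem.2 (h _ (Ideal.pow_mem_pow hr n))
  · exfalso
    refine hd ?_
    rw [← hdd, Groth.L01.depth_eq_zero_of_smul_eq_zero (m := w) hw0 fun z hz => ?_, zero_add]
    obtain ⟨r, rfl⟩ := Ideal.Quotient.mk_surjective z
    refine (Algebra.smul_def r w).symm.trans (hw r ?_)
    exact fun hu => hz (hu.map _)

theorem isUnit_of_depth_eq_zero {A : Type u} [CommRing A] [IsLocalRing A] [IsNoetherianRing A]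
    (hd : LocCoh.depth A A = 0) {b : A} (hb : b ∈ nonZeroDivisors A) : IsUnit b := by
  obtain ⟨r, hr, hrr⟩ | ⟨w, hw0, hw⟩ := Groth.L04.exists_regular_or_killed (maximalIdeal A) A
  · have h1 := Groth.L04.one_le_idealDepth_of_regular hr hrr
    rw [← LocCoh.depth, hd] at h1
    exact absurd h1 (by simp)
  · by_contra hbu
    refine hw0 (mem_nonZeroDivisors_iff.1 hb |>.1 w ?_)
    exact hw b hbu

variable {X : Scheme.{u}}

theorem clsOf_mul {x : X} (a b : regStalk X x) : clsOf (a * b) = clsOf a * clsOf b := by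
  rw [clsOf, clsOf, clsOf, ← QuotientGroup.mk_mul]
  exact congrArg _ (Units.ext (map_mul _ _ _))

theorem clsOf_one (x : X) : clsOf (1 : regStalk X x) = 1 := by
  rw [clsOf, QuotientGroup.eq_one_iff]
  exact ⟨1, Units.ext rfl⟩

theorem clsOf_eq_one_iff {x : X} (a : regStalk X x) : clsOf a = 1 ↔ IsUnit (a : X.presheaf.stalk x) := by
  rw [clsOf, QuotientGroup.eq_one_iff]
  constructor
  · rintro ⟨v, hv⟩
    rw [← j_injective x (congrArg Units.val hv : j x v = j x a)]
    exact v.isUnit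
  · exact fun h => ⟨h.unit, Units.ext rfl⟩

theorem exists_mul_of_clsOf_eq {x : X} {a b : regStalk X x} (h : clsOf a = clsOf b) :
    ∃ v : X.presheaf.stalk x, IsUnit v ∧ (b : X.presheaf.stalk x) = a * v := by
  obtain ⟨v, hv⟩ := QuotientGroup.eq.1 h
  refine ⟨v, v.isUnit, j_injective x ?_⟩
  have h1 := congrArg Units.val hv
  rw [Units.val_mul, eq_comm, Units.inv_mul_eq_iff_eq_mul] at h1
  rw [map_mul]
  exact h1

theorem mem_regStalk_of_mul_mem {x : X} {t c : X.presheaf.stalk x} (h : t * c ∈ regStalk X x) :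
    t ∈ regStalk X x := by
  obtain ⟨U, hxU, f, hf, he⟩ := h
  obtain ⟨V, hxV, s, rfl⟩ := TopCat.Presheaf.exists_germ_eq X.presheaf t
  obtain ⟨V', hxV', s', rfl⟩ := TopCat.Presheaf.exists_germ_eq X.presheaf c
  have h1 : X.presheaf.germ U x hxU f = X.presheaf.germ (V ⊓ V') x ⟨hxV, hxV'⟩
      (ro inf_le_left s * ro inf_le_right s') := by
    rw [map_mul, TopCat.Presheaf.germ_res_apply, TopCat.Presheaf.germ_res_apply]
    exact he
  obtain ⟨W, hxW, i₁, i₂, he'⟩ := X.presheaf.germ_eq x hxU (show x ∈ V ⊓ V' from ⟨hxV, hxV'⟩) _ _ h1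
  have hW : W ≤ V := fun z hz => (show z ∈ V ⊓ V' from i₂.le hz).1
  refine ⟨W, hxW, ro hW s, fun y => ?_, TopCat.Presheaf.germ_res_apply _ _ _ _ _⟩
  have h2 := _root_.Mero.regSub_res i₁ hf y
  rw [he'] at h2
  simp only [ro, TopCat.Presheaf.germ_res_apply] at h2 ⊢
  rw [map_mul, TopCat.Presheaf.germ_res_apply, TopCat.Presheaf.germ_res_apply] at h2
  exact (mul_mem_nonZeroDivisors.1 h2).1

theorem exists_local_frac (D : Divisor X) (x : X) :
    ∃ (W : X.Opens) (_ : x ∈ W) (a b : regSub X W),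
      ∀ y : W, D.1 y.1 = clsOf (regGerm y a) * (clsOf (regGerm y b))⁻¹ := by
  obtain ⟨U, hxU, f, hf⟩ := D.2 x
  obtain ⟨W₁, hx₁, i₁, m, b, w⟩ := (↑f : Γ(kmod X, U)).2 ⟨x, hxU⟩
  obtain ⟨W₂, hx₂, i₂, m', b', w'⟩ := (↑f⁻¹ : Γ(kmod X, U)).2 ⟨x, hxU⟩
  have hm : ro (inf_le_left : W₁ ⊓ W₂ ≤ W₁) m ∈ regSub X (W₁ ⊓ W₂) := fun y => by
    have h0 : evalK X U ⟨y.1, i₁.le y.2.1⟩ (↑f : Γ(kmod X, U)) *
        evalK X U ⟨y.1, i₁.le y.2.1⟩ (↑f⁻¹ : Γ(kmod X, U)) = 1 :=
      ((map_mul _ _ _).symm.trans (congrArg _ f.mul_inv)).trans (map_one _)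
    have h1 : (LocalizedModule.mk (X.presheaf.germ W₁ y.1 y.2.1 m) (regGerm ⟨y.1, y.2.1⟩ b) : KStalk X y.1) *
        LocalizedModule.mk (X.presheaf.germ W₂ y.1 y.2.2 m') (regGerm ⟨y.1, y.2.2⟩ b') = 1 := by
      rw [← w ⟨y.1, y.2.1⟩, ← w' ⟨y.1, y.2.2⟩]
      exact h0
    rw [LocalizedModule.mk_mul_mk, ← map_one (algebraMap (X.presheaf.stalk y.1) (KStalk X y.1)),
      Groth.L22.Mero.algebraMap_eq_mk, Groth.L22.Mero.mk_eq_mk_iff, Submonoid.coe_one, mul_one, one_mul] at h1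
    have h2 : X.presheaf.germ W₁ y.1 y.2.1 m * X.presheaf.germ W₂ y.1 y.2.2 m' ∈
        nonZeroDivisors (X.presheaf.stalk y.1) :=
      h1.symm ▸ _root_.Mero.regStalk_le_nonZeroDivisors y.1 (regGerm ⟨y.1, y.2.1⟩ b * regGerm ⟨y.1, y.2.2⟩ b').2
    rw [ro, TopCat.Presheaf.germ_res_apply]
    exact (mul_mem_nonZeroDivisors.1 h2).1
  refine ⟨W₁ ⊓ W₂, ⟨hx₁, hx₂⟩, ⟨_, hm⟩,
    ⟨_, _root_.Mero.regSub_res (homOfLE inf_le_left) b.2⟩, fun y => ?_⟩
  rw [hf ⟨y.1, i₁.le y.2.1⟩, eq_mul_inv_iff_mul_eq, clsOf, clsOf, germOf, ← QuotientGroup.mk_mul]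
  refine congrArg _ (Units.ext ?_)
  rw [Units.val_mul]
  show evalK X U ⟨y.1, i₁.le y.2.1⟩ (↑f : Γ(kmod X, U)) * _ = _
  rw [show evalK X U ⟨y.1, i₁.le y.2.1⟩ (↑f : Γ(kmod X, U)) = LocalizedModule.mk
    (X.presheaf.germ W₁ y.1 y.2.1 m) (regGerm ⟨y.1, y.2.1⟩ b) from w ⟨y.1, y.2.1⟩]
  simp only [IsUnit.unit_spec]
  rw [Groth.L22.Mero.algebraMap_eq_mk, Groth.L22.Mero.algebraMap_eq_mk, LocalizedModule.mk_mul_mk,
    Groth.L22.Mero.mk_eq_mk_iff]
  simp [ro]

theorem isEffectiveAt_of_eq_one {D : Divisor X} {x : X} (h : D.1 x = 1) : IsEffectiveAt D x :=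
  ⟨1, h.trans (clsOf_one x).symm⟩

theorem eq_one_of_effective_both {D : Divisor X} {x : X} (h : IsEffectiveAt D x) (h' : IsEffectiveAt D⁻¹ x) :
    D.1 x = 1 := by
  obtain ⟨a, ha⟩ := h
  obtain ⟨b, hb⟩ := h'
  have h1 : clsOf (a * b) = 1 := by
    rw [clsOf_mul]
    exact (congrArg₂ (· * ·) ha hb).symm.trans (mul_inv_cancel (D.1 x))
  rw [clsOf_eq_one_iff, Submonoid.coe_mul] at h1
  exact ha.trans ((clsOf_eq_one_iff a).2 (isUnit_of_mul_isUnit_left h1))

theorem isEffectiveAt_iff_mem {D : Divisor X} {x : X} {a b : regStalk X x}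
    (h : D.1 x = clsOf a * (clsOf b)⁻¹) :
    IsEffectiveAt D x ↔ (a : X.presheaf.stalk x) ∈ Ideal.span {(b : X.presheaf.stalk x)} := by
  rw [Ideal.mem_span_singleton']
  constructor
  · rintro ⟨c, hc⟩
    have h1 : clsOf (c * b) = clsOf a := by
      rw [clsOf_mul, ← eq_mul_inv_iff_mul_eq, ← h]
      exact hc.symm
    obtain ⟨v, -, hv⟩ := exists_mul_of_clsOf_eq h1
    exact ⟨c * v, by rw [hv, Submonoid.coe_mul, mul_right_comm]⟩
  · rintro ⟨t, ht⟩
    have htr : t ∈ regStalk X x := mem_regStalk_of_mul_mem (c := b) (ht.symm ▸ a.2)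
    refine ⟨⟨t, htr⟩, h.trans ?_⟩
    rw [mul_inv_eq_iff_eq_mul]
    exact (congrArg clsOf (Subtype.ext ht.symm : a = ⟨t, htr⟩ * b)).trans (clsOf_mul _ _)

/-- Effectivity on the punctured spectrum extends to a point of depth different from one. -/
theorem isEffectiveAt_of_depth_ne_one [IsLocallyNoetherian X] {D : Divisor X} {x : X}
    (hd : LocCoh.depth (X.presheaf.stalk x) (X.presheaf.stalk x) ≠ 1)
    (h : ∀ z : X, z ⤳ x → z ≠ x → IsEffectiveAt D z) : IsEffectiveAt D x := by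
  obtain ⟨W, hxW, a, b, hab⟩ := exists_local_frac D x
  rw [isEffectiveAt_iff_mem (hab ⟨x, hxW⟩)]
  set A := X.presheaf.germ W x hxW a.1
  set B := X.presheaf.germ W x hxW b.1
  let J := Submodule.colon (Ideal.span {B}) {A}
  have hrad : maximalIdeal (X.presheaf.stalk x) ≤ J.radical := by
    rw [Ideal.radical_eq_sInf]
    refine le_sInf fun Q hQ => ?_
    obtain ⟨hJQ, hQp⟩ := hQ
    let q : Spec (X.presheaf.stalk x) := ⟨Q, hQp⟩
    have hsp : X.fromSpecStalk x q ⤳ x := Scheme.range_fromSpecStalk.le ⟨q, rfl⟩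
    have hker : RingHom.ker (Cyc.specMap x (X.fromSpecStalk x q) hsp) = Q := by
      have h1 : X.fromSpecStalk x (Spec.map (X.presheaf.stalkSpecializes hsp) (IsLocalRing.closedPoint _)) =
          X.fromSpecStalk x q := by
        rw [← Scheme.Hom.comp_apply, Scheme.SpecMap_stalkSpecializes_fromSpecStalk,
          Scheme.fromSpecStalk_closedPoint]
      refine Eq.trans ?_ (congrArg PrimeSpectrum.asIdeal ((X.fromSpecStalk x).isEmbedding.injective h1))
      ext c
      exact (IsLocalRing.residue_eq_zero_iff _).trans Iff.rfl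
    by_cases hne : X.fromSpecStalk x q = x
    · have h2 : q = IsLocalRing.closedPoint _ := (X.fromSpecStalk x).isEmbedding.injective
        (hne.trans Scheme.fromSpecStalk_closedPoint.symm)
      exact (congrArg PrimeSpectrum.asIdeal h2).ge
    · exfalso
      have hzW : X.fromSpecStalk x q ∈ W := hsp.mem_open W.2 hxW
      obtain ⟨c, hc⟩ := Ideal.mem_span_singleton'.1
        ((isEffectiveAt_iff_mem (hab ⟨_, hzW⟩)).1 (h _ hsp hne))
      letI := (X.presheaf.stalkSpecializes hsp).hom.toAlgebra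
      haveI : (RingHom.ker (Cyc.specMap x (X.fromSpecStalk x q) hsp)).IsPrime := RingHom.ker_isPrime _
      haveI := Groth.L22.Cyc.isLocalization_stalkSpecializes hsp
      obtain ⟨⟨s, t⟩, hst⟩ := IsLocalization.surj
        (RingHom.ker (Cyc.specMap x (X.fromSpecStalk x q) hsp)).primeCompl c
      have hA : algebraMap (X.presheaf.stalk x) (X.presheaf.stalk (X.fromSpecStalk x q)) A =
          X.presheaf.germ W (X.fromSpecStalk x q) hzW a.1 :=
        TopCat.Presheaf.germ_stalkSpecializes_apply (F := X.presheaf) hxW hsp _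
      have hB : algebraMap (X.presheaf.stalk x) (X.presheaf.stalk (X.fromSpecStalk x q)) B =
          X.presheaf.germ W (X.fromSpecStalk x q) hzW b.1 :=
        TopCat.Presheaf.germ_stalkSpecializes_apply (F := X.presheaf) hxW hsp _
      have h3 : algebraMap (X.presheaf.stalk x) (X.presheaf.stalk (X.fromSpecStalk x q)) ((t : X.presheaf.stalk x) * A) =
          algebraMap _ _ (s * B) := by
        rw [map_mul, map_mul, hA, hB, ← hst, mul_comm]
        exact (congrArg (· * _) hc).symm.trans (mul_right_comm _ _ _)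
      obtain ⟨u, hu⟩ := (IsLocalization.eq_iff_exists
        (RingHom.ker (Cyc.specMap x (X.fromSpecStalk x q) hsp)).primeCompl _).1 h3
      refine (u * t).2 (hker.ge (hJQ (Submodule.mem_colon_singleton.2 ?_)))
      rw [smul_eq_mul, Submonoid.coe_mul, mul_assoc, hu, ← mul_assoc]
      exact Ideal.mem_span_singleton'.2 ⟨_, rfl⟩
  obtain ⟨n, hn⟩ := Ideal.exists_radical_pow_le_of_fg J (IsNoetherian.noetherian J.radical)
  exact mem_span_of_pow_mul_mem hd (b.2 ⟨x, hxW⟩)
    fun r hr => Submodule.mem_colon_singleton.1 (hn (Ideal.pow_right_mono hrad n hr))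

/-- Every point in a set has a generisation in the set minimal for this property. -/
theorem exists_maximal_generisation [IsLocallyNoetherian X] {S : Set X} {x : X} (hx : x ∈ S) :
    ∃ y : X, y ⤳ x ∧ y ∈ S ∧ ∀ z : X, z ∈ S → z ⤳ y → z = y := by
  let T : Set (Spec (X.presheaf.stalk x)) := (X.fromSpecStalk x) ⁻¹' S
  have hne : T.Nonempty := ⟨IsLocalRing.closedPoint _, by
    show X.fromSpecStalk x _ ∈ S
    rw [Scheme.fromSpecStalk_closedPoint]; exact hx⟩
  obtain ⟨p, hpT, hmin⟩ := (InvImage.wf (fun p : Spec (X.presheaf.stalk x) => p.asIdeal.height)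
    (wellFounded_lt (α := ℕ∞))).has_min T hne
  have hpx : X.fromSpecStalk x p ⤳ x := Scheme.range_fromSpecStalk.le ⟨p, rfl⟩
  refine ⟨_, hpx, hpT, fun z hz hzp => ?_⟩
  obtain ⟨q, rfl⟩ : ∃ q, X.fromSpecStalk x q = z := Scheme.range_fromSpecStalk.ge (hzp.trans hpx)
  have hle : q.asIdeal ≤ p.asIdeal := (PrimeSpectrum.le_iff_specializes q p).2
    ((X.fromSpecStalk x).isEmbedding.isInducing.specializes_iff.1 hzp)
  rcases hle.eq_or_lt with h | h
  · rw [PrimeSpectrum.ext h]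
  · haveI := q.2; haveI := p.2
    exact absurd (Ideal.height_strict_mono_of_isPrime h) (hmin q hz)

theorem isEffective_of_depth_one [IsLocallyNoetherian X] (D : Divisor X)
    (h : ∀ x : X, LocCoh.depth (X.presheaf.stalk x) (X.presheaf.stalk x) = 1 → IsEffectiveAt D x) :
    _root_.Mero.IsEffective D := by
  intro x
  by_contra hx
  obtain ⟨y, -, hy, hmax⟩ := exists_maximal_generisation (S := {z | ¬ IsEffectiveAt D z}) hx
  by_cases hd : LocCoh.depth (X.presheaf.stalk y) (X.presheaf.stalk y) = 1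
  · exact hy (h y hd)
  · exact hy (isEffectiveAt_of_depth_ne_one hd fun z hz hne => by_contra fun hn => hne (hmax z hn hz))

end Groth.L21.Mero
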