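import Groth.Agent.L22.WeakAssPoints
import Groth.Agent.L21.Mero.DepthOne
import Groth.Agent.S5752

/-!
Associated points and regular sections on locally Noetherian schemes.
-/

set_option autoImplicit false
set_option backward.isDefEq.respectTransparency false
universe u

open CategoryTheory AlgebraicGeometry TopologicalSpace IsLocalRing

noncomputable section

namespace Groth.L21.Mero

variable {X : Scheme.{u}}

theorem assPoint_of_weakAss [IsLocallyNoetherian X] {x : X}
    (hx : Curv2.IsWeakAssPoint (Coh.structureModule X) x) :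
    IsAssociatedPrime (maximalIdeal (X.presheaf.stalk x)) (X.presheaf.stalk x) := by
  obtain ⟨a, ha⟩ := (Groth.L22.isWeakAssPoint_iff x).1 hx
  refine (Groth.Agent.S5752.result _ _).1 ?_
  obtain ⟨r, hr, hrr⟩ | ⟨w, hw0, hw⟩ :=
    Groth.L04.exists_regular_or_killed (maximalIdeal (X.presheaf.stalk x)) (X.presheaf.stalk x)
  · exfalso
    obtain ⟨n, hn⟩ := ha.ge hr
    have ha0 : a = 0 := (hrr.pow n).right_eq_zero_of_smul (Groth.L03.WeakAss.mem_annE.1 hn)
    subst ha0
    have h1 : (1 : X.presheaf.stalk x) ∈
        (Groth.L03.WeakAss.annE (X.presheaf.stalk x) (0 : X.presheaf.stalk x)).radical :=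
      Ideal.le_radical (Groth.L03.WeakAss.mem_annE.2 (smul_zero _))
    rw [ha, IsLocalRing.mem_maximalIdeal] at h1
    exact h1 isUnit_one
  · exact Groth.L01.depth_eq_zero_of_smul_eq_zero hw0 hw

theorem isUnit_of_assPoint [IsLocallyNoetherian X] {x : X}
    (hx : IsAssociatedPrime (maximalIdeal (X.presheaf.stalk x)) (X.presheaf.stalk x))
    {g : X.presheaf.stalk x} (hg : g ∈ nonZeroDivisors (X.presheaf.stalk x)) : IsUnit g :=
  isUnit_of_depth_eq_zero ((Groth.Agent.S5752.result _ _).2 hx) hg

end Groth.L21.Mero
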