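import Groth.Agent.L22.Mero
import Groth.Agent.L18.Frame
import Groth.Agent.L18.GenLocus
import Groth.Agent.L20.ModStalk
import Groth.Prelude.Def_MeroDiv

/-!
`O_X(D)`: local frames, invertibility, morphisms given by multiplication.
-/

set_option autoImplicit false
set_option backward.isDefEq.respectTransparency false
universe u

open CategoryTheory AlgebraicGeometry TopologicalSpace Opposite
open Groth.L18.Frame (IsFrame rs ro)

noncomputable section

namespace Groth.L21.Mero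

open _root_.Mero (Divisor KStalk kmod divMod DivCond germOf evalK toK)

variable {X : Scheme.{u}}

/-- The local ring inside the meromorphic stalk. -/
abbrev j (x : X) : X.presheaf.stalk x →+* KStalk X x := algebraMap (X.presheaf.stalk x) (KStalk X x)

theorem j_injective (x : X) : Function.Injective (j x) := _root_.Mero.algebraMap_KStalk_injective x

/-- The image of a function in a meromorphic section, pointwise. -/
theorem exists_section_of_range {V : X.Opens} (s : Γ(kmod X, V)) (h : ∀ y : V, s.1 y ∈ (j y.1).range) :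
    ∃ a : Γ(X, V), ∀ y : V, s.1 y = j y.1 (X.presheaf.germ V y.1 y.2 a) := by
  have hloc : ∀ y : V, ∃ (W : X.Opens) (hW : W ≤ V) (_ : y.1 ∈ W) (a : Γ(X, W)),
      ∀ z : W, s.1 ⟨z.1, hW z.2⟩ = j z.1 (X.presheaf.germ W z.1 z.2 a) := fun y => by
    obtain ⟨W, hyW, i, m, b, w⟩ := s.2 y
    obtain ⟨c, hc⟩ := h y
    obtain ⟨W', hyW', a, rfl⟩ := TopCat.Presheaf.exists_germ_eq X.presheaf c
    have h1 : X.presheaf.germ (W ⊓ W') y.1 ⟨hyW, hyW'⟩ (ro inf_le_left m) =
        X.presheaf.germ (W ⊓ W') y.1 ⟨hyW, hyW'⟩ (ro inf_le_right a * ro inf_le_left b.1) := by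
      have h2 : s.1 y = LocalizedModule.mk (X.presheaf.germ W y.1 hyW m) (_root_.Mero.regGerm ⟨y.1, hyW⟩ b) :=
        w ⟨y.1, hyW⟩
      rw [← hc, Groth.L22.Mero.algebraMap_eq_mk, Groth.L22.Mero.mk_eq_mk_iff, Submonoid.coe_one, mul_one] at h2
      rw [map_mul, TopCat.Presheaf.germ_res_apply, TopCat.Presheaf.germ_res_apply, TopCat.Presheaf.germ_res_apply]
      exact h2.symm
    obtain ⟨W'', hy'', i₁, i₂, he⟩ := X.presheaf.germ_eq y.1 (show y.1 ∈ W ⊓ W' from ⟨hyW, hyW'⟩) (show y.1 ∈ W ⊓ W' from ⟨hyW, hyW'⟩) _ _ h1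
    have hW₁ : W'' ≤ W := fun z hz => (show z ∈ W ⊓ W' from i₁.le hz).1
    have hW₂ : W'' ≤ W' := fun z hz => (show z ∈ W ⊓ W' from i₁.le hz).2
    refine ⟨W'', fun z hz => i.le (hW₁ hz), hy'', ro hW₂ a, fun z => ?_⟩
    have h3 : s.1 ⟨z.1, i.le (hW₁ z.2)⟩ = LocalizedModule.mk (X.presheaf.germ W z.1 (hW₁ z.2) m)
        (_root_.Mero.regGerm ⟨z.1, hW₁ z.2⟩ b) := w ⟨z.1, hW₁ z.2⟩
    rw [h3, Groth.L22.Mero.algebraMap_eq_mk, Groth.L22.Mero.mk_eq_mk_iff, Submonoid.coe_one, mul_one]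
    have h4 := congrArg (X.presheaf.germ W'' z.1 z.2) he
    rw [map_mul, map_mul] at h4
    simp only [ro, TopCat.Presheaf.germ_res_apply, TopCat.Presheaf.germ_res_apply'] at h4 ⊢
    exact h4
  choose W hW hyW a ha using hloc
  have hcompat : TopCat.Presheaf.IsCompatible X.presheaf W a := by
    intro p q
    refine TopCat.Presheaf.section_ext X.sheaf _ _ _ fun z hz => j_injective z ?_
    change j z (X.presheaf.germ (W p ⊓ W q) z hz _) = j z (X.presheaf.germ (W p ⊓ W q) z hz _)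
    rw [TopCat.Presheaf.germ_res_apply, TopCat.Presheaf.germ_res_apply, ← ha p ⟨z, hz.1⟩, ← ha q ⟨z, hz.2⟩]
  obtain ⟨t, ht, -⟩ := TopCat.Sheaf.existsUnique_gluing X.sheaf W a hcompat
  have hle : V ≤ iSup W := fun y hy => Opens.mem_iSup.2 ⟨⟨y, hy⟩, hyW _⟩
  refine ⟨ro hle t, fun y => ?_⟩
  rw [TopCat.Presheaf.germ_res_apply, ← TopCat.Presheaf.germ_res_apply X.presheaf (Opens.leSupr W y) y.1 (hyW y) t]
  exact (ha y ⟨y.1, hyW y⟩).trans (congrArg (j y.1) (congrArg (X.presheaf.germ (W y) y.1 (hyW y)) (ht y)).symm)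

variable {D D' : Divisor X}

/-- The value of a section of `O_X(D)`. -/
abbrev vl {U : X.Opens} (t : Γ(divMod D, U)) (x : U) : KStalk X x.1 := t.1 x

theorem divMod_ext {U : X.Opens} {s t : Γ(divMod D, U)} (h : ∀ x : U, vl s x = vl t x) : s = t :=
  Subtype.ext (funext h)

theorem vl_smul {U : X.Opens} (r : Γ(X, U)) (t : Γ(divMod D, U)) (x : U) :
    vl (r • t) x = j x.1 (X.presheaf.germ U x.1 x.2 r) * vl t x :=
  (_root_.Mero.modOf_smul_apply _ r t x).trans (Algebra.smul_def _ _)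

theorem vl_rs {U V : X.Opens} (h : V ≤ U) (t : Γ(divMod D, U)) (x : V) :
    vl (rs (divMod D) h t) x = vl t ⟨x.1, h x.2⟩ := rfl

theorem divCond_vl {U : X.Opens} (t : Γ(divMod D, U)) (x : U) : DivCond D x.1 (vl t x) := t.2.2 x

/-- `DivCond` for one representative. -/
theorem divCond_of_rep {x : X} {t : KStalk X x} {g : (KStalk X x)ˣ} (hg : D.1 x = QuotientGroup.mk g)
    (h : t * g ∈ (j x).range) : DivCond D x t := by
  intro g' hg'
  obtain ⟨v, hv⟩ := QuotientGroup.eq.1 (hg.symm.trans hg')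
  have h1 : (g' : KStalk X x) = g * j x (v : X.presheaf.stalk x) := by
    have := congrArg (fun w : (KStalk X x)ˣ => (g : KStalk X x) * (w : KStalk X x)) hv
    simpa [← mul_assoc] using this.symm
  rw [h1, ← mul_assoc]
  exact mul_mem h ⟨_, rfl⟩

/-- A frame from a local equation. -/
def gen {U : X.Opens} (f : (Γ(kmod X, U))ˣ) (hf : ∀ y : U, D.1 y.1 = germOf f y) : Γ(divMod D, U) :=
  ⟨(↑f⁻¹ : Γ(kmod X, U)).1, (↑f⁻¹ : Γ(kmod X, U)).2, fun y => divCond_of_rep (hf y) ⟨1, by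
    rw [map_one]
    exact (congrArg (evalK X U y) f.inv_mul).symm.trans (map_mul (evalK X U y) _ _)⟩⟩

theorem vl_gen {U : X.Opens} (f : (Γ(kmod X, U))ˣ) (hf : ∀ y : U, D.1 y.1 = germOf f y) (y : U) :
    vl (gen f hf) y * (Units.map (evalK X U y).toMonoidHom f : (KStalk X y.1)ˣ) = 1 :=
  ((map_mul (evalK X U y) _ _).symm.trans (congrArg (evalK X U y) f.inv_mul)).trans (map_one _)

theorem isFrame_gen {U : X.Opens} (f : (Γ(kmod X, U))ˣ) (hf : ∀ y : U, D.1 y.1 = germOf f y) :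
    IsFrame (divMod D) U (gen f hf) := by
  intro V h
  constructor
  · intro a b hab
    refine TopCat.Presheaf.section_ext X.sheaf _ _ _ fun z hz => j_injective z ?_
    have h1 := congrArg (fun t : Γ(divMod D, V) => vl t ⟨z, hz⟩ *
      (Units.map (evalK X U ⟨z, h hz⟩).toMonoidHom f : (KStalk X z)ˣ)) hab
    simp only [vl_smul, vl_rs, mul_assoc] at h1
    rw [show vl (gen f hf) ⟨z, h hz⟩ * ↑((Units.map (evalK X U ⟨z, h hz⟩).toMonoidHom) f) = 1 from
      vl_gen f hf ⟨z, h hz⟩, mul_one, mul_one] at h1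
    exact h1
  · intro t
    let fV : Γ(kmod X, V) := (kmod X).presheaf.map (homOfLE h).op (↑f : Γ(kmod X, U))
    let tK : Γ(kmod X, V) := (⟨t.1, t.2.1⟩ : Γ(kmod X, V))
    let s : Γ(kmod X, V) := tK * fV
    obtain ⟨a, ha⟩ := exists_section_of_range s fun y => divCond_vl t y _ (hf ⟨y.1, h y.2⟩)
    refine ⟨a, divMod_ext fun y => ?_⟩
    rw [vl_smul, vl_rs, ← ha y]
    show (vl t y * evalK X U ⟨y.1, h y.2⟩ (↑f : Γ(kmod X, U))) * vl (gen f hf) ⟨y.1, h y.2⟩ = vl t y
    rw [mul_assoc, mul_comm (evalK X U ⟨y.1, h y.2⟩ (↑f : Γ(kmod X, U)))]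
    exact (congrArg (vl t y * ·) (vl_gen f hf ⟨y.1, h y.2⟩)).trans (mul_one _)

theorem isInvertible_divMod (D : Divisor X) : PicF.IsInvertible (divMod D) :=
  Groth.L18.GenLoc.isInvertible_of_frames fun x => by
    obtain ⟨U, hx, f, hf⟩ := D.2 x
    exact ⟨U, gen f hf, hx, isFrame_gen f hf⟩

/-- Multiplication by a meromorphic function, as a morphism between the modules of two divisors. -/
def mulHom (c : Γ(kmod X, ⊤))
    (hc : ∀ (x : X) (t : KStalk X x), DivCond D x t → DivCond D' x (c.1 ⟨x, trivial⟩ * t)) :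
    divMod D ⟶ divMod D' :=
  ⟨PresheafOfModules.homMk (M₁ := (divMod D).val) (M₂ := (divMod D').val)
    { app := fun U => AddCommGrpCat.ofHom
        { toFun := fun (t : Γ(divMod D, U.unop)) =>
            (⟨fun y => c.1 ⟨y.1, trivial⟩ * t.1 y,
              _root_.Mero.kLoc_mul X U.unop (fun y : U.unop => c.1 ⟨y.1, trivial⟩) t.1
                ((kmod X).presheaf.map (homOfLE (le_top : U.unop ≤ ⊤)).op c).2 t.2.1,
              fun y => hc y.1 _ (t.2.2 y)⟩ : Γ(divMod D', U.unop))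
          map_zero' := divMod_ext fun y => mul_zero _
          map_add' := fun a b => divMod_ext fun y => mul_add _ _ _ }
      naturality := by intros; rfl }
    (fun U r (t : Γ(divMod D, U.unop)) => divMod_ext fun y => by
      show c.1 ⟨y.1, trivial⟩ * vl ((show Γ(X, U.unop) from r) • t) y =
        vl ((show Γ(X, U.unop) from r) • (_ : Γ(divMod D', U.unop))) y
      rw [vl_smul, vl_smul]
      exact mul_left_comm _ _ _)⟩

theorem vl_mulHom (c : Γ(kmod X, ⊤))
    (hc : ∀ (x : X) (t : KStalk X x), DivCond D x t → DivCond D' x (c.1 ⟨x, trivial⟩ * t))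
    {U : X.Opens} (t : Γ(divMod D, U)) (y : U) :
    vl ((mulHom c hc).app U t) y = c.1 ⟨y.1, trivial⟩ * vl t y := rfl

/-- The inclusion for comparable divisors. -/
def incl (h : ∀ (x : X) (t : KStalk X x), DivCond D x t → DivCond D' x t) : divMod D ⟶ divMod D' :=
  mulHom 1 fun x t ht => by rw [_root_.Mero.kmod_one_apply, one_mul]; exact h x t ht

theorem vl_incl (h : ∀ (x : X) (t : KStalk X x), DivCond D x t → DivCond D' x t)
    {U : X.Opens} (t : Γ(divMod D, U)) (y : U) : vl ((incl h).app U t) y = vl t y := by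
  rw [incl, vl_mulHom, _root_.Mero.kmod_one_apply, one_mul]

theorem divCond_of_divLE (h : _root_.Mero.DivLE D D') (x : X) (t : KStalk X x) (ht : DivCond D x t) :
    DivCond D' x t := by
  obtain ⟨U, hxU, f, hf⟩ := D.2 x
  obtain ⟨a, ha⟩ := h x
  set g := Units.map (evalK X U ⟨x, hxU⟩).toMonoidHom f
  have hg : D.1 x = QuotientGroup.mk g := hf ⟨x, hxU⟩
  refine divCond_of_rep (g := g * (IsLocalization.map_units (KStalk X x) a).unit) ?_ ?_
  · rw [QuotientGroup.mk_mul, ← hg, ← ha]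
    exact by
      show D'.1 x = D.1 x * ((D'.1 x) * (D.1 x)⁻¹)
      rw [mul_comm (D.1 x), inv_mul_cancel_right]
  · rw [Units.val_mul, ← mul_assoc]
    exact mul_mem (ht g hg) ⟨_, rfl⟩

end Groth.L21.Mero
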