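import Groth.Agent.L21.Mero.Pseudo
import Groth.Agent.L16.CohClosedPush

/-!
Weakly associated points lie in schematically dense opens; finiteness.
-/

set_option autoImplicit false
set_option backward.isDefEq.respectTransparency false
set_option linter.style.haveILetI false
universe u

open CategoryTheory AlgebraicGeometry TopologicalSpace IsLocalRing Opposite

noncomputable section

namespace Groth.L21.Mero

open _root_.Mero (KStalk regStalk regSub regGerm kmod toK)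

variable {X : Scheme.{u}}

theorem finite_weakAss_affine [IsLocallyNoetherian X] {W : X.Opens} (hW : IsAffineOpen W) :
    {x : X | x ∈ W ∧ Curv2.IsWeakAssPoint (Coh.structureModule X) x}.Finite := by
  haveI : Coh.IsQCoh (Coh.structureModule X) := (Groth.L16.CohClosedPush.isCoh_structure (X := X)).1
  haveI : IsNoetherianRing Γ(X, W) := IsLocallyNoetherian.component_noetherian ⟨W, hW⟩
  haveI : Module.Finite Γ(X, W) Γ(Coh.structureModule X, W) :=
    Module.Finite.of_surjective (LinearMap.toSpanSingleton Γ(X, W) _ (Groth.L22.unitSec 1)) fun m => by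
      obtain ⟨r, rfl⟩ := Groth.L22.unitSec_surjective W m
      exact ⟨r, by rw [LinearMap.toSpanSingleton_apply, Groth.L22.unitSec_mul, mul_one]⟩
  classical
  refine ((associatedPrimes.finite Γ(X, W) Γ(Coh.structureModule X, W)).preimage' ?_).subset
    (show _ ⊆ (fun x : X => if hx : x ∈ W then (hW.primeIdealOf ⟨x, hx⟩).asIdeal else ⊤) ⁻¹' _ from ?_)
  · intro q hq
    refine Set.Subsingleton.finite fun x hx y hy => ?_
    simp only [Set.mem_preimage, Set.mem_singleton_iff] at hx hy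
    have hqne : q ≠ ⊤ := hq.isPrime.ne_top
    by_cases hxW : x ∈ W
    · by_cases hyW : y ∈ W
      · rw [dif_pos hxW] at hx
        rw [dif_pos hyW] at hy
        exact ((hW.fromSpec_primeIdealOf ⟨x, hxW⟩).symm.trans
          (congrArg hW.fromSpec (PrimeSpectrum.ext (hx.trans hy.symm)))).trans (hW.fromSpec_primeIdealOf ⟨y, hyW⟩)
      · exact absurd ((dif_neg hyW).symm.trans hy).symm hqne
    · exact absurd ((dif_neg hxW).symm.trans hx).symm hqne
  · intro x ⟨hxW, hA⟩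
    simp only [Set.mem_preimage, dif_pos hxW]
    exact (Groth.L19.Ass.mem_iff_of_affine _ hW hxW).1 (Groth.L15.WeakAss.isAssPoint_of_isWeakAssPoint _ hA)

theorem mem_of_weakAss_noetherian [IsLocallyNoetherian X] {U V : X.Opens}
    (hV : ∀ W : X.Opens, W ≤ U →
      Function.Injective ⇑(X.presheaf.map (homOfLE (inf_le_left : W ⊓ V ≤ W)).op))
    {x : X} (hxU : x ∈ U) (hA : Curv2.IsWeakAssPoint (Coh.structureModule X) x) : x ∈ V := by
  haveI : Coh.IsQCoh (Coh.structureModule X) := (Groth.L16.CohClosedPush.isCoh_structure (X := X)).1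
  obtain ⟨W, hW, hxW, hWU⟩ := exists_isAffineOpen_mem_and_subset hxU
  haveI : IsNoetherianRing Γ(X, W) := IsLocallyNoetherian.component_noetherian ⟨W, hW⟩
  obtain ⟨-, n, hn⟩ := isAssociatedPrime_iff.1
    ((Groth.L19.Ass.mem_iff_of_affine _ hW hxW).1 (Groth.L15.WeakAss.isAssPoint_of_isWeakAssPoint _ hA))
  obtain ⟨a, rfl⟩ := Groth.L22.unitSec_surjective W n
  refine mem_of_germ_supported hV hWU hxW a ?_ fun y hy hxy => ?_
  · have h1 := Groth.L15.WeakAss.germ_ne_zero_of_le _ hW hxW _ hn.ge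
    intro h0
    refine h1 ?_
    rw [← Groth.L22.germ_smul_oneGerm, h0, zero_smul]
  · obtain ⟨g, hgx, hgy⟩ : ∃ g, g ∈ (hW.primeIdealOf ⟨x, hxW⟩).asIdeal ∧ g ∉ (hW.primeIdealOf ⟨y, hy⟩).asIdeal := by
      refine Set.not_subset.1 fun hle => hxy ?_
      have h2 := ((PrimeSpectrum.le_iff_specializes _ _).1 hle).map hW.fromSpec.continuous
      rwa [hW.fromSpec_primeIdealOf, hW.fromSpec_primeIdealOf] at h2
    rw [hn, Submodule.mem_colon_singleton, Submodule.mem_bot, Groth.L22.unitSec_mul] at hgx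
    letI : Algebra Γ(X, W) (X.presheaf.stalk y) :=
      TopCat.Presheaf.algebra_section_stalk X.presheaf ⟨y, hy⟩
    haveI := hW.isLocalization_stalk ⟨y, hy⟩
    have hu : IsUnit (X.presheaf.germ W y hy g) :=
      IsLocalization.map_units (X.presheaf.stalk y) (⟨g, hgy⟩ : (hW.primeIdealOf ⟨y, hy⟩).asIdeal.primeCompl)
    refine hu.mul_right_eq_zero.1 ?_
    rw [← map_mul, show g * a = 0 from hgx, map_zero]

theorem finite_weakAss_reduced [IsReduced X] {W₀ : X.Opens}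
    (hfin : {Z : Set X | Z ∈ irreducibleComponents X ∧ (Z ∩ (W₀ : Set X)).Nonempty}.Finite) :
    {x : X | x ∈ W₀ ∧ Curv2.IsWeakAssPoint (Coh.structureModule X) x}.Finite := by
  refine (hfin.preimage (f := fun x : X => closure ({x} : Set X)) fun a _ b _ h => ?_).subset ?_
  · exact ((specializes_iff_closure_subset.2 h.ge).antisymm (specializes_iff_closure_subset.2 h.le)).eq
  · rintro x ⟨hxW, hA⟩
    exact ⟨(maximal_iff_closure_mem x).2 (Groth.L22.maximal_of_weakAss hA), x, subset_closure rfl, hxW⟩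

theorem mem_of_weakAss_reduced [IsReduced X] {W₀ U V : X.Opens}
    (hfin : {Z : Set X | Z ∈ irreducibleComponents X ∧ (Z ∩ (W₀ : Set X)).Nonempty}.Finite)
    (hV : ∀ W : X.Opens, W ≤ U →
      Function.Injective ⇑(X.presheaf.map (homOfLE (inf_le_left : W ⊓ V ≤ W)).op))
    {x : X} (hxU : x ∈ U) (hx₀ : x ∈ W₀) (hA : Curv2.IsWeakAssPoint (Coh.structureModule X) x) : x ∈ V := by
  have hmax := Groth.L22.maximal_of_weakAss hA
  let Z : Set X := ⋃ C ∈ {C : Set X | C ∈ irreducibleComponents X ∧ (C ∩ (W₀ : Set X)).Nonempty} \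
    {closure {x}}, C
  have hZ : IsClosed Z := (hfin.diff).isClosed_biUnion fun C hC => isClosed_of_mem_irreducibleComponents C hC.1.1
  let W : X.Opens := U ⊓ W₀ ⊓ ⟨Zᶜ, hZ.isOpen_compl⟩
  have hxZ : x ∉ Z := by
    intro hx
    obtain ⟨C, ⟨hC, hne⟩, hxC⟩ := Set.mem_iUnion₂.1 hx
    have hg := hC.1.1.isGenericPoint_genericPoint (isClosed_of_mem_irreducibleComponents C hC.1)
    exact hne (hg.def.symm.trans (by rw [hmax _ (hg.specializes hxC)]))
  have hxW : x ∈ W := ⟨⟨hxU, hx₀⟩, hxZ⟩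
  refine mem_of_germ_supported hV (show W ≤ U from fun z hz => hz.1.1) hxW 1
    (by rw [map_one]; exact one_ne_zero) fun y hy hxy => absurd ?_ hxy
  obtain ⟨C, hC, hyC⟩ : ∃ C ∈ irreducibleComponents (X : Type u), y ∈ C :=
    ⟨irreducibleComponent y, irreducibleComponent_mem_irreducibleComponents y, mem_irreducibleComponent⟩
  by_cases hCx : C = closure {x}
  · exact specializes_iff_mem_closure.2 (hCx ▸ hyC)
  · have hyZ : y ∈ Z := Set.mem_iUnion₂.2 ⟨C, ⟨⟨hC, y, hyC, hy.1.2⟩, hCx⟩, hyC⟩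
    exact absurd hyZ hy.2

theorem exists_frac_eq_toK {W V : X.Opens} (hW : IsAffineOpen W) (g : Γ(X, V)) {b : Γ(X, W)}
    (hb : b ∈ regSub X W) (hbV : X.basicOpen b ≤ V) :
    ∃ (a : Γ(X, W)) (c : regSub X W), ∀ (z : X) (hz : z ∈ W) (hzV : z ∈ V),
      (frac a c).1 ⟨z, hz⟩ = (toK X V g).1 ⟨z, hzV⟩ := by
  haveI := hW.isLocalization_basicOpen b
  obtain ⟨⟨a, _, n, rfl⟩, ha⟩ := IsLocalization.surj (Submonoid.powers b)
    (X.presheaf.map (homOfLE hbV).op g : Γ(X, X.basicOpen b))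
  refine ⟨a, ⟨b ^ n, Submonoid.pow_mem _ hb n⟩, fun z hz hzV => ?_⟩
  rw [_root_.Mero.toK_apply]
  show LocalizedModule.mk _ _ = _
  rw [Groth.L22.Mero.mk_eq_mk_iff, Submonoid.coe_one, mul_one]
  obtain ⟨Y, hY, hzY, hYle⟩ := exists_isAffineOpen_mem_and_subset (show z ∈ W ⊓ V from ⟨hz, hzV⟩)
  have hY₁ : Y ≤ W := fun y hy => (hYle hy).1
  have hY₂ : Y ≤ V := fun y hy => (hYle hy).2
  have h0 := Groth.L22.Mero.eq_zero_of_germ_eq_zero hY (_root_.Mero.regSub_res (homOfLE hY₁) hb)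
    (Groth.L18.Frame.ro hY₂ g * Groth.L18.Frame.ro hY₁ (b ^ n) - Groth.L18.Frame.ro hY₁ a) fun y hy hu => by
      rw [TopCat.Presheaf.germ_res_apply] at hu
      have hyb : y ∈ X.basicOpen b := (X.mem_basicOpen b y (hY₁ hy)).2 hu
      have h1 := congrArg (X.presheaf.germ (X.basicOpen b) y hyb) ha
      rw [map_mul] at h1
      change _ * X.presheaf.germ _ y hyb (X.presheaf.map (homOfLE (X.basicOpen_le b)).op _) =
        X.presheaf.germ _ y hyb (X.presheaf.map (homOfLE (X.basicOpen_le b)).op _) at h1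
      rw [map_sub, map_mul, sub_eq_zero]
      simp only [Groth.L18.Frame.ro, TopCat.Presheaf.germ_res_apply] at h1 ⊢
      exact h1
  have h2 := congrArg (X.presheaf.germ Y z hzY) h0
  rw [map_zero, map_sub, map_mul, sub_eq_zero] at h2
  simp only [Groth.L18.Frame.ro, TopCat.Presheaf.germ_res_apply] at h2
  exact h2.symm

/-- Pseudo-functions are meromorphic functions. -/
theorem exists_kmod_restrict_eq_toK
    (hX : IsLocallyNoetherian X ∨ (IsReduced X ∧ ∀ x : ↥X, ∃ W : X.Opens, x ∈ W ∧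
      {Z : Set ↥X | Z ∈ irreducibleComponents ↥X ∧ (Z ∩ (W : Set ↥X)).Nonempty}.Finite))
    (U V : X.Opens) (hVU : V ≤ U)
    (hV : ∀ W : X.Opens, W ≤ U →
      Function.Injective ⇑(X.presheaf.map (homOfLE (inf_le_left : W ⊓ V ≤ W)).op))
    (g : Γ(X, V)) :
    ∃ s : Γ(kmod X, U), (kmod X).presheaf.map (homOfLE hVU).op s = toK X V g := by
  have hloc : ∀ y : U, ∃ (W : X.Opens) (_ : W ≤ U) (_ : y.1 ∈ W) (a : Γ(X, W)) (c : regSub X W),
      ∀ (z : X) (hz : z ∈ W) (hzV : z ∈ V), (frac a c).1 ⟨z, hz⟩ = (toK X V g).1 ⟨z, hzV⟩ := fun y => by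
    suffices ∃ W : X.Opens, IsAffineOpen W ∧ W ≤ U ∧ y.1 ∈ W ∧
        {x : X | x ∈ W ∧ Curv2.IsWeakAssPoint (Coh.structureModule X) x}.Finite ∧
        ∀ x ∈ W, Curv2.IsWeakAssPoint (Coh.structureModule X) x → x ∈ V by
      obtain ⟨W, hW, hWU, hyW, hfin, hmem⟩ := this
      obtain ⟨b, hb, hbV⟩ := exists_regular_basicOpen_le hW hfin hmem
      exact ⟨W, hWU, hyW, exists_frac_eq_toK hW g hb hbV⟩
    rcases hX with hN | ⟨hR, hfin⟩
    · haveI := hN
      obtain ⟨W, hW, hyW, hWU⟩ := exists_isAffineOpen_mem_and_subset y.2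
      exact ⟨W, hW, hWU, hyW, finite_weakAss_affine hW, fun x hx hA => mem_of_weakAss_noetherian hV (hWU hx) hA⟩
    · haveI := hR
      obtain ⟨W₀, hy₀, h₀⟩ := hfin y.1
      obtain ⟨W, hW, hyW, hWU⟩ := exists_isAffineOpen_mem_and_subset (show y.1 ∈ U ⊓ W₀ from ⟨y.2, hy₀⟩)
      exact ⟨W, hW, fun z hz => (hWU hz).1, hyW,
        (finite_weakAss_reduced h₀).subset fun x hx => ⟨(hWU hx.1).2, hx.2⟩,
        fun x hx hA => mem_of_weakAss_reduced h₀ hV (hWU hx).1 (hWU hx).2 hA⟩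
  choose W hW hy a c hac using hloc
  obtain ⟨t, ht⟩ := exists_glue W hW hy (fun y => frac (a y) (c y)) fun y z hz =>
    frac_eq_of_dense (W := W y) (W' := W ⟨z, hW y hz⟩) hV (hW y) (a y) (c y) (a ⟨z, hW y hz⟩) (c ⟨z, hW y hz⟩)
      (fun w hw hw' hwV => (hac _ w hw hwV).trans (hac _ w hw' hwV).symm) hz (hy ⟨z, hW y hz⟩)
  refine ⟨t, Groth.L22.Mero.kmod_ext fun z => ?_⟩
  exact (ht ⟨z.1, hVU z.2⟩ z.1 (hy _)).trans (hac _ z.1 (hy _) z.2)

end Groth.L21.Mero
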