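import Groth.Agent.L21.Mero.Pseudo

/-!
Meromorphic functions on reduced schemes with finitely many components.
-/

set_option autoImplicit false
set_option backward.isDefEq.respectTransparency false
set_option linter.style.haveILetI false
universe u

open CategoryTheory AlgebraicGeometry TopologicalSpace IsLocalRing Opposite
open Groth.L18.Frame (ro)

noncomputable section

namespace Groth.L21.Mero

open _root_.Mero (KStalk regStalk regSub regGerm kmod evalK)

variable {X : Scheme.{u}} [IsReduced X]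

theorem isField_of_maximal {x : X} (hx : ∀ y : X, y ⤳ x → y = x) : IsField (X.presheaf.stalk x) := by
  obtain ⟨U, hU, hxU, -⟩ := exists_isAffineOpen_mem_and_subset (x := x) (U := ⊤) trivial
  letI : Algebra Γ(X, U) (X.presheaf.stalk x) :=
    TopCat.Presheaf.algebra_section_stalk X.presheaf ⟨x, hxU⟩
  haveI := hU.isLocalization_stalk ⟨x, hxU⟩
  haveI : Ring.KrullDimLE 0 (X.presheaf.stalk x) := by
    rw [Ring.krullDimLE_zero_iff]
    intro I hI
    have h1 := Groth.L22.primeIdealOf_mem_minimalPrimes hU hxU hx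
    have hle : I.comap (algebraMap Γ(X, U) (X.presheaf.stalk x)) ≤ (hU.primeIdealOf ⟨x, hxU⟩).asIdeal :=
      (Ideal.comap_mono (le_maximalIdeal hI.ne_top)).trans_eq
        (IsLocalization.AtPrime.under_maximalIdeal (X.presheaf.stalk x) _)
    have heq : I.comap (algebraMap Γ(X, U) (X.presheaf.stalk x)) = (hU.primeIdealOf ⟨x, hxU⟩).asIdeal :=
      le_antisymm hle (h1.2 ⟨inferInstance, bot_le⟩ hle)
    have h2 : Ideal.map (algebraMap Γ(X, U) (X.presheaf.stalk x)) (I.comap (algebraMap Γ(X, U) _)) = I :=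
      IsLocalization.map_under (hU.primeIdealOf ⟨x, hxU⟩).asIdeal.primeCompl _ I
    rw [← h2, heq, IsLocalization.AtPrime.map_eq_maximalIdeal]
    exact maximalIdeal.isMaximal _
  exact Ring.KrullDimLE.isField_of_isReduced

theorem bijective_algebraMap_of_maximal {x : X} (hx : ∀ y : X, y ⤳ x → y = x) :
    Function.Bijective (algebraMap (X.presheaf.stalk x) (KStalk X x)) := by
  refine ⟨j_injective x, fun k => ?_⟩
  obtain ⟨⟨a, b⟩, hab⟩ := IsLocalization.surj (regStalk X x) k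
  have hu : IsUnit (b : X.presheaf.stalk x) :=
    Groth.L22.isUnit_of_weakAss (Groth.L22.isWeakAssPoint_of_maximal hx)
      (_root_.Mero.regStalk_le_nonZeroDivisors x b.2)
  obtain ⟨v, hv⟩ := hu.exists_right_inv
  refine ⟨a * v, ?_⟩
  rw [map_mul, ← hab, mul_assoc, ← map_mul, hv, map_one, mul_one]

theorem eq_zero_of_maximal {W : X.Opens} (a : Γ(X, W))
    (h : ∀ (x : X) (hx : x ∈ W), (∀ y : X, y ⤳ x → y = x) → X.presheaf.germ W x hx a = 0) : a = 0 := by
  refine TopCat.Presheaf.section_ext X.sheaf W a 0 fun z hz => ?_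
  change X.presheaf.germ W z hz a = X.presheaf.germ W z hz 0
  obtain ⟨Y, hY, hzY, hYW⟩ := exists_isAffineOpen_mem_and_subset hz
  rw [map_zero, ← TopCat.Presheaf.germ_res_apply X.presheaf (homOfLE (show Y ≤ W from hYW)) z hzY a]
  have h0 : X.presheaf.map (homOfLE (show Y ≤ W from hYW)).op a = 0 := by
    refine _root_.IsReduced.eq_zero _ ?_
    rw [← mem_nilradical, nilradical, Ideal.zero_eq_bot, ← Ideal.sInf_minimalPrimes, Submodule.mem_sInf]
    intro q hq
    by_contra haq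
    let q' : Spec Γ(X, Y) := ⟨q, hq.1.1⟩
    have hqY : hY.fromSpec q' ∈ Y := hY.range_fromSpec.subset ⟨q', rfl⟩
    letI : Algebra Γ(X, Y) (X.presheaf.stalk (hY.fromSpec q')) :=
      TopCat.Presheaf.algebra_section_stalk X.presheaf ⟨_, hqY⟩
    haveI := hY.isLocalization_stalk ⟨_, hqY⟩
    have hp : (hY.primeIdealOf ⟨_, hqY⟩) = q' :=
      hY.fromSpec.isOpenEmbedding.injective (hY.fromSpec_primeIdealOf ⟨_, hqY⟩)
    have hu : IsUnit (X.presheaf.germ Y _ hqY (X.presheaf.map (homOfLE (show Y ≤ W from hYW)).op a)) :=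
      IsLocalization.map_units (X.presheaf.stalk _)
        (⟨_, fun hmem => haq ((congrArg PrimeSpectrum.asIdeal hp).le hmem)⟩ : (hY.primeIdealOf ⟨_, hqY⟩).asIdeal.primeCompl)
    rw [TopCat.Presheaf.germ_res_apply, h _ (hYW hqY) (Groth.L22.maximal_fromSpec hY q' hq)] at hu
    exact not_isUnit_zero hu
  rw [h0, map_zero]

/-- Fractions that agree at the maximal points are equal. -/
theorem frac_eq_of_maximal {W W' : X.Opens} (a : Γ(X, W)) (b : regSub X W) (a' : Γ(X, W')) (b' : regSub X W')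
    (h : ∀ (x : X) (hx : x ∈ W) (hx' : x ∈ W'), (∀ y : X, y ⤳ x → y = x) →
      (frac a b).1 ⟨x, hx⟩ = (frac a' b').1 ⟨x, hx'⟩)
    {z : X} (hz : z ∈ W) (hz' : z ∈ W') : (frac a b).1 ⟨z, hz⟩ = (frac a' b').1 ⟨z, hz'⟩ := by
  rw [frac_eq_frac_iff]
  refine Eq.trans (congrArg _ (eq_zero_of_maximal _ fun x hx hmax => ?_)) (map_zero _)
  exact (frac_eq_frac_iff a b a' b' hx.1 hx.2).1 (h x hx.1 hx.2 hmax)

theorem exists_frac_of_values {Y : X.Opens} (hY : IsAffineOpen Y)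
    (hfin : {x : X | x ∈ Y ∧ ∀ y : X, y ⤳ x → y = x}.Finite) (c : ∀ x : X, KStalk X x) :
    ∃ (a : Γ(X, Y)) (b : regSub X Y), ∀ (x : X) (hx : x ∈ Y), (∀ y : X, y ⤳ x → y = x) →
      (frac a b).1 ⟨x, hx⟩ = c x := by
  classical
  let T : Finset X := hfin.toFinset
  have hT : ∀ x ∈ T, x ∈ Y ∧ ∀ y : X, y ⤳ x → y = x := fun x hx => hfin.mem_toFinset.1 hx
  have hloc : ∀ t : T, ∃ (α β e : Γ(X, Y)),
      IsUnit (X.presheaf.germ Y t.1 (hT t t.2).1 β) ∧ IsUnit (X.presheaf.germ Y t.1 (hT t t.2).1 e) ∧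
      j t.1 (X.presheaf.germ Y t.1 (hT t t.2).1 α) = c t.1 * j t.1 (X.presheaf.germ Y t.1 (hT t t.2).1 β) ∧
      ∀ t' : T, t' ≠ t → X.presheaf.germ Y t'.1 (hT t' t'.2).1 e = 0 := fun t => by
    obtain ⟨hxY, hmax⟩ := hT t t.2
    obtain ⟨v, hv⟩ := (bijective_algebraMap_of_maximal hmax).2 (c t.1)
    letI : Algebra Γ(X, Y) (X.presheaf.stalk t.1) :=
      TopCat.Presheaf.algebra_section_stalk X.presheaf ⟨t.1, hxY⟩
    haveI := hY.isLocalization_stalk ⟨t.1, hxY⟩
    obtain ⟨⟨α, β⟩, hαβ⟩ := IsLocalization.surj (hY.primeIdealOf ⟨t.1, hxY⟩).asIdeal.primeCompl v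
    obtain ⟨e, he, het⟩ : ∃ e : Γ(X, Y), (∀ t' : T, t' ≠ t → e ∈ (hY.primeIdealOf ⟨t'.1, (hT t' t'.2).1⟩).asIdeal) ∧
        e ∉ (hY.primeIdealOf ⟨t.1, hxY⟩).asIdeal := by
      by_contra hcon
      push Not at hcon
      have hle : (Finset.univ.erase t).inf (fun t' : T => (hY.primeIdealOf ⟨t'.1, (hT t' t'.2).1⟩).asIdeal) ≤
          (hY.primeIdealOf ⟨t.1, hxY⟩).asIdeal := fun e he => by
        rw [Submodule.mem_finsetInf] at he
        exact hcon e fun t' ht' => he t' (Finset.mem_erase.2 ⟨ht', Finset.mem_univ _⟩)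
      obtain ⟨t', ht', hle'⟩ := (Ideal.IsPrime.inf_le' (hY.primeIdealOf ⟨t.1, hxY⟩).2).1 hle
      refine (Finset.mem_erase.1 ht').1 (Subtype.ext ?_)
      have h2 := ((PrimeSpectrum.le_iff_specializes (hY.primeIdealOf ⟨t'.1, (hT t' t'.2).1⟩) _).1 hle').map hY.fromSpec.continuous
      rw [hY.fromSpec_primeIdealOf, hY.fromSpec_primeIdealOf] at h2
      exact hmax _ h2
    refine ⟨α, β, e, IsLocalization.map_units (X.presheaf.stalk t.1) β,
      IsLocalization.map_units (X.presheaf.stalk t.1) (⟨e, het⟩ : (hY.primeIdealOf ⟨t.1, hxY⟩).asIdeal.primeCompl),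
      ?_, fun t' ht' => ?_⟩
    · rw [← hv, ← map_mul]
      exact congrArg (j t.1) hαβ.symm
    · letI : Algebra Γ(X, Y) (X.presheaf.stalk t'.1) :=
        TopCat.Presheaf.algebra_section_stalk X.presheaf ⟨t'.1, (hT t' t'.2).1⟩
      haveI := hY.isLocalization_stalk ⟨t'.1, (hT t' t'.2).1⟩
      have h3 := (IsLocalization.AtPrime.to_map_mem_maximal_iff (X.presheaf.stalk t'.1)
        (hY.primeIdealOf ⟨t'.1, (hT t' t'.2).1⟩).asIdeal e).2 (he t' ht')
      rw [IsLocalRing.isField_iff_maximalIdeal_eq.1 (isField_of_maximal (hT t' t'.2).2), Ideal.mem_bot] at h3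
      exact h3
  choose α β e hβ he hc hz using hloc
  have hsum : ∀ (γ : T → Γ(X, Y)) (t : T), X.presheaf.germ Y t.1 (hT t t.2).1 (∑ i, e i * γ i) =
      X.presheaf.germ Y t.1 (hT t t.2).1 (e t) * X.presheaf.germ Y t.1 (hT t t.2).1 (γ t) := fun γ t => by
    rw [map_sum, Finset.sum_eq_single t (fun i _ hi => by rw [map_mul, hz i t (Ne.symm hi), zero_mul])
      (fun h => absurd (Finset.mem_univ t) h), map_mul]
  have hb : (∑ i, e i * β i) ∈ regSub X Y := Groth.L22.mem_regSub_of_weakAss fun x hx hA => by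
    have hxT : x ∈ T := hfin.mem_toFinset.2 ⟨hx, Groth.L22.maximal_of_weakAss hA⟩
    rw [hsum β ⟨x, hxT⟩]
    exact (he ⟨x, hxT⟩).mul (hβ ⟨x, hxT⟩)
  refine ⟨∑ i, e i * α i, ⟨_, hb⟩, fun x hx hmax => ?_⟩
  let t : T := ⟨x, hfin.mem_toFinset.2 ⟨hx, hmax⟩⟩
  obtain ⟨v, hv⟩ := (bijective_algebraMap_of_maximal hmax).2 (c x)
  rw [← hv, Groth.L22.Mero.algebraMap_eq_mk]
  show LocalizedModule.mk _ _ = _
  rw [Groth.L22.Mero.mk_eq_mk_iff, Submonoid.coe_one, mul_one]
  show X.presheaf.germ Y t.1 (hT t t.2).1 _ = v * X.presheaf.germ Y t.1 (hT t t.2).1 _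
  rw [hsum α t, hsum β t]
  refine j_injective t.1 ?_
  rw [map_mul, map_mul, map_mul, hc t, show j t.1 v = c t.1 from hv]
  ring

theorem bijective_evalK_generic (hfin : (irreducibleComponents (X : Type u)).Finite) (U : X.Opens) :
    Function.Bijective (fun s : Γ(kmod X, U) =>
      fun x : {x : U // closure ({x.1} : Set X) ∈ irreducibleComponents (X : Type u)} =>
        evalK X U x.1 s) := by
  classical
  constructor
  · intro s s' h
    refine Groth.L22.Mero.kmod_ext fun z => ?_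
    obtain ⟨W, hzW, i, a, b, w⟩ := s.2 z
    obtain ⟨W', hzW', i', a', b', w'⟩ := s'.2 z
    refine (w ⟨z.1, hzW⟩).trans (((frac_eq_of_maximal a b a' b' fun x hx hx' hmax => ?_) hzW hzW').trans
      (w' ⟨z.1, hzW'⟩).symm)
    exact (w ⟨x, hx⟩).symm.trans ((congrFun h ⟨⟨x, i.le hx⟩, (maximal_iff_closure_mem x).2 hmax⟩).trans (w' ⟨x, hx'⟩))
  · intro c
    have hfin' : ∀ Y : X.Opens, {x : X | x ∈ Y ∧ ∀ y : X, y ⤳ x → y = x}.Finite := fun Y =>
      (genericPoints.finite hfin).subset fun x hx => (maximal_iff_closure_mem x).2 hx.2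
    let c' : ∀ x : X, KStalk X x := fun x =>
      if h : x ∈ U ∧ closure ({x} : Set X) ∈ irreducibleComponents (X : Type u) then c ⟨⟨x, h.1⟩, h.2⟩ else 0
    have hloc : ∀ y : U, ∃ (Y : X.Opens) (_ : Y ≤ U) (_ : y.1 ∈ Y) (a : Γ(X, Y)) (b : regSub X Y),
        ∀ (x : X) (hx : x ∈ Y), (∀ z : X, z ⤳ x → z = x) → (frac a b).1 ⟨x, hx⟩ = c' x := fun y => by
      obtain ⟨Y, hY, hyY, hYU⟩ := exists_isAffineOpen_mem_and_subset y.2
      exact ⟨Y, hYU, hyY, exists_frac_of_values hY (hfin' Y) c'⟩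
    choose W hW hy a b hab using hloc
    obtain ⟨t, ht⟩ := exists_glue W hW hy (fun y => frac (a y) (b y)) fun y z hz =>
      frac_eq_of_maximal (W := W y) (W' := W ⟨z, hW y hz⟩) (a y) (b y) (a ⟨z, hW y hz⟩) (b ⟨z, hW y hz⟩)
        (fun x hx hx' hmax => (hab _ x hx hmax).trans (hab _ x hx' hmax).symm) hz (hy ⟨z, hW y hz⟩)
    refine ⟨t, funext fun ⟨x, hx⟩ => ?_⟩
    refine ((ht x x.1 (hy x)).trans (hab x x.1 (hy x) ((maximal_iff_closure_mem x.1).1 hx))).trans ?_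
    exact dif_pos ⟨x.2, hx⟩

end Groth.L21.Mero
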