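import Groth.Agent.L21.Mero.DivIso
import Groth.Agent.L21.Mero.Dense
import Groth.Agent.L21.Mero.RedKmod
import Groth.Agent.L21.Mero.Zero
import Groth.Agent.L21.Extend.Semilocal

/-!
Surjectivity of `Div(X) → Pic(X)`.
-/

set_option autoImplicit false
set_option backward.isDefEq.respectTransparency false
set_option linter.style.haveILetI false
universe u

open CategoryTheory CategoryTheory.Limits AlgebraicGeometry TopologicalSpace Opposite IsLocalRing
open Groth.L18.Frame (IsFrame rs ro rs_self)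
open Groth.L21.RR (st st_germ bijective_germ_frame)

noncomputable section

namespace Groth.L21.Mero

open _root_.Mero (Divisor KStalk regStalk regSub regGerm kmod divMod DivCond merMod MStalk)

variable {X : Scheme.{u}} {L : X.Modules}

theorem isFrame_of_iso {M N : X.Modules} (ψ : M ≅ N) {U : X.Opens} {e : Γ(M, U)} (he : IsFrame M U e) :
    IsFrame N U (ψ.hom.app U e) := fun V h => by
  have h1 : (fun a : Γ(X, V) => a • rs N h (ψ.hom.app U e)) = ψ.hom.app V ∘ fun a : Γ(X, V) => a • rs M h e := by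
    funext a
    rw [Function.comp_apply, Scheme.Modules.Hom.app_smul]
    exact congrArg (a • ·) (congr($(ψ.hom.mapPresheaf.naturality (homOfLE h).op) e)).symm
  rw [h1]
  exact (ConcreteCategory.bijective_of_isIso (ψ.hom.app V)).comp (he V h)

theorem mk_smul_mk {x : X} (p : X.presheaf.stalk x) (s t : regStalk X x) (w : L.presheaf.stalk x) :
    (LocalizedModule.mk p s : KStalk X x) • (LocalizedModule.mk w t : MStalk L x) =
      LocalizedModule.mk (p • w) (s * t) := LocalizedModule.mk_smul_mk _ _ _ _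

/-- A regular meromorphic section comes from a meromorphic frame. -/
theorem exists_iso_divMod_of_regularMero (hL : PicF.IsInvertible L) (s : Γ(merMod L, ⊤))
    (hs : _root_.Mero.IsRegularMero L s) : ∃ D : Divisor X, Nonempty (L ≅ divMod D) := by
  have hu : ∀ η : X, Curv2.IsWeakAssPoint (Coh.structureModule X) η → ∀ c : regStalk X η, IsUnit (c : X.presheaf.stalk η) :=
    fun η hη c => Groth.L22.isUnit_of_weakAss hη (_root_.Mero.regStalk_le_nonZeroDivisors η c.2)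
  have hv : ∀ η : X, ∃ w : L.presheaf.stalk η, Curv2.IsWeakAssPoint (Coh.structureModule X) η →
      s.1 ⟨η, trivial⟩ = (LocalizedModule.mk w 1 : MStalk L η) := fun η => by
    by_cases hη : Curv2.IsWeakAssPoint (Coh.structureModule X) η
    · obtain ⟨V, hV, i, m, c, w⟩ := s.2 ⟨η, trivial⟩
      obtain ⟨d, hd⟩ := (hu η hη (regGerm ⟨η, hV⟩ c)).exists_right_inv
      refine ⟨d • L.presheaf.germ V η hV m, fun _ => (w ⟨η, hV⟩).trans (LocalizedModule.mk_eq.2 ⟨1, ?_⟩)⟩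
      simp only [one_smul, Submonoid.smul_def]
      rw [smul_smul, hd, one_smul]
    · exact ⟨0, fun h => absurd h hη⟩
  choose v hv using hv
  refine exists_iso_divMod_of_meroFrames (v := v) fun y => ?_
  obtain ⟨V, hyV, i, m, c, w⟩ := s.2 ⟨y, trivial⟩
  obtain ⟨W, e₀, hyW, he₀⟩ := Groth.L18.Frame.exists_frame hL y
  have he := he₀.mono (inf_le_left : W ⊓ V ≤ W)
  obtain ⟨a, ha⟩ := he.exists_coeff le_rfl (rs L (inf_le_right : W ⊓ V ≤ V) m)
  rw [rs_self] at ha
  set e := rs L (inf_le_left : W ⊓ V ≤ W) e₀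
  have hw : ∀ z : (W ⊓ V : X.Opens), s.1 ⟨z.1, trivial⟩ = (LocalizedModule.mk (X.presheaf.germ (W ⊓ V) z.1 z.2 a •
      L.presheaf.germ (W ⊓ V) z.1 z.2 e) (regGerm ⟨z.1, z.2.2⟩ c) : MStalk L z.1) := fun z => by
    refine (w ⟨z.1, z.2.2⟩).trans (_root_.Mero.mk_congr ?_ rfl)
    rw [← Groth.L20.ModStalk.germ_smul, ha, Groth.L20.ModStalk.germ_rs]
  have hreg : a ∈ regSub X (W ⊓ V) := fun z => by
    refine mem_nonZeroDivisors_iff_right.2 fun p hp => ?_
    refine j_injective z.1 ?_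
    rw [map_zero]
    refine hs z.1 _ ?_
    rw [hw z, j, Groth.L22.Mero.algebraMap_eq_mk, mk_smul_mk, smul_smul, hp, zero_smul, LocalizedModule.zero_mk]
  refine ⟨W ⊓ V, ⟨hyW, hyV⟩, e, ⟨a, hreg⟩, ⟨_, _root_.Mero.regSub_res (homOfLE inf_le_right) c.2⟩, he,
    fun η hη hA => ?_⟩
  have h1 := (hw ⟨η, hη⟩).symm.trans (hv η hA)
  obtain ⟨t, ht⟩ := LocalizedModule.mk_eq.1 h1
  simp only [one_smul, Submonoid.smul_def] at ht
  refine ((hu η hA t).smul_left_cancel.1 ht).trans ?_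
  exact congrArg (· • v η) (TopCat.Presheaf.germ_res_apply X.presheaf (homOfLE inf_le_right) η hη c.1).symm

/-- `O_X(D)` has a regular meromorphic section. -/
theorem hasRegularMero_of_iso {D : Divisor X} (φ : L ≅ divMod D) : _root_.Mero.HasRegularMero L := by
  have hloc : ∀ x : X, ∃ (Y : X.Opens) (_ : x ∈ Y) (e : Γ(L, Y)) (a b : regSub X Y), IsFrame L Y e ∧
      ∀ z : Y, vl (φ.hom.app Y e) z * j z.1 (X.presheaf.germ Y z.1 z.2 a.1) =
        j z.1 (X.presheaf.germ Y z.1 z.2 b.1) := fun x => by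
    obtain ⟨Y, hxY, a, b, hab⟩ := exists_local_frac D x
    have hu : IsUnit (frac a.1 b) := by
      refine IsUnit.of_mul_eq_one (frac b.1 a) (Groth.L22.Mero.kmod_ext fun z => ?_)
      rw [_root_.Mero.kmod_mul_apply, _root_.Mero.kmod_one_apply]
      exact (LocalizedModule.mk_mul_mk.trans (_root_.Mero.mk_congr (mul_comm _ _) rfl)).trans
        (_root_.Mero.mk_self_eq_one (regGerm z b * regGerm z a))
    have hgerm : ∀ z : Y, D.1 z.1 = _root_.Mero.germOf hu.unit z := fun z => by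
      rw [hab z, mul_inv_eq_iff_eq_mul, clsOf, clsOf, _root_.Mero.germOf, ← QuotientGroup.mk_mul]
      refine congrArg _ (Units.ext ?_)
      rw [Units.val_mul]
      show j z.1 (X.presheaf.germ Y z.1 z.2 a.1) = LocalizedModule.mk _ _ * LocalizedModule.mk _ _
      rw [LocalizedModule.mk_mul_mk, j, Groth.L22.Mero.algebraMap_eq_mk, Groth.L22.Mero.mk_eq_mk_iff]
      simp
    refine ⟨Y, hxY, φ.inv.app Y (gen (D := D) hu.unit hgerm), a, b, ?_, fun z => ?_⟩
    · exact isFrame_of_iso φ.symm (isFrame_gen (D := D) hu.unit hgerm)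
    · have h0 : φ.hom.app Y (φ.inv.app Y (gen (D := D) hu.unit hgerm)) = gen (D := D) hu.unit hgerm := by
        rw [← CategoryTheory.comp_apply, ← Scheme.Modules.Hom.comp_app, φ.inv_hom_id]
        rfl
      rw [h0]
      have h1 : vl (gen (D := D) hu.unit hgerm) z * LocalizedModule.mk (X.presheaf.germ Y z.1 z.2 a.1) (regGerm z b) = 1 :=
        vl_gen (D := D) hu.unit hgerm z
      have h2 : (LocalizedModule.mk (X.presheaf.germ Y z.1 z.2 a.1) (regGerm z b) : KStalk X z.1) *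
          j z.1 (X.presheaf.germ Y z.1 z.2 b.1) = j z.1 (X.presheaf.germ Y z.1 z.2 a.1) := by
        rw [j, Groth.L22.Mero.algebraMap_eq_mk, Groth.L22.Mero.algebraMap_eq_mk, LocalizedModule.mk_mul_mk,
          Groth.L22.Mero.mk_eq_mk_iff]
        simp
      rw [← h2, ← mul_assoc, h1, one_mul]
  choose Y hy e a b he hab using hloc
  have key : ∀ (y z : X) (hz : z ∈ Y y),
      X.presheaf.germ (Y z) z (hy z) (b z).1 • X.presheaf.germ (Y y) z hz (a y).1 • L.presheaf.germ (Y y) z hz (e y) =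
      X.presheaf.germ (Y y) z hz (b y).1 • X.presheaf.germ (Y z) z (hy z) (a z).1 • L.presheaf.germ (Y z) z (hy z) (e z) :=
    fun y z hz => by
      obtain ⟨u, hu⟩ := (he y).exists_coeff (inf_le_left : Y y ⊓ Y z ≤ Y y) (rs L inf_le_right (e z))
      have hw : z ∈ Y y ⊓ Y z := ⟨hz, hy z⟩
      have h1 : L.presheaf.germ (Y z) z (hy z) (e z) =
          X.presheaf.germ (Y y ⊓ Y z) z hw u • L.presheaf.germ (Y y) z hz (e y) := by
        rw [← Groth.L20.ModStalk.germ_rs L (inf_le_right : Y y ⊓ Y z ≤ Y z) hw (e z), ← hu,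
          Groth.L20.ModStalk.germ_smul, Groth.L20.ModStalk.germ_rs]
      have h2 : vl (φ.hom.app (Y z) (e z)) ⟨z, hy z⟩ =
          j z (X.presheaf.germ (Y y ⊓ Y z) z hw u) * vl (φ.hom.app (Y y) (e y)) ⟨z, hz⟩ := by
        have h3 := congrArg (fun t : Γ(divMod D, Y y ⊓ Y z) => vl t ⟨z, hw⟩) (congrArg (φ.hom.app (Y y ⊓ Y z)) hu)
        rw [Scheme.Modules.Hom.app_smul, vl_smul] at h3
        have hn : ∀ (P Q : X.Opens) (h : P ≤ Q) (m : Γ(L, Q)),
            φ.hom.app P (rs L h m) = rs (divMod D) h (φ.hom.app Q m) := fun P Q h m =>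
          congr($(φ.hom.mapPresheaf.naturality (homOfLE h).op) m)
        rw [hn, hn] at h3
        exact h3.symm
      have h4 : X.presheaf.germ (Y y ⊓ Y z) z hw u * X.presheaf.germ (Y y) z hz (b y).1 * X.presheaf.germ (Y z) z (hy z) (a z).1 =
          X.presheaf.germ (Y z) z (hy z) (b z).1 * X.presheaf.germ (Y y) z hz (a y).1 := by
        refine j_injective z ?_
        have e₁ := hab z ⟨z, hy z⟩
        have e₂ := hab y ⟨z, hz⟩
        rw [h2] at e₁
        simp only [map_mul]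
        rw [← e₁, ← e₂]
        ring
      rw [h1, smul_smul, smul_smul, smul_smul, ← h4]
      congr 1
      ring
  refine ⟨⟨fun z => (LocalizedModule.mk (X.presheaf.germ (Y z.1) z.1 (hy z.1) (a z.1).1 •
    L.presheaf.germ (Y z.1) z.1 (hy z.1) (e z.1)) (regGerm ⟨z.1, hy z.1⟩ (b z.1)) : MStalk L z.1), fun y => ?_⟩, fun z q hq => ?_⟩
  · refine ⟨Y y.1, hy y.1, homOfLE le_top, (a y.1).1 • e y.1, b y.1, fun z => ?_⟩
    show LocalizedModule.mk _ _ = LocalizedModule.mk _ _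
    refine LocalizedModule.mk_eq.2 ⟨1, ?_⟩
    simp only [one_smul, Submonoid.smul_def]
    rw [Groth.L20.ModStalk.germ_smul]
    exact (key y.1 z.1 z.2).symm
  · induction q using LocalizedModule.induction_on with
    | h p c =>
      have h1 : (LocalizedModule.mk p c : KStalk X z) • (LocalizedModule.mk
        (X.presheaf.germ (Y z) z (hy z) (a z).1 • L.presheaf.germ (Y z) z (hy z) (e z))
        (regGerm ⟨z, hy z⟩ (b z)) : MStalk L z) = 0 := hq
      rw [mk_smul_mk, ← LocalizedModule.zero_mk 1, LocalizedModule.mk_eq] at h1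
      obtain ⟨t, ht⟩ := h1
      simp only [one_smul, smul_zero, Submonoid.smul_def, smul_smul] at ht
      have h0 := (bijective_germ_frame (he z) (hy z)).1 (ht.trans (zero_smul _ _).symm)
      have hp : p = 0 := (mul_right_mem_nonZeroDivisors_eq_zero_iff
        (_root_.Mero.regStalk_le_nonZeroDivisors z (regGerm ⟨z, hy z⟩ (a z)).2)).1
        ((mul_left_mem_nonZeroDivisors_eq_zero_iff (_root_.Mero.regStalk_le_nonZeroDivisors z t.2)).1 h0)
      subst hp
      exact LocalizedModule.zero_mk _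

/-- Two generators of a stalk differ by a unit. -/
theorem exists_unit_ratio {U V : X.Opens} {e : Γ(L, U)} {f : Γ(L, V)} (he : IsFrame L U e) (hf : IsFrame L V f)
    {x : X} (hxU : x ∈ U) (hxV : x ∈ V) :
    ∃ r : X.presheaf.stalk x, IsUnit r ∧ L.presheaf.germ V x hxV f = r • L.presheaf.germ U x hxU e := by
  obtain ⟨r, hr⟩ := (bijective_germ_frame he hxU).2 (L.presheaf.germ V x hxV f)
  obtain ⟨r', hr'⟩ := (bijective_germ_frame hf hxV).2 (L.presheaf.germ U x hxU e)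
  refine ⟨r, IsUnit.of_mul_eq_one r' ((bijective_germ_frame hf hxV).1 ?_), hr.symm⟩
  show (r * r') • _ = (1 : X.presheaf.stalk x) • _
  rw [mul_smul, show r' • L.presheaf.germ V x hxV f = _ from hr', one_smul]
  exact hr

theorem exists_iso_divMod_of_reduced [IsReduced X] (hX : ∀ x : ↥X, ∃ W : X.Opens, x ∈ W ∧
      {Z : Set ↥X | Z ∈ irreducibleComponents ↥X ∧ (Z ∩ (W : Set ↥X)).Nonempty}.Finite)
    (hL : PicF.IsInvertible L) : ∃ D : Divisor X, Nonempty (L ≅ divMod D) := by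
  classical
  choose U₀ e₀ hU₀ he₀ using fun x : X => Groth.L18.Frame.exists_frame hL x
  refine exists_iso_divMod_of_meroFrames (v := fun η => L.presheaf.germ (U₀ η) η (hU₀ η) (e₀ η)) fun y => ?_
  obtain ⟨W, hyW, hfin⟩ := hX y
  obtain ⟨Y, e, hyY, hYW, he⟩ := exists_frame_affine hL y hyW
  choose r hru hr using fun η : {η : X // η ∈ Y.1} => exists_unit_ratio he (he₀ η.1) η.2 (hU₀ η.1)
  have hfin' : {x : X | x ∈ Y.1 ∧ ∀ y : X, y ⤳ x → y = x}.Finite :=
    (finite_weakAss_reduced hfin).subset fun x hx => ⟨hYW hx.1, Groth.L22.isWeakAssPoint_of_maximal hx.2⟩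
  obtain ⟨a, b, hab⟩ := exists_frac_of_values Y.2 hfin' fun η => if hη : η ∈ Y.1 then j η (r ⟨η, hη⟩) else 0
  have hab' : ∀ (η : X) (hη : η ∈ Y.1), Curv2.IsWeakAssPoint (Coh.structureModule X) η →
      X.presheaf.germ Y.1 η hη a = r ⟨η, hη⟩ * X.presheaf.germ Y.1 η hη b.1 := fun η hη hA => by
    have h1 := hab η hη (Groth.L22.maximal_of_weakAss hA)
    rw [dif_pos hη] at h1
    change LocalizedModule.mk _ _ = j η _ at h1
    rw [j, Groth.L22.Mero.algebraMap_eq_mk, Groth.L22.Mero.mk_eq_mk_iff, Submonoid.coe_one, mul_one] at h1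
    exact h1
  have ha : a ∈ regSub X Y.1 := Groth.L22.mem_regSub_of_weakAss fun η hη hA => by
    rw [hab' η hη hA]
    exact (hru _).mul (Groth.L22.isUnit_of_weakAss hA (b.2 ⟨η, hη⟩))
  refine ⟨Y.1, hyY, e, ⟨a, ha⟩, b, he, fun η hη hA => ?_⟩
  beta_reduce
  rw [hr ⟨η, hη⟩, smul_smul]
  exact congrArg (· • L.presheaf.germ Y.1 η hη e) ((hab' η hη hA).trans (mul_comm _ _))

/-- On an affine open, a section generating at finitely many given points. -/
theorem exists_section_generating (hL : PicF.IsInvertible L) {W : X.Opens} (hW : IsAffineOpen W)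
    {S : Set X} (hS : S.Finite) (hSW : ∀ x ∈ S, x ∈ W) :
    ∃ σ : Γ(L, W), ∀ (x : X) (hx : x ∈ W), x ∈ S →
      Function.Surjective fun r : X.presheaf.stalk x => r • L.presheaf.germ W x hx σ := by
  classical
  haveI : Coh.IsQCoh L := Groth.L21.Extend.isQCoh_of_isInvertible hL
  let M : Finset X := hS.toFinset.filter fun x => ∀ y ∈ S, x ⤳ y → y = x
  have hM : ∀ t : M, t.1 ∈ S ∧ ∀ y ∈ S, t.1 ⤳ y → y = t.1 := fun t =>
    ⟨hS.mem_toFinset.1 (Finset.mem_filter.1 t.2).1, (Finset.mem_filter.1 t.2).2⟩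
  have hloc : ∀ t : M, ∃ (U : X.Opens) (e : Γ(L, U)) (hU : t.1 ∈ U) (σ : Γ(L, W)) (ε : Γ(X, W)) (c : X.presheaf.stalk t.1),
      IsFrame L U e ∧ IsUnit c ∧
      L.presheaf.germ W t.1 (hSW _ (hM t).1) σ = c • L.presheaf.germ U t.1 hU e ∧
      IsUnit (X.presheaf.germ W t.1 (hSW _ (hM t).1) ε) ∧
      ∀ t' : M, t' ≠ t → X.presheaf.germ W t'.1 (hSW _ (hM t').1) ε ∈ maximalIdeal (X.presheaf.stalk t'.1) := fun t => by
    have htW := hSW _ (hM t).1
    obtain ⟨U, e, hU, he⟩ := Groth.L18.Frame.exists_frame hL t.1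
    letI := Groth.L20.ModStalk.stalkModule L htW
    haveI := Groth.L20.ModStalk.isLocalizedModule_germ L hW htW
    letI : Algebra Γ(X, W) (X.presheaf.stalk t.1) :=
      TopCat.Presheaf.algebra_section_stalk X.presheaf ⟨t.1, htW⟩
    haveI := hW.isLocalization_stalk ⟨t.1, htW⟩
    obtain ⟨⟨σ, s⟩, hσ⟩ := IsLocalizedModule.surj (hW.primeIdealOf ⟨t.1, htW⟩).asIdeal.primeCompl
      (Groth.L20.ModStalk.germₗ L htW) (L.presheaf.germ U t.1 hU e)
    obtain ⟨ε, hε, hεt⟩ : ∃ ε : Γ(X, W), (∀ t' : M, t' ≠ t → ε ∈ (hW.primeIdealOf ⟨t'.1, hSW _ (hM t').1⟩).asIdeal) ∧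
        ε ∉ (hW.primeIdealOf ⟨t.1, htW⟩).asIdeal := by
      by_contra hcon
      push Not at hcon
      have hle : (Finset.univ.erase t).inf (fun t' : M => (hW.primeIdealOf ⟨t'.1, hSW _ (hM t').1⟩).asIdeal) ≤
          (hW.primeIdealOf ⟨t.1, htW⟩).asIdeal := fun e he => by
        rw [Submodule.mem_finsetInf] at he
        exact hcon e fun t' ht' => he t' (Finset.mem_erase.2 ⟨ht', Finset.mem_univ _⟩)
      obtain ⟨t', ht', hle'⟩ := (Ideal.IsPrime.inf_le' (hW.primeIdealOf ⟨t.1, htW⟩).2).1 hle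
      refine (Finset.mem_erase.1 ht').1 (Subtype.ext ?_)
      have h2 := ((PrimeSpectrum.le_iff_specializes (hW.primeIdealOf ⟨t'.1, hSW _ (hM t').1⟩) _).1 hle').map hW.fromSpec.continuous
      rw [hW.fromSpec_primeIdealOf, hW.fromSpec_primeIdealOf] at h2
      exact ((hM t').2 t.1 (hM t).1 h2).symm
    refine ⟨U, e, hU, σ, ε, X.presheaf.germ W t.1 htW (s : Γ(X, W)), he,
      IsLocalization.map_units (X.presheaf.stalk t.1) s, hσ.symm,
      IsLocalization.map_units (X.presheaf.stalk t.1) (⟨ε, hεt⟩ : (hW.primeIdealOf ⟨t.1, htW⟩).asIdeal.primeCompl),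
      fun t' ht' => ?_⟩
    letI : Algebra Γ(X, W) (X.presheaf.stalk t'.1) :=
      TopCat.Presheaf.algebra_section_stalk X.presheaf ⟨t'.1, hSW _ (hM t').1⟩
    haveI := hW.isLocalization_stalk ⟨t'.1, hSW _ (hM t').1⟩
    exact (IsLocalization.AtPrime.to_map_mem_maximal_iff (X.presheaf.stalk t'.1)
      (hW.primeIdealOf ⟨t'.1, hSW _ (hM t').1⟩).asIdeal ε).2 (hε t' ht')
  choose U e hU σ ε c he hc hσ hεu hεm using hloc
  refine ⟨∑ t, ε t • σ t, fun x hx hxS => ?_⟩
  obtain ⟨x₁, hx₁, hmax⟩ : ∃ x₁, x₁ ∈ M ∧ x ⤳ x₁ := by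
    let T := hS.toFinset.filter fun y => x ⤳ y
    obtain ⟨p, hp, hpmax⟩ := T.exists_maximalFor
      (fun y => if hy : y ∈ W then (hW.primeIdealOf ⟨y, hy⟩).asIdeal else ⊤)
      ⟨x, Finset.mem_filter.2 ⟨hS.mem_toFinset.2 hxS, specializes_rfl⟩⟩
    obtain ⟨hpS, hxp⟩ := Finset.mem_filter.1 hp
    refine ⟨p, Finset.mem_filter.2 ⟨hpS, fun y hy hpy => ?_⟩, hxp⟩
    have hpW := hSW p (hS.mem_toFinset.1 hpS)
    have hyW := hSW y hy
    have h1 : (hW.primeIdealOf ⟨p, hpW⟩).asIdeal ≤ (hW.primeIdealOf ⟨y, hyW⟩).asIdeal :=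
      (PrimeSpectrum.le_iff_specializes _ _).2 (hW.fromSpec.isOpenEmbedding.isInducing.specializes_iff.1 (by
        rw [hW.fromSpec_primeIdealOf, hW.fromSpec_primeIdealOf]; exact hpy))
    have h2 := hpmax (j := y) (Finset.mem_filter.2 ⟨hS.mem_toFinset.2 hy, hxp.trans hpy⟩)
    simp only [dif_pos hpW, dif_pos hyW] at h2
    have h3 : hW.primeIdealOf ⟨p, hpW⟩ = hW.primeIdealOf ⟨y, hyW⟩ := PrimeSpectrum.ext (le_antisymm h1 (h2 h1))
    exact (((hW.fromSpec_primeIdealOf ⟨p, hpW⟩).symm.trans (congrArg hW.fromSpec h3)).trans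
      (hW.fromSpec_primeIdealOf ⟨y, hyW⟩)).symm
  let t : M := ⟨x₁, hx₁⟩
  have ht₁ : t.1 ∈ W := hSW _ (hM t).1
  obtain ⟨r, hr, hsum⟩ : ∃ r : X.presheaf.stalk t.1, IsUnit r ∧
      L.presheaf.germ W t.1 ht₁ (∑ i, ε i • σ i) = r • L.presheaf.germ (U t) t.1 (hU t) (e t) := by
    choose r₁ hr₁ using fun i => (bijective_germ_frame (he t) (hU t)).2 (L.presheaf.germ W t.1 ht₁ (σ i))
    refine ⟨∑ i, X.presheaf.germ W t.1 ht₁ (ε i) * r₁ i, ?_, ?_⟩
    · rw [← Finset.add_sum_erase _ _ (Finset.mem_univ t)]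
      have hu : IsUnit (X.presheaf.germ W t.1 ht₁ (ε t) * r₁ t) :=
        (hεu t).mul (by
          have := (bijective_germ_frame (he t) (hU t)).1 ((hr₁ t).trans (hσ t))
          rw [this]; exact hc t)
      by_contra hnu
      have hrest : ∑ i ∈ Finset.univ.erase t, X.presheaf.germ W t.1 ht₁ (ε i) * r₁ i ∈
          maximalIdeal (X.presheaf.stalk t.1) :=
        Ideal.sum_mem _ fun i hi => Ideal.mul_mem_right _ _ (hεm i t (Finset.mem_erase.1 hi).1.symm)
      exact ((IsLocalRing.mem_maximalIdeal _).1 ((Submodule.add_mem_iff_left _ hrest).1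
        ((IsLocalRing.mem_maximalIdeal _).2 hnu))) hu
    · rw [map_sum, Finset.sum_smul]
      refine Finset.sum_congr rfl fun i _ => ?_
      rw [Groth.L20.ModStalk.germ_smul, mul_smul]
      exact congrArg _ (hr₁ i).symm
  have hxU : x ∈ U t := hmax.mem_open (U t).2 (hU t)
  have hWU : x₁ ∈ W ⊓ U t := ⟨ht₁, hU t⟩
  obtain ⟨g, hg⟩ := (he t).exists_coeff (inf_le_right : W ⊓ U t ≤ U t) (rs L inf_le_left (∑ i, ε i • σ i))
  have hgr : X.presheaf.germ (W ⊓ U t) t.1 hWU g = r := by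
    refine (bijective_germ_frame (he t) (hU t)).1 ?_
    show _ • _ = r • _
    rw [← hsum, ← Groth.L20.ModStalk.germ_rs L (inf_le_right : W ⊓ U t ≤ U t) hWU (e t),
      ← Groth.L20.ModStalk.germ_smul, hg, Groth.L20.ModStalk.germ_rs]
  have hgx : IsUnit (X.presheaf.germ (W ⊓ U t) x ⟨hx, hxU⟩ g) :=
    ((X.mem_basicOpen g x ⟨hx, hxU⟩).1 (hmax.mem_open (X.basicOpen g).2
      ((X.mem_basicOpen g t.1 hWU).2 (hgr ▸ hr))))
  intro w
  obtain ⟨q, hq⟩ := (bijective_germ_frame (he t) hxU).2 w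
  obtain ⟨d, hd⟩ := hgx.exists_left_inv
  refine ⟨q * d, ?_⟩
  show (q * d) • _ = w
  rw [← Groth.L20.ModStalk.germ_rs L (inf_le_left : W ⊓ U t ≤ W) (show x ∈ W ⊓ U t from ⟨hx, hxU⟩), ← hg,
    Groth.L20.ModStalk.germ_smul, Groth.L20.ModStalk.germ_rs, smul_smul, mul_assoc, hd, mul_one]
  exact hq

theorem exists_iso_divMod_of_affine [IsLocallyNoetherian X] (hX : ∃ W : X.Opens, IsAffineOpen W ∧ ∀ x : ↥X,
      IsAssociatedPrime (maximalIdeal ↑(X.presheaf.stalk x)) ↑(X.presheaf.stalk x) → x ∈ W)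
    (hL : PicF.IsInvertible L) : ∃ D : Divisor X, Nonempty (L ≅ divMod D) := by
  classical
  obtain ⟨W, hW, hW'⟩ := hX
  have hmem : ∀ η, Curv2.IsWeakAssPoint (Coh.structureModule X) η → η ∈ W := fun η hA => hW' η (assPoint_of_weakAss hA)
  obtain ⟨σ, hσ⟩ := exists_section_generating hL hW (finite_weakAss_affine hW) fun x hx => hx.1
  refine exists_iso_divMod_of_meroFrames
    (v := fun η => if hη : η ∈ W then L.presheaf.germ W η hη σ else 0) fun y => ?_
  obtain ⟨Y, e, hyY, -, he⟩ := exists_frame_affine hL y (O := ⊤) trivial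
  obtain ⟨h, hh⟩ := he.exists_coeff (inf_le_left : Y.1 ⊓ W ≤ Y.1) (rs L inf_le_right σ)
  obtain ⟨b, hb, hbV⟩ := exists_regular_basicOpen_le (V := Y.1 ⊓ W) Y.2 (finite_weakAss_affine Y.2)
    fun x hx hA => ⟨hx, hmem x hA⟩
  obtain ⟨a, c, hac⟩ := exists_frac_eq_toK Y.2 h hb hbV
  have hac' : ∀ (η : X) (hη : η ∈ Y.1) (hηW : η ∈ W),
      X.presheaf.germ Y.1 η hη a = X.presheaf.germ (Y.1 ⊓ W) η ⟨hη, hηW⟩ h * X.presheaf.germ Y.1 η hη c.1 :=
    fun η hη hηW => by
      have h1 := hac η hη ⟨hη, hηW⟩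
      rw [_root_.Mero.toK_apply] at h1
      change LocalizedModule.mk _ _ = LocalizedModule.mk _ _ at h1
      rw [Groth.L22.Mero.mk_eq_mk_iff, Submonoid.coe_one, mul_one] at h1
      exact h1
  have hσe : ∀ (η : X) (hη : η ∈ Y.1) (hηW : η ∈ W), L.presheaf.germ W η hηW σ =
      X.presheaf.germ (Y.1 ⊓ W) η ⟨hη, hηW⟩ h • L.presheaf.germ Y.1 η hη e := fun η hη hηW => by
    rw [← Groth.L20.ModStalk.germ_rs L (inf_le_right : Y.1 ⊓ W ≤ W) (show η ∈ Y.1 ⊓ W from ⟨hη, hηW⟩) σ, ← hh,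
      Groth.L20.ModStalk.germ_smul, Groth.L20.ModStalk.germ_rs]
  have ha : a ∈ regSub X Y.1 := Groth.L22.mem_regSub_of_weakAss fun η hη hA => by
    rw [hac' η hη (hmem η hA)]
    refine IsUnit.mul ?_ (Groth.L22.isUnit_of_weakAss hA (c.2 ⟨η, hη⟩))
    obtain ⟨r, hr⟩ := hσ η (hmem η hA) ⟨hmem η hA, hA⟩ (L.presheaf.germ Y.1 η hη e)
    refine IsUnit.of_mul_eq_one r ((bijective_germ_frame he hη).1 ?_)
    show (_ * r) • _ = (1 : X.presheaf.stalk η) • _
    rw [mul_comm, mul_smul, ← hσe η hη (hmem η hA), one_smul]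
    exact hr
  refine ⟨Y.1, hyY, e, ⟨a, ha⟩, c, he, fun η hη hA => ?_⟩
  beta_reduce
  rw [dif_pos (hmem η hA), hσe η hη (hmem η hA), smul_smul]
  exact congrArg (· • L.presheaf.germ Y.1 η hη e) ((hac' η hη (hmem η hA)).trans (mul_comm _ _))

end Groth.L21.Mero
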