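import Groth.Agent.L21.Mero.Stalk
import Groth.Agent.L21.RR.RingSections
import Groth.Agent.L21.Nodal.CurveLike
import Groth.Agent.L21.Nodal.BaseChange
import Groth.Agent.L18.CurveDimension
import Groth.Agent.L16.ProjSpace.Basic
import Groth.Prelude.Def_Curv2

/-!
`O_X(D)` on curves: sections and Euler characteristics along an effective difference.
-/

set_option autoImplicit false
set_option backward.isDefEq.respectTransparency false
set_option linter.style.haveILetI false
universe u

open CategoryTheory CategoryTheory.Limits AlgebraicGeometry TopologicalSpace Opposite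
open Groth.L21.RR (h hk SuppClosed)

noncomputable section

namespace Groth.L21.Mero

open _root_.Mero (Divisor divMod DivLE IsEffective)

variable {X : Scheme.{u}}

theorem dim_stalk_zero_of_not_isClosed (hcl : Groth.L21.Nodal.CurveLike X) [CompactSpace X] {y : X}
    (hy : ¬ IsClosed ({y} : Set X)) : ringKrullDim (X.presheaf.stalk y) ≤ 0 := by
  by_contra hd
  obtain ⟨a, hay, hne⟩ := (Groth.L18.CurveDim.one_le_dim_stalk_iff y).1 (by
    rw [not_le] at hd
    revert hd
    cases ringKrullDim (X.presheaf.stalk y) with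
    | bot => simp
    | coe d =>
      intro hd
      have : (0 : ℕ∞) < d := by exact_mod_cast hd
      exact_mod_cast Order.one_le_iff_pos.2 this)
  obtain ⟨z, hz, hyz⟩ := Groth.L21.RR.exists_closed_specialization y
  rcases hcl.1 a y z hay hyz with e | e
  · exact hne e
  · exact hy (e ▸ hz)

variable {D D' : Divisor X}

theorem eq_top_of_dim_zero [IsLocallyNoetherian X] {E : Divisor X} (hE : IsEffective E) {y : X}
    (hy : ringKrullDim (X.presheaf.stalk y) ≤ 0) : eqIdeal E y = ⊤ := by
  obtain ⟨a, ha, he, -⟩ := exists_eq E hE y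
  haveI : Ring.KrullDimLE 0 (X.presheaf.stalk y) := (Ring.krullDimLE_iff (n := 0)).2 hy
  haveI : IsArtinianRing (X.presheaf.stalk y) := isArtinianRing_iff_isNoetherianRing_krullDimLE_zero.2 ⟨inferInstance, inferInstance⟩
  rw [he, Ideal.span_singleton_eq_top]
  exact IsArtinianRing.isUnit_of_mem_nonZeroDivisors ha

theorem suppClosed_cokernel [IsLocallyNoetherian X] [CompactSpace X] (hcl : Groth.L21.Nodal.CurveLike X)
    (h : DivLE D D') : SuppClosed (cokernel (inclLE h)) := fun y hy => by
  obtain ⟨θ⟩ := exists_cokernel_stalk_equiv h y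
  have := eq_top_of_dim_zero (E := D' * D⁻¹) h (dim_stalk_zero_of_not_isClosed hcl hy)
  haveI : Subsingleton ((X.presheaf.stalk y) ⧸ eqIdeal (D' * D⁻¹) y) := Submodule.Quotient.subsingleton_iff.2 this
  exact θ.symm.toEquiv.subsingleton

variable (k : Type u) [Field k] [X.Over (Spec (CommRingCat.of k))] [IsProper (X ↘ Spec (CommRingCat.of k))]

theorem euler_divMod_eq (hcl : Groth.L21.Nodal.CurveLike X) (h : DivLE D D') :
    Curv2.euler k X (divMod D') = Curv2.euler k X (divMod D) + Groth.L21.RR.h k 0 (cokernel (inclLE h)) := by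
  haveI := Groth.L21.RR.isNoetherian_of_proper (X := X) k
  have h1 := Groth.L16.ProperFinite.isCoh_of_isInvertible (isInvertible_divMod D)
  have h2 := Groth.L16.ProperFinite.isCoh_of_isInvertible (isInvertible_divMod D')
  have hS : (ShortComplex.mk (inclLE h) (cokernel.π (inclLE h)) (cokernel.condition _)).ShortExact :=
    { exact := ShortComplex.exact_cokernel _ }
  rw [Groth.L21.RR.euler_add k (Groth.L21.Nodal.topologicalKrullDim_le_one_of_curveLike hcl) hS h1 h2
    (Groth.L16.CohKernel.isCoh_kernel_cokernel h1 h2 _).2,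
    Groth.L21.RR.euler_eq_h0_of_suppClosed k (suppClosed_cokernel hcl h)]

theorem h0_le (hcl : Groth.L21.Nodal.CurveLike X) (hle : DivLE D D') :
    h k 0 (divMod D) ≤ h k 0 (divMod D') ∧
      h k 0 (divMod D') ≤ h k 0 (divMod D) + h k 0 (cokernel (inclLE hle)) := by
  haveI := Groth.L21.RR.isNoetherian_of_proper (X := X) k
  have h1 := Groth.L16.ProperFinite.isCoh_of_isInvertible (isInvertible_divMod D)
  have h2 := Groth.L16.ProperFinite.isCoh_of_isInvertible (isInvertible_divMod D')
  haveI := Groth.L21.RR.finite_HH' k h2 0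
  haveI := Groth.L21.RR.finite_HH' k (Groth.L16.CohKernel.isCoh_kernel_cokernel h1 h2 (inclLE hle)).2 0
  have hS : (ShortComplex.mk (inclLE hle) (cokernel.π (inclLE hle)) (cokernel.condition _)).ShortExact :=
    { exact := ShortComplex.exact_cokernel _ }
  let f := hk k (inclLE hle) 0
  let g := hk k (cokernel.π (inclLE hle)) 0
  have hf : Function.Injective f := Groth.L21.RR.injective_hmap_zero (inclLE hle)
  have hex : LinearMap.range f = LinearMap.ker g := by
    ext z
    exact (Groth.L16.CohLinear.exact_hmap_hmap hS 0 z).symm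
  have h3 := LinearMap.finrank_range_add_finrank_ker g
  rw [← hex, LinearMap.finrank_range_of_inj hf] at h3
  have h4 := Submodule.finrank_le (LinearMap.range g)
  unfold Groth.L21.RR.h
  omega

theorem divLE_one {E : Divisor X} (hE : IsEffective E) : DivLE 1 E := by
  show IsEffective (E * (1 : Divisor X)⁻¹)
  rwa [inv_one, mul_one]

/-- The colength only depends on the difference of the divisors. -/
theorem h0_cokernel_eq_deg (hcl : Groth.L21.Nodal.CurveLike X) (hle : DivLE D D') :
    (h k 0 (cokernel (inclLE hle)) : ℤ) = Curv2.deg k X (divMod (D' * D⁻¹)) 1 := by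
  haveI := Groth.L21.RR.isNoetherian_of_proper (X := X) k
  have hE : IsEffective (D' * D⁻¹) := hle
  obtain ⟨e⟩ := nonempty_iso_one (X := X)
  have hθ : ∀ x : X, Nonempty ((cokernel (inclLE (divLE_one hE))).presheaf.stalk x ≃ₗ[X.presheaf.stalk x]
      (cokernel (inclLE hle)).presheaf.stalk x) := fun x => by
    obtain ⟨θ₁⟩ := exists_cokernel_stalk_equiv (divLE_one hE) x
    obtain ⟨θ₂⟩ := exists_cokernel_stalk_equiv hle x
    rw [show D' * D⁻¹ * (1 : Divisor X)⁻¹ = D' * D⁻¹ by rw [inv_one, mul_one]] at θ₁
    exact ⟨θ₁.symm.trans θ₂⟩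
  have h1 := euler_divMod_eq k hcl (divLE_one hE)
  rw [Groth.L21.RR.h0_eq_of_stalk_equiv k (suppClosed_cokernel hcl (divLE_one hE)) (suppClosed_cokernel hcl hle)
    (fun x => (hθ x).some), ← Groth.L21.RR.euler_congr k e] at h1
  rw [Curv2.deg, h1]
  push_cast
  ring

end Groth.L21.Mero
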