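import Groth.Agent.L21.Mero.ClassMap

/-!
The ideal of denominators of a regular meromorphic section.
-/

set_option autoImplicit false
set_option backward.isDefEq.respectTransparency false
set_option linter.style.haveILetI false
universe u

open CategoryTheory AlgebraicGeometry TopologicalSpace Opposite
open Groth.L18.Frame (IsFrame rs ro rs_self)
open Groth.L21.RR (bijective_germ_frame)

noncomputable section

namespace Groth.L21.Mero

open _root_.Mero (KStalk regStalk regSub regGerm merMod MStalk denomIdeal IsRegularMero)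

variable {X : Scheme.{u}} {L : X.Modules}

/-- A regular meromorphic section is locally `a/c` times a frame, both regular. -/
theorem exists_local_form (hL : PicF.IsInvertible L) {s : Γ(merMod L, ⊤)} (hs : IsRegularMero L s) (y : X) :
    ∃ (W : X.affineOpens) (_ : y ∈ W.1) (e : Γ(L, W.1)) (a c : regSub X W.1), IsFrame L W.1 e ∧
      ∀ z : W.1, s.1 ⟨z.1, trivial⟩ = (LocalizedModule.mk (X.presheaf.germ W.1 z.1 z.2 a.1 •
        L.presheaf.germ W.1 z.1 z.2 e) (regGerm z c) : MStalk L z.1) := by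
  obtain ⟨V, hyV, i, m, c, w⟩ := s.2 ⟨y, trivial⟩
  obtain ⟨W, e, hyW, hWV, he⟩ := exists_frame_affine hL y hyV
  obtain ⟨a, ha⟩ := he.exists_coeff le_rfl (rs L hWV m)
  rw [rs_self] at ha
  let c' : regSub X W.1 := ⟨_, _root_.Mero.regSub_res (homOfLE hWV) c.2⟩
  have hw : ∀ z : W.1, s.1 ⟨z.1, trivial⟩ = (LocalizedModule.mk (X.presheaf.germ W.1 z.1 z.2 a •
      L.presheaf.germ W.1 z.1 z.2 e) (regGerm z c') : MStalk L z.1) := fun z => by
    refine (w ⟨z.1, hWV z.2⟩).trans (_root_.Mero.mk_congr ?_ ?_)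
    · rw [← Groth.L20.ModStalk.germ_smul, ha, Groth.L20.ModStalk.germ_rs]
    · exact (TopCat.Presheaf.germ_res_apply X.presheaf (homOfLE hWV) z.1 z.2 c.1).symm
  have hreg : a ∈ regSub X W.1 := fun z => by
    refine mem_nonZeroDivisors_iff_right.2 fun p hp => ?_
    refine j_injective z.1 ?_
    rw [map_zero]
    refine hs z.1 _ ?_
    rw [hw z, j, Groth.L22.Mero.algebraMap_eq_mk, mk_smul_mk, smul_smul, hp, zero_smul, LocalizedModule.zero_mk]
  exact ⟨W, hyW, e, ⟨a, hreg⟩, c', he, hw⟩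

theorem toMerFun_injective_stalk (hL : PicF.IsInvertible L) {x : X} (w : L.presheaf.stalk x)
    (h : (LocalizedModule.mk w 1 : MStalk L x) = 0) : w = 0 := by
  obtain ⟨U, e, hxU, he⟩ := Groth.L18.Frame.exists_frame hL x
  rw [← LocalizedModule.zero_mk 1, LocalizedModule.mk_eq] at h
  obtain ⟨t, ht⟩ := h
  simp only [one_smul, smul_zero, Submonoid.smul_def] at ht
  obtain ⟨r, rfl⟩ := (bijective_germ_frame he hxU).2 w
  have h1 : (t : X.presheaf.stalk x) * r = 0 := by
    refine (bijective_germ_frame he hxU).1 ?_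
    show (_ * r) • _ = (0 : X.presheaf.stalk x) • _
    rw [mul_smul, zero_smul]
    exact ht
  rw [(mul_left_mem_nonZeroDivisors_eq_zero_iff (_root_.Mero.regStalk_le_nonZeroDivisors x t.2)).1 h1]
  exact zero_smul _ _

/-- The condition for a germ to be a denominator. -/
def IsDen (s : Γ(merMod L, ⊤)) (x : X) (r : X.presheaf.stalk x) : Prop :=
  ∃ w : L.presheaf.stalk x, r • s.1 ⟨x, trivial⟩ = LocalizedModule.mk w 1

theorem isDen_iff {s : Γ(merMod L, ⊤)} {W : X.Opens} {e : Γ(L, W)} (he : IsFrame L W e) {a c : regSub X W}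
    (hw : ∀ z : W, s.1 ⟨z.1, trivial⟩ = (LocalizedModule.mk (X.presheaf.germ W z.1 z.2 a.1 •
        L.presheaf.germ W z.1 z.2 e) (regGerm z c) : MStalk L z.1)) (z : W) (r : X.presheaf.stalk z.1) :
    IsDen s z.1 r ↔ r * X.presheaf.germ W z.1 z.2 a.1 ∈ Ideal.span {X.presheaf.germ W z.1 z.2 c.1} := by
  rw [Ideal.mem_span_singleton', IsDen, hw z]
  constructor
  · rintro ⟨w, hwz⟩
    obtain ⟨q, rfl⟩ := (bijective_germ_frame he z.2).2 w
    rw [LocalizedModule.smul'_mk, LocalizedModule.mk_eq] at hwz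
    obtain ⟨t, ht⟩ := hwz
    simp only [one_smul, Submonoid.smul_def, smul_smul] at ht
    refine ⟨q, (mul_cancel_left_mem_nonZeroDivisors (_root_.Mero.regStalk_le_nonZeroDivisors z.1 t.2)).1 ?_⟩
    refine (bijective_germ_frame he z.2).1 ?_
    show _ • L.presheaf.germ W z.1 z.2 e = _ • L.presheaf.germ W z.1 z.2 e
    simp only [← mul_assoc] at ht ⊢
    rw [ht]
    congr 1
    ring
  · rintro ⟨q, hq⟩
    refine ⟨q • L.presheaf.germ W z.1 z.2 e, ?_⟩
    rw [LocalizedModule.smul'_mk, LocalizedModule.mk_eq]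
    refine ⟨1, ?_⟩
    simp only [one_smul, Submonoid.smul_def, smul_smul]
    rw [← hq, mul_comm]

/-- Denominators are detected on germs. -/
theorem mem_denomIdeal_iff (hL : PicF.IsInvertible L) (s : Γ(merMod L, ⊤)) {U : X.Opens} (f : Γ(X, U)) :
    f ∈ denomIdeal L s U ↔ ∀ x : U, IsDen s x.1 (X.presheaf.germ U x.1 x.2 f) := by
  constructor
  · rintro ⟨m, hm⟩ x
    exact ⟨L.presheaf.germ U x.1 x.2 m, hm x⟩
  · intro h
    have hloc : ∀ x : U, ∃ (W : X.Opens) (_ : x.1 ∈ W) (hWU : W ≤ U) (m : Γ(L, W)), ∀ z : W,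
        X.presheaf.germ U z.1 (hWU z.2) f • s.1 ⟨z.1, trivial⟩ =
          (LocalizedModule.mk (L.presheaf.germ W z.1 z.2 m) 1 : MStalk L z.1) := fun x => by
      obtain ⟨w, hw⟩ := h x
      obtain ⟨V, hxV, m, rfl⟩ := TopCat.Presheaf.exists_germ_eq L.presheaf w
      obtain ⟨V₁, hx₁, i, n, b, hs₁⟩ := s.2 ⟨x.1, trivial⟩
      rw [show s.1 ⟨x.1, trivial⟩ = _ from hs₁ ⟨x.1, hx₁⟩, LocalizedModule.smul'_mk, LocalizedModule.mk_eq] at hw
      obtain ⟨t, ht⟩ := hw
      obtain ⟨T, hxT, t', ht', htt⟩ := t.2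
      simp only [one_smul, Submonoid.smul_def] at ht
      let O : X.Opens := (U ⊓ V) ⊓ (V₁ ⊓ T)
      have hxO : x.1 ∈ O := ⟨⟨x.2, hxV⟩, ⟨hx₁, hxT⟩⟩
      have o₁ : O ≤ U := inf_le_left.trans inf_le_left
      have o₂ : O ≤ V := inf_le_left.trans inf_le_right
      have o₃ : O ≤ V₁ := inf_le_right.trans inf_le_left
      have o₄ : O ≤ T := inf_le_right.trans inf_le_right
      have h1 : L.presheaf.germ O x.1 hxO (ro o₄ t' • ro o₁ f • rs L o₃ n) =
          L.presheaf.germ O x.1 hxO (ro o₄ t' • ro o₃ b.1 • rs L o₂ m) := by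
        simp only [Groth.L20.ModStalk.germ_smul, Groth.L20.ModStalk.germ_rs, ro, TopCat.Presheaf.germ_res_apply]
        rw [htt]
        exact ht
      obtain ⟨W, hxW, i₁, i₂, he⟩ := L.presheaf.germ_eq x.1 hxO hxO _ _ h1
      refine ⟨W, hxW, fun z hz => o₁ (i₁.le hz), rs L (fun z hz => o₂ (i₁.le hz)) m, fun z => ?_⟩
      have hzO : z.1 ∈ O := i₁.le z.2
      rw [show s.1 ⟨z.1, trivial⟩ = _ from hs₁ ⟨z.1, o₃ hzO⟩, LocalizedModule.smul'_mk, LocalizedModule.mk_eq]
      refine ⟨regGerm ⟨z.1, o₄ hzO⟩ ⟨t', ht'⟩, ?_⟩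
      simp only [one_smul, Submonoid.smul_def]
      have h2 := congrArg (L.presheaf.germ W z.1 z.2) he
      simp only [TopCat.Presheaf.germ_res_apply, TopCat.Presheaf.germ_res_apply', Groth.L20.ModStalk.germ_smul,
        Groth.L20.ModStalk.germ_rs, ro] at h2
      simp only [TopCat.Presheaf.germ_res_apply, TopCat.Presheaf.germ_res_apply', Groth.L20.ModStalk.germ_rs]
      exact h2
    choose W hxW hWU m hm using hloc
    have hcompat : TopCat.Presheaf.IsCompatible (((Groth.L21.Mod.toAbSh X).obj L).1) W m := by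
      intro p q
      refine TopCat.Presheaf.section_ext ((Groth.L21.Mod.toAbSh X).obj L) _ _ _ fun z hz => ?_
      show L.presheaf.germ (W p ⊓ W q) z hz _ = L.presheaf.germ (W p ⊓ W q) z hz _
      refine (TopCat.Presheaf.germ_res_apply L.presheaf _ z hz _).trans
        (Eq.trans ?_ (TopCat.Presheaf.germ_res_apply L.presheaf _ z hz _).symm)
      refine sub_eq_zero.1 (toMerFun_injective_stalk hL _ ?_)
      have h3 := (hm p ⟨z, hz.1⟩).symm.trans (hm q ⟨z, hz.2⟩)
      refine Eq.trans ?_ (sub_eq_zero.2 h3)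
      exact (map_sub (LocalizedModule.mkLinearMap (regStalk X z) (L.presheaf.stalk z)) _ _)
    obtain ⟨t, ht, -⟩ := TopCat.Sheaf.existsUnique_gluing ((Groth.L21.Mod.toAbSh X).obj L) W m hcompat
    have hle : U ≤ iSup W := fun y hy => Opens.mem_iSup.2 ⟨⟨y, hy⟩, hxW _⟩
    refine ⟨rs L hle t, fun y => ?_⟩
    refine (hm y ⟨y.1, hxW y⟩).trans ?_
    show LocalizedModule.mk _ 1 = LocalizedModule.mk _ 1
    refine congrArg (LocalizedModule.mk · 1) ?_
    rw [← show L.presheaf.map (Opens.leSupr W y).op t = m y from ht y]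
    exact (TopCat.Presheaf.germ_res_apply L.presheaf _ y.1 (hxW y) t).trans
      (TopCat.Presheaf.germ_res_apply L.presheaf _ y.1 y.2 t).symm

theorem denomIdeal_restrict (hL : PicF.IsInvertible L) (s : Γ(merMod L, ⊤)) {U V : X.Opens} (h : V ≤ U)
    {f : Γ(X, U)} (hf : f ∈ denomIdeal L s U) : ro h f ∈ denomIdeal L s V := by
  rw [mem_denomIdeal_iff hL] at hf ⊢
  intro x
  rw [ro, TopCat.Presheaf.germ_res_apply]
  exact hf ⟨x.1, h x.2⟩

theorem exists_pow_mul_mem (hL : PicF.IsInvertible L) {s : Γ(merMod L, ⊤)} (hs : IsRegularMero L s)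
    {U : X.Opens} (hU : IsAffineOpen U) (h g : Γ(X, U)) (hg : ro (X.basicOpen_le h) g ∈ denomIdeal L s (X.basicOpen h)) :
    ∃ n : ℕ, h ^ n * g ∈ denomIdeal L s U := by
  rw [mem_denomIdeal_iff hL] at hg
  have hloc : ∀ y : U, ∃ (W : X.Opens) (_ : y.1 ∈ W) (hWU : W ≤ U) (n : ℕ), ∀ z : W,
      IsDen s z.1 (X.presheaf.germ U z.1 (hWU z.2) (h ^ n * g)) := fun y => by
    obtain ⟨W₀, hy₀, e, a, c, he, hw⟩ := exists_local_form hL hs y.1
    obtain ⟨W, hW, hyW, hWle⟩ := exists_isAffineOpen_mem_and_subset (show y.1 ∈ W₀.1 ⊓ U from ⟨hy₀, y.2⟩)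
    have hW₀ : W ≤ W₀.1 := fun z hz => (hWle hz).1
    have hWU : W ≤ U := fun z hz => (hWle hz).2
    let h' : Γ(X, W) := ro hWU h
    haveI := hW.isLocalization_basicOpen h'
    have hB : X.basicOpen h' ≤ X.basicOpen h := fun z hz => by
      have hzW : z ∈ W := X.basicOpen_le h' hz
      have := (X.mem_basicOpen h' z hzW).1 hz
      rw [TopCat.Presheaf.germ_res_apply] at this
      exact (X.mem_basicOpen h z (hWU hzW)).2 this
    let c' : regSub X (X.basicOpen h') :=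
      ⟨_, _root_.Mero.regSub_res (homOfLE ((X.basicOpen_le h').trans hW₀)) c.2⟩
    let p : Γ(X, X.basicOpen h') := ro (X.basicOpen_le h') (ro hWU g * ro hW₀ a.1)
    obtain ⟨q, hq⟩ := exists_section_of_range (frac p c') fun z => by
      have hzW : z.1 ∈ W := X.basicOpen_le h' z.2
      obtain ⟨q, hq⟩ := Ideal.mem_span_singleton'.1 ((isDen_iff he hw ⟨z.1, hW₀ hzW⟩ _).1 (hg ⟨z.1, hB z.2⟩))
      refine ⟨q, ?_⟩
      show algebraMap _ (KStalk X z.1) q = LocalizedModule.mk _ _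
      rw [Groth.L22.Mero.algebraMap_eq_mk, Groth.L22.Mero.mk_eq_mk_iff, Submonoid.coe_one, mul_one]
      simp only [p, c', ro, map_mul, TopCat.Presheaf.germ_res_apply, TopCat.Presheaf.germ_res_apply'] at hq ⊢
      exact hq
    obtain ⟨⟨q', _, k, rfl⟩, hk⟩ := IsLocalization.surj (Submonoid.powers h') q
    have h0 : algebraMap Γ(X, W) Γ(X, X.basicOpen h') (h' ^ k * (ro hWU g * ro hW₀ a.1)) =
        algebraMap Γ(X, W) Γ(X, X.basicOpen h') (q' * ro hW₀ c.1) := by
      refine TopCat.Presheaf.section_ext X.sheaf _ _ _ fun z hz => ?_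
      have hzW : z ∈ W := X.basicOpen_le h' hz
      have h1 := hq ⟨z, hz⟩
      change LocalizedModule.mk _ _ = j z _ at h1
      rw [j, Groth.L22.Mero.algebraMap_eq_mk, Groth.L22.Mero.mk_eq_mk_iff, Submonoid.coe_one, mul_one] at h1
      have h2 := congrArg (X.presheaf.germ (X.basicOpen h') z hz) hk
      rw [map_mul] at h2
      change _ * X.presheaf.germ _ z hz (X.presheaf.map (homOfLE (X.basicOpen_le h')).op _) =
        X.presheaf.germ _ z hz (X.presheaf.map (homOfLE (X.basicOpen_le h')).op _) at h2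
      change X.presheaf.germ _ z hz (X.presheaf.map (homOfLE (X.basicOpen_le h')).op _) =
        X.presheaf.germ _ z hz (X.presheaf.map (homOfLE (X.basicOpen_le h')).op _)
      simp only [p, c', ro, map_mul, map_pow, TopCat.Presheaf.germ_res_apply, TopCat.Presheaf.germ_res_apply'] at h1 h2 ⊢
      rw [h1, ← h2]
      ring
    obtain ⟨⟨_, l, rfl⟩, hl⟩ := (IsLocalization.eq_iff_exists (Submonoid.powers h') _).1 h0
    refine ⟨W, hyW, hWU, l + k, fun z => (isDen_iff he hw ⟨z.1, hW₀ z.2⟩ _).2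
      (Ideal.mem_span_singleton'.2 ⟨X.presheaf.germ W z.1 z.2 (h' ^ l * q'), ?_⟩)⟩
    have h3 := congrArg (X.presheaf.germ W z.1 z.2) hl
    simp only [h', ro, map_mul, map_pow, TopCat.Presheaf.germ_res_apply, TopCat.Presheaf.germ_res_apply'] at h3 ⊢
    rw [pow_add, mul_assoc, ← h3]
    ring
  choose W hyW hWU n hn using hloc
  obtain ⟨t, ht⟩ := hU.isCompact.elim_finite_subcover (fun y : U => (W y : Set X))
    (fun y => (W y).2) fun x hx => Set.mem_iUnion.2 ⟨⟨x, hx⟩, hyW _⟩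
  refine ⟨t.sup n, (mem_denomIdeal_iff hL s _).2 fun z => ?_⟩
  obtain ⟨y, hyt, hz⟩ := Set.mem_iUnion₂.1 (ht z.2)
  obtain ⟨k, hk⟩ := Nat.le.dest (Finset.le_sup (f := n) hyt)
  obtain ⟨w, hw⟩ := hn y ⟨z.1, hz⟩
  refine ⟨X.presheaf.germ U z.1 z.2 (h ^ k) • w, ?_⟩
  rw [← hk, add_comm, pow_add, mul_assoc, map_mul, mul_smul, hw, LocalizedModule.smul'_mk]

/-- The ideal sheaf of denominators. -/
def denomSheaf (hL : PicF.IsInvertible L) {s : Γ(merMod L, ⊤)} (hs : IsRegularMero L s) : X.IdealSheafData where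
  ideal U := denomIdeal L s U.1
  map_ideal_basicOpen U h := by
    refine le_antisymm (Ideal.map_le_iff_le_comap.2 fun f hf => denomIdeal_restrict hL s (X.basicOpen_le h) hf) fun f hf => ?_
    letI := U.2.isLocalization_basicOpen h
    obtain ⟨⟨g, _, k, rfl⟩, hk⟩ := IsLocalization.surj (Submonoid.powers h) (f : Γ(X, X.basicOpen h))
    have hg : ro (X.basicOpen_le h) g ∈ denomIdeal L s (X.basicOpen h) := by
      change algebraMap Γ(X, U.1) Γ(X, X.basicOpen h) g ∈ _
      rw [← hk]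
      exact Ideal.mul_mem_right _ _ hf
    obtain ⟨n, hn⟩ := exists_pow_mul_mem hL hs U.2 h g hg
    have hu : IsUnit (algebraMap Γ(X, U.1) Γ(X, X.basicOpen h) (h ^ (n + k))) :=
      IsLocalization.map_units Γ(X, X.basicOpen h) (⟨_, n + k, rfl⟩ : Submonoid.powers h)
    obtain ⟨d, hd⟩ := hu.exists_left_inv
    have hfd : f = d * algebraMap Γ(X, U.1) Γ(X, X.basicOpen h) (h ^ n * g) := by
      rw [map_mul, ← hk]
      calc f = (d * algebraMap Γ(X, U.1) Γ(X, X.basicOpen h) (h ^ (n + k))) * f := by rw [hd, one_mul]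
        _ = _ := by rw [pow_add, map_mul]; ring
    rw [hfd]
    exact Ideal.mul_mem_left _ _ (Ideal.mem_map_of_mem _ hn)

theorem interior_support_denomSheaf (hL : PicF.IsInvertible L) {s : Γ(merMod L, ⊤)} (hs : IsRegularMero L s) :
    interior ((denomSheaf hL hs).support : Set X) = ∅ := by
  refine Set.eq_empty_of_forall_notMem fun x hx => ?_
  obtain ⟨Y, hY, hxY, hYint⟩ := exists_isAffineOpen_mem_and_subset
    (U := ⟨interior ((denomSheaf hL hs).support : Set X), isOpen_interior⟩) hx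
  obtain ⟨q, hq, -⟩ := Ideal.exists_minimalPrimes_le
    (bot_le : (⊥ : Ideal Γ(X, Y)) ≤ (hY.primeIdealOf ⟨x, hxY⟩).asIdeal)
  let η := hY.fromSpec ⟨q, hq.1.1⟩
  have hηY : η ∈ Y := hY.range_fromSpec.subset ⟨_, rfl⟩
  have hmax : ∀ y : X, y ⤳ η → y = η := Groth.L22.maximal_fromSpec hY _ hq
  obtain ⟨W, hηW, e, a, c, he, hw⟩ := exists_local_form hL hs η
  have hηc : η ∈ X.basicOpen c.1 :=
    (X.mem_basicOpen c.1 η hηW).2 (Groth.L22.isUnit_germ_of_maximal hηW hmax c.2)
  obtain ⟨V, hV, hηV, hVc⟩ := exists_isAffineOpen_mem_and_subset hηc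
  have hmem : η ∈ (denomSheaf hL hs).support := interior_subset (hYint hηY)
  rw [Scheme.IdealSheafData.mem_support_iff_of_mem (U := ⟨V, hV⟩) hηV] at hmem
  have h1 : (1 : Γ(X, V)) ∈ denomIdeal L s V := (mem_denomIdeal_iff hL s _).2 fun z => by
    have hzc := hVc z.2
    refine (isDen_iff he hw ⟨z.1, X.basicOpen_le c.1 hzc⟩ _).2 ?_
    rw [Ideal.span_singleton_eq_top.2 ((X.mem_basicOpen c.1 z.1 (X.basicOpen_le c.1 hzc)).1 hzc)]
    trivial
  refine (Scheme.mem_zeroLocus_iff _ _ _).1 hmem 1 h1 ?_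
  rw [Scheme.basicOpen_of_isUnit _ isUnit_one]
  exact hηV

end Groth.L21.Mero
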