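import Groth.Agent.L21.Mero.Denom
import Groth.Agent.L21.Mero.SpanSheaf
import Groth.Agent.L21.Mero.IsoFrames
import Groth.Agent.L22.BlowUp
import Groth.Agent.L19.IdealInvertible
import Groth.Agent.L18.GenLocus

/-!
Blowing up the ideal of denominators.
-/

set_option autoImplicit false
set_option backward.isDefEq.respectTransparency false
set_option linter.style.haveILetI false
universe u

open CategoryTheory CategoryTheory.Limits AlgebraicGeometry TopologicalSpace Opposite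
open Groth.L18.Frame (IsFrame rs ro rs_self rs_rs rs_smul ro_ro pull pull_rs pull_smul)
open Groth.L18.GenLoc (tens tens_rs tens_smul_left tens_smul_right isFrame_tens)
open Groth.L21.RR (bijective_germ_frame)
open Groth.Agent.L19.IdealInvertible (io io_rs io_smul)

noncomputable section

namespace Groth.L21.Mero

open _root_.Mero (regSub regGerm merMod MStalk denomIdeal IsRegularMero)

variable {X X' : Scheme.{u}} {L : X.Modules} {b : X' ⟶ X} {I : X.IdealSheafData}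

theorem domain_eq (hL : PicF.IsInvertible L) (s : Γ(merMod L, ⊤))
    (hI : ∀ V : X.affineOpens, I.ideal V = denomIdeal L s V.1) :
    ((I.support.compl : X.Opens) : Set X) = _root_.Mero.domain L s := by
  ext y
  constructor
  · intro hy
    obtain ⟨V, hV, hyV, -⟩ := exists_isAffineOpen_mem_and_subset (x := y) (U := ⊤) trivial
    have hy' : y ∉ X.zeroLocus (U := V) (I.ideal ⟨V, hV⟩) := fun h =>
      hy ((Scheme.IdealSheafData.mem_support_iff_of_mem (U := ⟨V, hV⟩) hyV).2 h)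
    rw [Scheme.mem_zeroLocus_iff] at hy'
    push Not at hy'
    obtain ⟨f, hf, hyf⟩ := hy'
    rw [SetLike.mem_coe, hI] at hf
    obtain ⟨m, hm⟩ := hf
    have hyB : y ∈ X.basicOpen f := hyf
    obtain ⟨d, hd⟩ := (RingedSpace.isUnit_res_basicOpen X.toRingedSpace f).exists_left_inv
    refine ⟨X.basicOpen f, hyB, (show Γ(X, X.basicOpen f) from d) • rs L (X.basicOpen_le f) m, fun z => ?_⟩
    show s.1 ⟨z.1, trivial⟩ = LocalizedModule.mk _ 1
    have h1 := hm ⟨z.1, X.basicOpen_le f z.2⟩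
    have h2 : X.presheaf.germ (X.basicOpen f) z.1 z.2 d * X.presheaf.germ V z.1 (X.basicOpen_le f z.2) f = 1 := by
      rw [← TopCat.Presheaf.germ_res_apply X.presheaf (homOfLE (X.basicOpen_le f)) z.1 z.2 f, ← map_mul]
      exact (congrArg _ hd).trans (map_one _)
    rw [Groth.L20.ModStalk.germ_smul, Groth.L20.ModStalk.germ_rs, ← LocalizedModule.smul'_mk,
      show (LocalizedModule.mk (L.presheaf.germ V z.1 (X.basicOpen_le f z.2) m) 1 : MStalk L z.1) = _ from h1.symm,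
      smul_smul, h2, one_smul]
  · rintro ⟨V, hyV, m, hm⟩ hy
    obtain ⟨V', hV', hyV', hV'V⟩ := exists_isAffineOpen_mem_and_subset hyV
    have h1 : (1 : Γ(X, V')) ∈ I.ideal ⟨V', hV'⟩ := by
      rw [hI]
      refine (mem_denomIdeal_iff hL s _).2 fun z => ⟨L.presheaf.germ V z.1 (hV'V z.2) m, ?_⟩
      rw [map_one, one_smul]
      exact hm ⟨z.1, hV'V z.2⟩
    have h2 := (Scheme.IdealSheafData.mem_support_iff_of_mem (U := ⟨V', hV'⟩) hyV').1 hy
    refine (Scheme.mem_zeroLocus_iff _ _ _).1 h2 1 h1 ?_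
    rw [Scheme.basicOpen_of_isUnit _ isUnit_one]
    exact hyV'

theorem app_mem_regSub_of_blowUp (hb : BlowUp.IsBlowUp b I) {W : X.Opens} {a : Γ(X, W)} (ha : a ∈ regSub X W) :
    b.app W a ∈ regSub X' (b ⁻¹ᵁ W) := by
  intro y
  obtain ⟨V, hV, hyV, hVle⟩ := exists_isAffineOpen_mem_and_subset y.2
  have hnzd : ro (show V ≤ b ⁻¹ᵁ W from hVle) (b.app W a) ∈ nonZeroDivisors Γ(X', V) := by
    rw [mem_nonZeroDivisors_iff_right]
    intro q hq
    refine Groth.L22.Ideals.eq_zero_of_eq_zero_off_exceptional hb (V := ⟨V, hV⟩) q fun z hz hzI => ?_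
    haveI := Groth.L22.Ideals.isIso_stalkMap hb z hzI
    have h2 := congrArg (X'.presheaf.germ V z hz) hq
    rw [map_mul, map_zero, ro, TopCat.Presheaf.germ_res_apply, ← Scheme.Hom.germ_stalkMap_apply b W z (hVle hz) a] at h2
    let E := (asIso (b.stalkMap z)).commRingCatIsoToRingEquiv
    obtain ⟨p, hp⟩ := E.surjective (X'.presheaf.germ V z hz q)
    rw [← hp] at h2 ⊢
    change E p * E _ = 0 at h2
    rw [← map_mul, E.map_eq_zero_iff] at h2
    rw [(ha ⟨b z, hVle hz⟩).2 p h2, map_zero]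
  have := Groth.L22.Mero.mem_regSub_of_mem_nonZeroDivisors hV hnzd ⟨y.1, hyV⟩
  rwa [ro, TopCat.Presheaf.germ_res_apply] at this

/-- Local data of the blow-up near a point. -/
structure BlowData (b : X' ⟶ X) (I : X.IdealSheafData) (s : Γ(merMod L, ⊤)) (x : X') where
  W : X.Opens
  e : Γ(L, W)
  a : regSub X W
  c : regSub X W
  he : IsFrame L W e
  hw : ∀ z : W, s.1 ⟨z.1, trivial⟩ = (LocalizedModule.mk (X.presheaf.germ W z.1 z.2 a.1 •
      L.presheaf.germ W z.1 z.2 e) (regGerm z c) : MStalk L z.1)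
  V : X'.affineOpens
  hxV : x ∈ V.1
  hVW : V.1 ≤ b ⁻¹ᵁ W
  g : regSub X' V.1
  hg : ∀ (V' : X'.affineOpens) (h : V'.1 ≤ V.1), (I.comap b).ideal V' = Ideal.span {ro h g.1}
  r : regSub X' V.1
  heq : ro hVW (b.app W c.1) * r.1 = g.1 * ro hVW (b.app W a.1)

theorem nonempty_blowData (hL : PicF.IsInvertible L) {s : Γ(merMod L, ⊤)} (hs : IsRegularMero L s)
    (hI : ∀ V : X.affineOpens, I.ideal V = denomIdeal L s V.1) (hb : BlowUp.IsBlowUp b I) (x : X') :
    Nonempty (BlowData b I s x) := by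
  obtain ⟨W, hxW, e, a, c, he, hw⟩ := exists_local_form hL hs (b x)
  obtain ⟨G, hxG, g₀, hg₀, -, hG⟩ := Groth.L22.Ideals.exists_generator hb.1 x
  obtain ⟨V, hV, hxV, hVle⟩ := exists_isAffineOpen_mem_and_subset (show x ∈ b ⁻¹ᵁ W.1 ⊓ G.1 from ⟨hxW, hxG⟩)
  have hVW : V ≤ b ⁻¹ᵁ W.1 := fun z hz => (hVle hz).1
  have hVG : V ≤ G.1 := fun z hz => (hVle hz).2
  let g : regSub X' V := ⟨ro hVG g₀, _root_.Mero.regSub_res (homOfLE hVG)
    (Groth.L22.Mero.mem_regSub_of_mem_nonZeroDivisors G.2 hg₀)⟩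
  let a' := ro hVW (b.app W.1 a.1)
  let c' := ro hVW (b.app W.1 c.1)
  have hgV : (I.comap b).ideal ⟨V, hV⟩ = Ideal.span {g.1} := (hG ⟨V, hV⟩ hVG).2
  let S : Ideal Γ(X', V) :=
    { carrier := {y | ∃ r, c' * r = y * a'}
      zero_mem' := ⟨0, by rw [mul_zero, zero_mul]⟩
      add_mem' := fun ⟨r, hr⟩ ⟨r', hr'⟩ => ⟨r + r', by rw [mul_add, hr, hr', add_mul]⟩
      smul_mem' := fun q y ⟨r, hr⟩ => ⟨q * r, by rw [smul_eq_mul, mul_left_comm, hr, mul_assoc]⟩ }
  have hS : (I.comap b).ideal ⟨V, hV⟩ ≤ S := by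
    rw [Groth.L22.Ideals.comap_ideal b I W ⟨V, hV⟩ hVW, Ideal.map_le_iff_le_comap, hI]
    intro f hf
    obtain ⟨q, hq⟩ := exists_mul_eq_of_germ_mem (f * a.1) c fun z => by
      rw [map_mul]
      exact (isDen_iff he hw z _).1 ((mem_denomIdeal_iff hL s f).1 hf z)
    refine ⟨b.appLE W.1 V hVW q, ?_⟩
    show ro hVW (b.app W.1 c.1) * ro hVW (b.app W.1 q) = ro hVW (b.app W.1 f) * ro hVW (b.app W.1 a.1)
    simp only [ro, ← map_mul]
    rw [mul_comm c.1 q, hq]
  obtain ⟨r, hr⟩ := hS (hgV.ge (Ideal.mem_span_singleton_self g.1))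
  have hreg : r ∈ regSub X' V := fun z => by
    have h1 := congrArg (X'.presheaf.germ V z.1 z.2) hr
    rw [map_mul, map_mul] at h1
    have h2 : X'.presheaf.germ V z.1 z.2 g.1 * X'.presheaf.germ V z.1 z.2 a' ∈ nonZeroDivisors _ :=
      mul_mem (g.2 z) (_root_.Mero.regSub_res (homOfLE hVW) (app_mem_regSub_of_blowUp hb a.2) z)
    rw [← h1] at h2
    exact (mul_mem_nonZeroDivisors.1 h2).2
  exact ⟨⟨W.1, e, a, c, he, hw, ⟨V, hV⟩, hxV, hVW, g,
    fun V' h => (hG V' (h.trans hVG)).2.trans (by rw [show ro h g.1 = X'.presheaf.map (homOfLE (h.trans hVG)).op g₀ from ro_ro _ _ _]),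
    ⟨r, hreg⟩, hr⟩⟩

/-- Transition between two local forms of the section. -/
theorem exists_transition {s : Γ(merMod L, ⊤)} {W W' : X.Opens} {e : Γ(L, W)} {e' : Γ(L, W')} {a c : regSub X W}
    {a' c' : regSub X W'} (he' : IsFrame L W' e')
    (hw : ∀ z : W, s.1 ⟨z.1, trivial⟩ = (LocalizedModule.mk (X.presheaf.germ W z.1 z.2 a.1 •
        L.presheaf.germ W z.1 z.2 e) (regGerm z c) : MStalk L z.1))
    (hw' : ∀ z : W', s.1 ⟨z.1, trivial⟩ = (LocalizedModule.mk (X.presheaf.germ W' z.1 z.2 a'.1 •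
        L.presheaf.germ W' z.1 z.2 e') (regGerm z c') : MStalk L z.1)) :
    ∃ u : Γ(X, W ⊓ W'), rs L (inf_le_left : W ⊓ W' ≤ W) e = u • rs L inf_le_right e' ∧
      ro (inf_le_left : W ⊓ W' ≤ W) a.1 * u * ro inf_le_right c'.1 =
        ro (inf_le_right : W ⊓ W' ≤ W') a'.1 * ro inf_le_left c.1 := by
  obtain ⟨u, hu⟩ := he'.exists_coeff (inf_le_right : W ⊓ W' ≤ W') (rs L inf_le_left e)
  refine ⟨u, hu.symm, TopCat.Presheaf.section_ext X.sheaf _ _ _ fun z hz => ?_⟩
  have h1 := (hw ⟨z, hz.1⟩).symm.trans (hw' ⟨z, hz.2⟩)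
  have h2 : L.presheaf.germ W z hz.1 e = X.presheaf.germ (W ⊓ W') z hz u • L.presheaf.germ W' z hz.2 e' := by
    rw [← Groth.L20.ModStalk.germ_rs L (inf_le_left : W ⊓ W' ≤ W) hz e, ← hu, Groth.L20.ModStalk.germ_smul,
      Groth.L20.ModStalk.germ_rs]
  rw [h2, LocalizedModule.mk_eq] at h1
  obtain ⟨t, ht⟩ := h1
  simp only [Submonoid.smul_def, smul_smul] at ht
  have h3 := (bijective_germ_frame he' hz.2).1 ht
  show X.presheaf.germ _ z hz _ = X.presheaf.germ _ z hz _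
  simp only [map_mul, ro, TopCat.Presheaf.germ_res_apply]
  refine (mul_cancel_left_mem_nonZeroDivisors (_root_.Mero.regStalk_le_nonZeroDivisors z t.2)).1 ?_
  calc _ = (t : X.presheaf.stalk z) * X.presheaf.germ W' z hz.2 c'.1 *
        (X.presheaf.germ W z hz.1 a.1 * X.presheaf.germ (W ⊓ W') z hz u) := by ring
    _ = _ := by rw [mul_assoc]; exact h3.trans (by ring)

theorem exists_twist (hL : PicF.IsInvertible L) {s : Γ(merMod L, ⊤)} (hs : IsRegularMero L s)
    (hI : ∀ V : X.affineOpens, I.ideal V = denomIdeal L s V.1) (hb : BlowUp.IsBlowUp b I) :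
    ∃ 𝓓 : X'.IdealSheafData, BlowUp.IsEffCartierIdeal 𝓓 ∧
      Nonempty (CohB1.tensorMod ((Scheme.Modules.pullback b).obj L) (ClSub.idealMod 𝓓) ≅ ClSub.idealMod (I.comap b)) := by
  classical
  let d : ∀ x : X', BlowData b I s x := fun x => (nonempty_blowData hL hs hI hb x).some
  let R : ∀ x : X', Ideal (X'.presheaf.stalk x) := fun x =>
    Ideal.span {X'.presheaf.germ (d x).V.1 x (d x).hxV (d x).r.1}
  have hRall : ∀ (y : X') (z : (d y).V.1), R z.1 = Ideal.span {X'.presheaf.germ (d y).V.1 z.1 z.2 (d y).r.1} := fun y ⟨z, hz⟩ => by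
    have hz' := (d z).hxV
    obtain ⟨u, hu, hc⟩ := exists_transition (d y).he (d z).hw (d y).hw
    have hbz : b z ∈ (d z).W ⊓ (d y).W := ⟨(d z).hVW hz', (d y).hVW hz⟩
    have hu' : IsUnit u := Groth.L18.Frame.isUnit_of_isFrame ((d y).he.mono inf_le_right)
      (by rw [← hu]; exact (d z).he.mono inf_le_left)
    obtain ⟨P, hP, hzP, hPle⟩ := exists_isAffineOpen_mem_and_subset (show z ∈ (d z).V.1 ⊓ (d y).V.1 from ⟨hz', hz⟩)
    have hP₁ : P ≤ (d z).V.1 := fun w hw => (hPle hw).1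
    have hP₂ : P ≤ (d y).V.1 := fun w hw => (hPle hw).2
    have hgg : Ideal.span {ro hP₁ (d z).g.1} = Ideal.span {ro hP₂ (d y).g.1} :=
      ((d z).hg ⟨P, hP⟩ hP₁).symm.trans ((d y).hg ⟨P, hP⟩ hP₂)
    obtain ⟨v, hv⟩ := Ideal.mem_span_singleton'.1 (hgg ▸ Ideal.mem_span_singleton_self (ro hP₁ (d z).g.1))
    obtain ⟨v', hv'⟩ := Ideal.mem_span_singleton'.1 (hgg.symm ▸ Ideal.mem_span_singleton_self (ro hP₂ (d y).g.1))
    have hvu : IsUnit v := by
      refine IsUnit.of_mul_eq_one v' ((mul_cancel_right_mem_nonZeroDivisors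
        (Groth.L22.Mero.mem_nonZeroDivisors_of_mem_regSub (_root_.Mero.regSub_res (homOfLE hP₁) (d z).g.2))).1 ?_)
      rw [one_mul, mul_assoc, show v' * _ = ro hP₂ (d y).g.1 from hv', hv]
    have e₁ := congrArg (X'.presheaf.germ (d z).V.1 z hz') (d z).heq
    have e₂ := congrArg (X'.presheaf.germ (d y).V.1 z hz) (d y).heq
    have e₃ := congrArg (fun t => b.stalkMap z (X.presheaf.germ ((d z).W ⊓ (d y).W) (b z) hbz t)) hc
    have e₄ := congrArg (X'.presheaf.germ P z hzP) hv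
    simp only [map_mul, ro, TopCat.Presheaf.germ_res_apply, Scheme.Hom.germ_stalkMap_apply,
      TopCat.Presheaf.germ_res_apply'] at e₁ e₂ e₃ e₄
    set ub := b.stalkMap z (X.presheaf.germ ((d z).W ⊓ (d y).W) (b z) hbz u) with hub
    simp only [Scheme.Hom.germ_stalkMap_apply] at hub
    rw [← hub] at e₃
    set r₁ := X'.presheaf.germ (d z).V.1 z hz' (d z).r.1
    set r₂ := X'.presheaf.germ (d y).V.1 z hz (d y).r.1
    have key : ub * r₁ = X'.presheaf.germ P z hzP v * r₂ := by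
      have n₁ := app_mem_regSub_of_blowUp hb (d z).c.2 ⟨z, (d z).hVW hz'⟩
      have n₂ := app_mem_regSub_of_blowUp hb (d y).c.2 ⟨z, (d y).hVW hz⟩
      refine (mul_cancel_left_mem_nonZeroDivisors n₁).1 ((mul_cancel_left_mem_nonZeroDivisors n₂).1 ?_)
      linear_combination X'.presheaf.germ (b ⁻¹ᵁ (d y).W) z ((d y).hVW hz) (b.app (d y).W (d y).c.1) * ub * e₁
        + X'.presheaf.germ (d z).V.1 z hz' (d z).g.1 * e₃
        - X'.presheaf.germ (b ⁻¹ᵁ (d y).W) z ((d y).hVW hz) (b.app (d y).W (d y).a.1) *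
          X'.presheaf.germ (b ⁻¹ᵁ (d z).W) z ((d z).hVW hz') (b.app (d z).W (d z).c.1) * e₄
        - X'.presheaf.germ P z hzP v * X'.presheaf.germ (b ⁻¹ᵁ (d z).W) z ((d z).hVW hz') (b.app (d z).W (d z).c.1) * e₂
    have hub' : IsUnit ub := (hu'.map _).map _
    show Ideal.span {r₁} = Ideal.span {r₂}
    rw [← Ideal.span_singleton_mul_left_unit hub' r₁, key, Ideal.span_singleton_mul_left_unit (hvu.map _)]
  have hR : LocPrincipal R := fun y => ⟨(d y).V, (d y).hxV, (d y).r, hRall y⟩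
  refine ⟨spanSheaf hR, isEffCartier_spanSheaf hR, ?_⟩
  have hD := (Groth.Agent.L19.IdealInvertible.isEffCartier_iff _).2 (isEffCartier_spanSheaf hR)
  have hE := (Groth.Agent.L19.IdealInvertible.isEffCartier_iff _).2 hb.1
  have hloc : ∀ y : X', ∃ (B : X'.affineOpens) (_ : y ∈ B.1) (W : X.Opens) (hBW : B.1 ≤ b ⁻¹ᵁ W) (e : Γ(L, W)) (a c : regSub X W)
      (m : Γ(ClSub.idealMod (spanSheaf hR), B.1)) (h : Γ(ClSub.idealMod (I.comap b), B.1)),
      IsFrame L W e ∧ IsFrame (ClSub.idealMod (spanSheaf hR)) B.1 m ∧ IsFrame (ClSub.idealMod (I.comap b)) B.1 h ∧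
      (∀ z : W, s.1 ⟨z.1, trivial⟩ = (LocalizedModule.mk (X.presheaf.germ W z.1 z.2 a.1 •
        L.presheaf.germ W z.1 z.2 e) (regGerm z c) : MStalk L z.1)) ∧
      io (spanSheaf hR) B.1 m ∈ regSub X' B.1 ∧
      ro hBW (b.app W c.1) * io (spanSheaf hR) B.1 m = ro hBW (b.app W a.1) * io (I.comap b) B.1 h := fun y => by
    obtain ⟨F, m, hyF, hm⟩ := Groth.L18.Frame.exists_frame hD y
    obtain ⟨F', h, hyF', hh⟩ := Groth.L18.Frame.exists_frame hE y
    obtain ⟨B, hB, hyB, hBle⟩ := exists_isAffineOpen_mem_and_subset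
      (show y ∈ (d y).V.1 ⊓ (F ⊓ F') from ⟨(d y).hxV, hyF, hyF'⟩)
    have hBV : B ≤ (d y).V.1 := fun w hw => (hBle hw).1
    have hBF : B ≤ F := fun w hw => (hBle hw).2.1
    have hBF' : B ≤ F' := fun w hw => (hBle hw).2.2
    have hgen : ∀ (J : X'.IdealSheafData) (n : Γ(ClSub.idealMod J, B)), IsFrame (ClSub.idealMod J) B n →
        J.ideal ⟨B, hB⟩ = Ideal.span {io J B n} := fun J n hn => by
      ext q
      rw [Groth.L18.IdealModule.mem_ideal_iff J hB, Ideal.mem_span_singleton']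
      constructor
      · rintro ⟨n', rfl⟩
        obtain ⟨t, ht⟩ := hn.exists_coeff le_rfl n'
        rw [rs_self] at ht
        exact ⟨t, by rw [← io_smul, ht]⟩
      · rintro ⟨t, rfl⟩
        exact ⟨t • n, io_smul J t n⟩
    have hunit : ∀ (J : X'.IdealSheafData) (n : Γ(ClSub.idealMod J, B)), IsFrame (ClSub.idealMod J) B n →
        ∀ (p : Γ(X', B)), p ∈ regSub X' B → J.ideal ⟨B, hB⟩ = Ideal.span {p} →
        ∃ w, IsUnit w ∧ io J B n = w * p := fun J n hn p hp hJ => by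
      obtain ⟨w, hw⟩ := Ideal.mem_span_singleton'.1 (hJ ▸ (hgen J n hn).ge (Ideal.mem_span_singleton_self _))
      obtain ⟨w', hw'⟩ := Ideal.mem_span_singleton'.1 ((hgen J n hn) ▸ hJ.ge (Ideal.mem_span_singleton_self p))
      refine ⟨w, IsUnit.of_mul_eq_one w' ((mul_cancel_right_mem_nonZeroDivisors
        (Groth.L22.Mero.mem_nonZeroDivisors_of_mem_regSub hp)).1 ?_), hw.symm⟩
      rw [one_mul, mul_comm w, mul_assoc, hw, hw']
    have hRB : (spanSheaf hR).ideal ⟨B, hB⟩ = Ideal.span {ro hBV (d y).r.1} := by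
      refine germIdeal_eq_span ⟨_, _root_.Mero.regSub_res (homOfLE hBV) (d y).r.2⟩ fun z => ?_
      show R z.1 = Ideal.span {X'.presheaf.germ B z.1 z.2 (ro hBV (d y).r.1)}
      rw [ro, TopCat.Presheaf.germ_res_apply]
      exact hRall y ⟨z.1, hBV z.2⟩
    obtain ⟨w, hwu, hmw⟩ := hunit _ _ (hm.mono hBF) _ (_root_.Mero.regSub_res (homOfLE hBV) (d y).r.2) hRB
    obtain ⟨w', hwu', hhw⟩ := hunit _ _ (hh.mono hBF') _ (_root_.Mero.regSub_res (homOfLE hBV) (d y).g.2)
      ((d y).hg ⟨B, hB⟩ hBV)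
    obtain ⟨i, hi⟩ := hwu'.exists_left_inv
    refine ⟨⟨B, hB⟩, hyB, (d y).W, hBV.trans (d y).hVW, (d y).e, (d y).a, (d y).c, rs _ hBF m, (w * i) • rs _ hBF' h,
      (d y).he, hm.mono hBF, (hh.mono hBF').smul_unit (hwu.mul (IsUnit.of_mul_eq_one w' hi)), (d y).hw, ?_, ?_⟩
    · rw [hmw]
      exact fun z => by
        rw [map_mul]
        exact mul_mem (hwu.map _).mem_nonZeroDivisors (_root_.Mero.regSub_res (homOfLE hBV) (d y).r.2 z)
    · rw [io_smul, hmw, hhw]
      have e₁ := congrArg (ro hBV) (d y).heq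
      simp only [ro, map_mul] at e₁
      simp only [← ro_ro (d y).hVW hBV]
      simp only [ro] at hi ⊢
      linear_combination w * e₁ - w * X'.presheaf.map (homOfLE hBV).op (d y).g.1 *
        X'.presheaf.map (homOfLE hBV).op (X'.presheaf.map (homOfLE (d y).hVW).op (b.app (d y).W (d y).a.1)) * hi
  choose B hyB W hBW e a c m h hFe hFm hFh hw hρ heq using hloc
  refine nonempty_iso_of_frames (fun y => (B y).1) (fun y => ⟨y, hyB y⟩)
    (fun y => tens _ _ (B y).1 (rs _ (hBW y) (pull b L (W y) (e y))) (m y)) h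
    (fun y => isFrame_tens (((hFe y).pullback b L).mono (hBW y)) (hFm y)) hFh fun i k O hi hk U hU => ?_
  obtain ⟨u, hu, hc⟩ := exists_transition (hFe k) (hw i) (hw k)
  have hO : O ≤ b ⁻¹ᵁ (W i ⊓ W k) := fun z hz => ⟨hBW i (hi hz), hBW k (hk hz)⟩
  obtain ⟨w, hw'⟩ := (hFm k).exists_coeff hk (rs _ hi (m i))
  obtain ⟨v, hv⟩ := (hFh k).exists_coeff hk (rs _ hi (h i))
  set u' := ro hO (b.app _ u)
  have hpull : rs _ hi (rs ((Scheme.Modules.pullback b).obj L) (hBW i) (pull b L (W i) (e i))) =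
      u' • rs _ hk (rs ((Scheme.Modules.pullback b).obj L) (hBW k) (pull b L (W k) (e k))) := by
    have h1 := congrArg (fun t => rs _ hO (pull b L (W i ⊓ W k) t)) hu
    simp only [pull_smul, ← pull_rs, rs_smul, rs_rs] at h1 ⊢
    exact h1
  have hU' : U = u' * w := ((isFrame_tens (((hFe k).pullback b L).mono (hBW k)) (hFm k))).inj hk (by
    rw [← hU, tens_rs, tens_rs, hpull, ← hw', tens_smul_left, tens_smul_right, smul_smul])
  have e₁ := congrArg (ro hi) (heq i)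
  have e₂ := congrArg (ro hk) (heq k)
  have e₃ := congrArg (fun t => ro hO (b.app _ t)) hc
  have e₄ : ro hi (io (spanSheaf hR) (B i).1 (m i)) = w * ro hk (io (spanSheaf hR) (B k).1 (m k)) := by
    refine (io_rs (spanSheaf hR) hi (m i)).symm.trans ?_
    show io (spanSheaf hR) O (rs _ hi (m i)) = _
    rw [← hw', io_smul]
    exact congrArg (w * ·) (io_rs (spanSheaf hR) hk (m k))
  have e₅ : ro hi (io (I.comap b) (B i).1 (h i)) = v * ro hk (io (I.comap b) (B k).1 (h k)) := by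
    refine (io_rs (I.comap b) hi (h i)).symm.trans ?_
    show io (I.comap b) O (rs _ hi (h i)) = _
    rw [← hv, io_smul]
    exact congrArg (v * ·) (io_rs (I.comap b) hk (h k))
  have hnat : ∀ (P : X.Opens) (h : W i ⊓ W k ≤ P) (t : Γ(X, P)),
      ro hO (b.app _ (ro h t)) = ro (hO.trans (b.preimage_mono h)) (b.app P t) := fun P h t => by
    simp only [ro]
    rw [show b.app (W i ⊓ W k) (X.presheaf.map (homOfLE h).op t) =
      X'.presheaf.map (homOfLE (b.preimage_mono h)).op (b.app P t) from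
        congr($(b.naturality (homOfLE h).op) t), ← CategoryTheory.comp_apply, ← Functor.map_comp]
    rfl
  rw [Groth.L18.Frame.ro_mul, Groth.L18.Frame.ro_mul, ro_ro, ro_ro] at e₁ e₂
  rw [e₄, e₅] at e₁
  simp only [ro] at hnat
  simp only [map_mul, ro, hnat] at e₃
  rw [← hv]
  congr 1
  rw [hU']
  set ρ := ro hk (io (spanSheaf hR) (B k).1 (m k))
  set c₁ := ro (hi.trans (hBW i)) (b.app (W i) (c i).1)
  set c₂ := ro (hk.trans (hBW k)) (b.app (W k) (c k).1)
  have n₁ : c₁ ∈ regSub X' O := _root_.Mero.regSub_res _ (app_mem_regSub_of_blowUp hb (c i).2)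
  have n₂ : c₂ ∈ regSub X' O := _root_.Mero.regSub_res _ (app_mem_regSub_of_blowUp hb (c k).2)
  have n₃ : ρ ∈ regSub X' O := _root_.Mero.regSub_res _ (hρ k)
  refine (mul_cancel_left_mem_nonZeroDivisors
    (Groth.L22.Mero.mem_nonZeroDivisors_of_mem_regSub (mul_mem (mul_mem n₁ n₂) n₃))).1 ?_
  simp only [c₁, c₂, ρ, u', ro] at e₁ e₂ e₃ ⊢
  linear_combination (-1 : Γ(X', O)) * (X'.presheaf.map (homOfLE (hk.trans (hBW k))).op (b.app (W k) (c k).1) * X'.presheaf.map (homOfLE hO).op (b.app _ u) * e₁ + v * X'.presheaf.map (homOfLE hk).op (io (I.comap b) (B k).1 (h k)) * e₃ - X'.presheaf.map (homOfLE (hi.trans (hBW i))).op (b.app (W i) (c i).1) * v * e₂)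

end Groth.L21.Mero
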