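import Groth.Agent.L21.Mero.DepthOne
import Groth.Agent.L21.Mero.Pseudo
import Groth.Agent.L15.WeakAss

/-!
`O_X(D)` and regular meromorphic sections of invertible modules.
-/

set_option autoImplicit false
set_option backward.isDefEq.respectTransparency false
set_option linter.style.haveILetI false
universe u

open CategoryTheory CategoryTheory.Limits AlgebraicGeometry TopologicalSpace Opposite
open Groth.L18.Frame (IsFrame rs ro rs_self)
open Groth.L21.RR (st st_germ bijective_germ_frame)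

noncomputable section

namespace Groth.L21.Mero

open _root_.Mero (Divisor KStalk regStalk regSub regGerm kmod divMod DivCond merMod MStalk)

variable {X : Scheme.{u}}

theorem eq_zero_of_weakAss {W : X.Opens} (a : Γ(X, W))
    (h : ∀ (x : X) (hx : x ∈ W), Curv2.IsWeakAssPoint (Coh.structureModule X) x → X.presheaf.germ W x hx a = 0) :
    a = 0 := by
  refine TopCat.Presheaf.section_ext X.sheaf W a 0 fun z hz => ?_
  change X.presheaf.germ W z hz a = X.presheaf.germ W z hz 0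
  obtain ⟨Y, hY, hzY, hYW⟩ := exists_isAffineOpen_mem_and_subset hz
  have h0 : ro (show Y ≤ W from hYW) a = 0 := by
    by_contra hne
    have htop : Groth.L03.WeakAss.annE Γ(X, Y) (ro (show Y ≤ W from hYW) a) ≠ ⊤ := by
      rw [Ideal.ne_top_iff_one, Groth.L03.WeakAss.mem_annE, one_smul]; exact hne
    obtain ⟨⟨q, hq⟩⟩ := Ideal.nonempty_minimalPrimes htop
    let q' : Spec Γ(X, Y) := ⟨q, hq.1.1⟩
    have hqY : hY.fromSpec q' ∈ Y := hY.range_fromSpec.subset ⟨q', rfl⟩
    have hp : hY.primeIdealOf ⟨_, hqY⟩ = q' :=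
      hY.fromSpec.isOpenEmbedding.injective (hY.fromSpec_primeIdealOf ⟨_, hqY⟩)
    have hwa := Groth.L22.isWeakAssPoint_of_mem_minimalPrimes hY hqY
      (a := ro (show Y ≤ W from hYW) a) (by rw [hp]; exact hq)
    have hz0 := h _ (hYW hqY) hwa
    rw [← TopCat.Presheaf.germ_res_apply X.presheaf (homOfLE (show Y ≤ W from hYW)) _ hqY a] at hz0
    letI : Algebra Γ(X, Y) (X.presheaf.stalk (hY.fromSpec q')) :=
      TopCat.Presheaf.algebra_section_stalk X.presheaf ⟨_, hqY⟩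
    haveI := hY.isLocalization_stalk ⟨_, hqY⟩
    obtain ⟨⟨t, ht⟩, hta⟩ := (IsLocalization.map_eq_zero_iff (hY.primeIdealOf ⟨_, hqY⟩).asIdeal.primeCompl
      (X.presheaf.stalk (hY.fromSpec q')) (ro (show Y ≤ W from hYW) a)).1 hz0
    exact ht ((congrArg PrimeSpectrum.asIdeal hp).ge (hq.le (Groth.L03.WeakAss.mem_annE.2 hta)))
  rw [← TopCat.Presheaf.germ_res_apply X.presheaf (homOfLE (show Y ≤ W from hYW)) z hzY a, map_zero]
  exact (congrArg _ h0).trans (map_zero _)

theorem mul_inv_eq_of_mul_eq {G : Type*} [CommGroup G] {a b c d : G} (h : a * d = c * b) : c * d⁻¹ = a * b⁻¹ := by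
  rw [mul_inv_eq_iff_eq_mul, mul_right_comm, eq_mul_inv_iff_mul_eq, h]

/-- Local data of a meromorphic frame of `L`. -/
def IsMeroFrame (L : X.Modules) (v : ∀ x : X, L.presheaf.stalk x) (Y : X.Opens) (e : Γ(L, Y)) (a b : regSub X Y) :
    Prop :=
  IsFrame L Y e ∧ ∀ (η : X) (hη : η ∈ Y), Curv2.IsWeakAssPoint (Coh.structureModule X) η →
    X.presheaf.germ Y η hη a.1 • L.presheaf.germ Y η hη e = X.presheaf.germ Y η hη b.1 • v η

variable {L : X.Modules} {v : ∀ x : X, L.presheaf.stalk x}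

theorem meroFrame_compat {Y Y' : X.Opens} {e : Γ(L, Y)} {a b : regSub X Y} {e' : Γ(L, Y')} {a' b' : regSub X Y'}
    (h : IsMeroFrame L v Y e a b) (h' : IsMeroFrame L v Y' e' a' b') {z : X} (hz : z ∈ Y) (hz' : z ∈ Y') :
    ∃ u : X.presheaf.stalk z, IsUnit u ∧ L.presheaf.germ Y z hz e = u • L.presheaf.germ Y' z hz' e' ∧
      X.presheaf.germ Y z hz a.1 * u * X.presheaf.germ Y' z hz' b'.1 =
        X.presheaf.germ Y' z hz' a'.1 * X.presheaf.germ Y z hz b.1 := by
  have i₁ : Y ⊓ Y' ≤ Y := inf_le_left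
  have i₂ : Y ⊓ Y' ≤ Y' := inf_le_right
  obtain ⟨u, hu⟩ := h'.1.exists_coeff i₂ (rs L i₁ e)
  have huu : IsUnit u :=
    Groth.L18.Frame.isUnit_of_isFrame (h'.1.mono i₂) (by rw [hu]; exact h.1.mono i₁)
  have he : ∀ (w : X) (hw : w ∈ Y ⊓ Y'), L.presheaf.germ Y w hw.1 e =
      X.presheaf.germ (Y ⊓ Y') w hw u • L.presheaf.germ Y' w hw.2 e' := fun w hw => by
    rw [← Groth.L20.ModStalk.germ_rs L i₁ hw e, ← hu, Groth.L20.ModStalk.germ_smul, Groth.L20.ModStalk.germ_rs]
  have h0 : ro i₁ a.1 * u * ro i₂ b'.1 - ro i₂ a'.1 * ro i₁ b.1 = 0 := eq_zero_of_weakAss _ fun w hw hA => by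
    have h1 := h.2 w hw.1 hA
    have h2 := h'.2 w hw.2 hA
    rw [he w hw, smul_smul] at h1
    have h3 : (X.presheaf.germ Y w hw.1 a.1 * X.presheaf.germ (Y ⊓ Y') w hw u * X.presheaf.germ Y' w hw.2 b'.1) •
        L.presheaf.germ Y' w hw.2 e' =
        (X.presheaf.germ Y' w hw.2 a'.1 * X.presheaf.germ Y w hw.1 b.1) • L.presheaf.germ Y' w hw.2 e' := by
      rw [mul_comm _ (X.presheaf.germ Y' w hw.2 b'.1), mul_smul, h1, mul_comm _ (X.presheaf.germ Y w hw.1 b.1),
        mul_smul, h2, smul_smul, smul_smul, mul_comm]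
    have h4 := (bijective_germ_frame h'.1 hw.2).1 h3
    simp only [map_sub, map_mul, sub_eq_zero, ro, TopCat.Presheaf.germ_res_apply]
    exact h4
  refine ⟨X.presheaf.germ (Y ⊓ Y') z ⟨hz, hz'⟩ u, huu.map _, he z ⟨hz, hz'⟩, ?_⟩
  have h5 := congrArg (X.presheaf.germ (Y ⊓ Y') z ⟨hz, hz'⟩) h0
  simp only [map_zero, map_sub, map_mul, sub_eq_zero, ro, TopCat.Presheaf.germ_res_apply] at h5
  exact h5

theorem exists_iso_divMod_of_meroFrames
    (hv : ∀ y : X, ∃ (Y : X.Opens) (_ : y ∈ Y) (e : Γ(L, Y)) (a b : regSub X Y), IsMeroFrame L v Y e a b) :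
    ∃ D : Divisor X, Nonempty (L ≅ divMod D) := by
  choose Y hy e a b hf using hv
  have hu : ∀ y, IsUnit (frac (a y).1 (b y)) := fun y => by
    refine IsUnit.of_mul_eq_one (frac (b y).1 (a y)) (Groth.L22.Mero.kmod_ext fun z => ?_)
    rw [_root_.Mero.kmod_mul_apply, _root_.Mero.kmod_one_apply]
    exact (LocalizedModule.mk_mul_mk.trans (_root_.Mero.mk_congr (mul_comm _ _) rfl)).trans
      (_root_.Mero.mk_self_eq_one (regGerm z (b y) * regGerm z (a y)))
  let cls : ∀ z : X, _root_.Mero.Germ X z := fun z =>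
    clsOf (regGerm ⟨z, hy z⟩ (a z)) * (clsOf (regGerm ⟨z, hy z⟩ (b z)))⁻¹
  have key : ∀ (y z : X) (hz : z ∈ Y y), cls z =
      clsOf (regGerm ⟨z, hz⟩ (a y)) * (clsOf (regGerm ⟨z, hz⟩ (b y)))⁻¹ := fun y z hz => by
    obtain ⟨u, huu, -, hc⟩ := meroFrame_compat (hf y) (hf z) hz (hy z)
    have h1 : clsOf (regGerm ⟨z, hz⟩ (a y) * regGerm ⟨z, hy z⟩ (b z)) =
        clsOf (regGerm ⟨z, hy z⟩ (a z) * regGerm ⟨z, hz⟩ (b y)) := by
      refine class_eq_of_span_eq _ _ ?_
      rw [Submonoid.coe_mul, Submonoid.coe_mul, ← hc, mul_right_comm _ u, Ideal.span_singleton_mul_right_unit huu]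
    rw [clsOf_mul, clsOf_mul] at h1
    exact mul_inv_eq_of_mul_eq (G := _root_.Mero.Germ X z) h1
  have heval : ∀ (y : X) (z : Y y), cls z.1 = _root_.Mero.germOf (hu y).unit z := fun y z => by
    rw [key y z.1 z.2, mul_inv_eq_iff_eq_mul, clsOf, clsOf, _root_.Mero.germOf, ← QuotientGroup.mk_mul]
    refine congrArg _ (Units.ext ?_)
    rw [Units.val_mul]
    show j z.1 (X.presheaf.germ (Y y) z.1 z.2 (a y).1) =
      (frac (a y).1 (b y)).1 z * j z.1 (X.presheaf.germ (Y y) z.1 z.2 (b y).1)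
    show j z.1 _ = LocalizedModule.mk _ _ * LocalizedModule.mk _ _
    rw [LocalizedModule.mk_mul_mk, j, Groth.L22.Mero.algebraMap_eq_mk, Groth.L22.Mero.mk_eq_mk_iff]
    simp
  let D : Divisor X := ⟨cls, fun y => ⟨Y y, hy y, (hu y).unit, heval y⟩⟩
  let equ : ∀ z : X, X.presheaf.stalk z ≃ L.presheaf.stalk z := fun z =>
    Equiv.ofBijective _ (bijective_germ_frame (hf z).1 (hy z))
  let φ : ∀ z : X, L.presheaf.stalk z → KStalk X z := fun z w =>
    LocalizedModule.mk ((equ z).symm w * X.presheaf.germ (Y z) z (hy z) (b z).1) (regGerm ⟨z, hy z⟩ (a z))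
  have hφ : ∀ (y z : X) (hz : z ∈ Y y) (r : X.presheaf.stalk z), φ z (r • L.presheaf.germ (Y y) z hz (e y)) =
      LocalizedModule.mk (r * X.presheaf.germ (Y y) z hz (b y).1) (regGerm ⟨z, hz⟩ (a y)) := fun y z hz r => by
    obtain ⟨u, -, he, hc⟩ := meroFrame_compat (hf y) (hf z) hz (hy z)
    have h1 : (equ z).symm (r • L.presheaf.germ (Y y) z hz (e y)) = r * u := by
      rw [he, smul_smul, Equiv.symm_apply_eq]; rfl
    show LocalizedModule.mk _ _ = _
    rw [h1, Groth.L22.Mero.mk_eq_mk_iff]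
    show r * u * _ * X.presheaf.germ (Y y) z hz (a y).1 = r * _ * X.presheaf.germ (Y z) z (hy z) (a z).1
    rw [mul_assoc r u, mul_assoc r, mul_assoc r]
    refine congrArg (r * ·) ?_
    calc u * X.presheaf.germ (Y z) z (hy z) (b z).1 * X.presheaf.germ (Y y) z hz (a y).1
        = X.presheaf.germ (Y y) z hz (a y).1 * u * X.presheaf.germ (Y z) z (hy z) (b z).1 := by ring
      _ = _ := hc.trans (mul_comm _ _)
  have hrep : ∀ (z : X) (w : L.presheaf.stalk z), ∃ r : X.presheaf.stalk z, w = r • L.presheaf.germ (Y z) z (hy z) (e z) :=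
    fun z w => ⟨(equ z).symm w, ((equ z).apply_symm_apply w).symm⟩
  have hadd : ∀ (z : X) (w w' : L.presheaf.stalk z), φ z (w + w') = φ z w + φ z w' := fun z w w' => by
    obtain ⟨r, rfl⟩ := hrep z w
    obtain ⟨r', rfl⟩ := hrep z w'
    rw [← add_smul, hφ, hφ, hφ, LocalizedModule.mk_add_mk, Groth.L22.Mero.mk_eq_mk_iff]
    simp only [Submonoid.smul_def, smul_eq_mul, Submonoid.coe_mul]
    ring
  have hsmul : ∀ (z : X) (c : X.presheaf.stalk z) (w : L.presheaf.stalk z), φ z (c • w) = j z c * φ z w := fun z c w => by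
    obtain ⟨r, rfl⟩ := hrep z w
    rw [smul_smul, hφ, hφ, j, Groth.L22.Mero.algebraMap_eq_mk, LocalizedModule.mk_mul_mk, one_mul, mul_assoc]
  have hmem : ∀ (U : X.Opens) (m : Γ(L, U)),
      (_root_.Mero.divLoc X D).pred fun z : U => φ z.1 (L.presheaf.germ U z.1 z.2 m) := fun U m => by
    refine ⟨fun z => ?_, fun z => ?_⟩
    · obtain ⟨r, hr⟩ := (hf z.1).1.exists_coeff (inf_le_left : Y z.1 ⊓ U ≤ Y z.1) (rs L inf_le_right m)
      refine ⟨Y z.1 ⊓ U, ⟨hy z.1, z.2⟩, homOfLE inf_le_right, r * ro (inf_le_left : Y z.1 ⊓ U ≤ Y z.1) (b z.1).1,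
        ⟨_, _root_.Mero.regSub_res (homOfLE inf_le_left) (a z.1).2⟩, fun w => ?_⟩
      show φ w.1 (L.presheaf.germ U w.1 w.2.2 m) = _
      rw [← Groth.L20.ModStalk.germ_rs L (inf_le_right : Y z.1 ⊓ U ≤ U) w.2 m, ← hr, Groth.L20.ModStalk.germ_smul,
        Groth.L20.ModStalk.germ_rs, hφ z.1 w.1 w.2.1]
      refine _root_.Mero.mk_congr ?_ ?_
      · rw [map_mul, ro, TopCat.Presheaf.germ_res_apply]
      · exact (TopCat.Presheaf.germ_res_apply X.presheaf (homOfLE inf_le_left) w.1 w.2 (a z.1).1).symm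
    · obtain ⟨r, hr⟩ := hrep z.1 (L.presheaf.germ U z.1 z.2 m)
      refine divCond_of_rep (heval z.1 ⟨z.1, hy z.1⟩) ?_
      show φ z.1 (L.presheaf.germ U z.1 z.2 m) * _ ∈ _
      rw [hr, hφ]
      refine ⟨r, ?_⟩
      show j z.1 r = LocalizedModule.mk _ _ * (frac (a z.1).1 (b z.1)).1 ⟨z.1, hy z.1⟩
      show j z.1 r = LocalizedModule.mk _ _ * LocalizedModule.mk _ _
      rw [LocalizedModule.mk_mul_mk, j, Groth.L22.Mero.algebraMap_eq_mk, Groth.L22.Mero.mk_eq_mk_iff]
      simp only [Submonoid.coe_one, Submonoid.coe_mul]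
      ring
  let Φ : L ⟶ divMod D :=
    ⟨PresheafOfModules.homMk (M₁ := L.val) (M₂ := (divMod D).val)
      { app := fun U => AddCommGrpCat.ofHom (AddMonoidHom.mk'
          (fun (m : Γ(L, U.unop)) => (⟨_, hmem U.unop m⟩ : Γ(divMod D, U.unop)))
          fun m m' => divMod_ext fun z => by
            show φ z.1 _ = φ z.1 _ + φ z.1 _
            rw [map_add, hadd])
        naturality := fun {U U'} i => by
          ext m
          exact divMod_ext fun z => congrArg (φ z.1) (TopCat.Presheaf.germ_res_apply' L.presheaf i z.1 z.2 m) }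
      (fun U r (m : Γ(L, U.unop)) => divMod_ext fun z => by
        show φ z.1 (L.presheaf.germ U.unop z.1 z.2 ((show Γ(X, U.unop) from r) • m)) =
          vl ((show Γ(X, U.unop) from r) • (_ : Γ(divMod D, U.unop))) z
        rw [vl_smul, Groth.L20.ModStalk.germ_smul, hsmul]
        rfl)⟩
  suffices IsIso Φ from ⟨D, ⟨asIso Φ⟩⟩
  rw [Groth.L21.Mod.isIso_iff_stalk_bijective]
  intro x
  have happ : Φ.app (Y x) (e x) = gen (D := D) (hu x).unit (heval x) := divMod_ext fun z => by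
    set g := Units.map (_root_.Mero.evalK X (Y x) z).toMonoidHom (hu x).unit with hg
    refine g.isUnit.mul_left_injective ?_
    show φ z.1 (L.presheaf.germ (Y x) z.1 z.2 (e x)) * (g : KStalk X z.1) = vl (gen (D := D) (hu x).unit (heval x)) z * g
    rw [hg, vl_gen, ← one_smul (X.presheaf.stalk z.1) (L.presheaf.germ (Y x) z.1 z.2 (e x)), hφ, one_mul]
    show LocalizedModule.mk _ _ * LocalizedModule.mk _ _ = (1 : KStalk X z.1)
    rw [LocalizedModule.mk_mul_mk]
    exact (_root_.Mero.mk_congr (mul_comm _ _) rfl).trans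
      (_root_.Mero.mk_self_eq_one (regGerm z (a x) * regGerm z (b x)))
  have h1 : ∀ r : X.presheaf.stalk x, st Φ x (r • L.presheaf.germ (Y x) x (hy x) (e x)) =
      r • (divMod D).presheaf.germ (Y x) x (hy x) (gen (D := D) (hu x).unit (heval x)) := fun r => by
    rw [map_smul, st_germ, happ]
  have h2 : Function.Bijective (st Φ x ∘ fun r : X.presheaf.stalk x => r • L.presheaf.germ (Y x) x (hy x) (e x)) := by
    rw [show st Φ x ∘ (fun r : X.presheaf.stalk x => r • L.presheaf.germ (Y x) x (hy x) (e x)) = _ from funext h1]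
    exact bijective_germ_frame (isFrame_gen (D := D) (hu x).unit (heval x)) (hy x)
  exact (Function.Bijective.of_comp_iff _ (bijective_germ_frame (hf x).1 (hy x))).1 h2

end Groth.L21.Mero
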