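import Groth.Agent.L21.Mero.ClassMap

/-!
Total fraction rings: sections of `K_X` over affine opens; regular germs.
-/

set_option autoImplicit false
set_option backward.isDefEq.respectTransparency false
set_option linter.style.haveILetI false
universe u

open CategoryTheory AlgebraicGeometry TopologicalSpace Opposite IsLocalRing
open Groth.L18.Frame (IsFrame rs ro)

noncomputable section

namespace Groth.L21.Mero

open _root_.Mero (KStalk regStalk regSub regGerm kmod toK Divisor divMod)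

variable {X : Scheme.{u}}

theorem isNilpotent_of_maximal {x : X} (hx : ∀ y : X, y ⤳ x → y = x) {g : X.presheaf.stalk x} (hg : ¬ IsUnit g) :
    IsNilpotent g := by
  obtain ⟨U, hU, hxU, -⟩ := exists_isAffineOpen_mem_and_subset (x := x) (U := ⊤) trivial
  letI : Algebra Γ(X, U) (X.presheaf.stalk x) :=
    TopCat.Presheaf.algebra_section_stalk X.presheaf ⟨x, hxU⟩
  haveI := hU.isLocalization_stalk ⟨x, hxU⟩
  haveI : Ring.KrullDimLE 0 (X.presheaf.stalk x) := by
    rw [Ring.krullDimLE_zero_iff]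
    intro I hI
    have h1 := Groth.L22.primeIdealOf_mem_minimalPrimes hU hxU hx
    have hle : I.comap (algebraMap Γ(X, U) (X.presheaf.stalk x)) ≤ (hU.primeIdealOf ⟨x, hxU⟩).asIdeal :=
      (Ideal.comap_mono (le_maximalIdeal hI.ne_top)).trans_eq
        (IsLocalization.AtPrime.under_maximalIdeal (X.presheaf.stalk x) _)
    have heq : I.comap (algebraMap Γ(X, U) (X.presheaf.stalk x)) = (hU.primeIdealOf ⟨x, hxU⟩).asIdeal :=
      le_antisymm hle (h1.2 ⟨inferInstance, bot_le⟩ hle)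
    have h2 : Ideal.map (algebraMap Γ(X, U) (X.presheaf.stalk x)) (I.comap (algebraMap Γ(X, U) _)) = I :=
      IsLocalization.map_under (hU.primeIdealOf ⟨x, hxU⟩).asIdeal.primeCompl _ I
    rw [← h2, heq, IsLocalization.AtPrime.map_eq_maximalIdeal]
    exact maximalIdeal.isMaximal _
  exact Ring.KrullDimLE.isNilpotent_iff_mem_nonunits.2 hg

/-- Prescribed ratios at finitely many maximal points. -/
theorem exists_ratio {Y : X.Opens} (hY : IsAffineOpen Y) {S : Set X} (hS : S.Finite)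
    (hSY : ∀ x ∈ S, x ∈ Y ∧ ∀ y : X, y ⤳ x → y = x) (r : ∀ x : X, X.presheaf.stalk x) :
    ∃ a b : Γ(X, Y), ∀ (x : X) (hx : x ∈ Y), x ∈ S → IsUnit (X.presheaf.germ Y x hx b) ∧
      X.presheaf.germ Y x hx a = r x * X.presheaf.germ Y x hx b := by
  classical
  let T : Finset X := hS.toFinset
  have hT : ∀ t : T, t.1 ∈ Y ∧ ∀ y : X, y ⤳ t.1 → y = t.1 := fun t => hSY t.1 (hS.mem_toFinset.1 t.2)
  have hloc : ∀ t : T, ∃ (α β e : Γ(X, Y)), IsUnit (X.presheaf.germ Y t.1 (hT t).1 β) ∧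
      IsUnit (X.presheaf.germ Y t.1 (hT t).1 e) ∧
      X.presheaf.germ Y t.1 (hT t).1 α = r t.1 * X.presheaf.germ Y t.1 (hT t).1 β ∧
      ∀ t' : T, t' ≠ t → X.presheaf.germ Y t'.1 (hT t').1 e = 0 := fun t => by
    obtain ⟨hxY, hmax⟩ := hT t
    letI : Algebra Γ(X, Y) (X.presheaf.stalk t.1) :=
      TopCat.Presheaf.algebra_section_stalk X.presheaf ⟨t.1, hxY⟩
    haveI := hY.isLocalization_stalk ⟨t.1, hxY⟩
    obtain ⟨⟨α, β⟩, hαβ⟩ := IsLocalization.surj (hY.primeIdealOf ⟨t.1, hxY⟩).asIdeal.primeCompl (r t.1)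
    obtain ⟨e, he, het⟩ : ∃ e : Γ(X, Y), (∀ t' : T, t' ≠ t → e ∈ (hY.primeIdealOf ⟨t'.1, (hT t').1⟩).asIdeal) ∧
        e ∉ (hY.primeIdealOf ⟨t.1, hxY⟩).asIdeal := by
      by_contra hcon
      push Not at hcon
      have hle : (Finset.univ.erase t).inf (fun t' : T => (hY.primeIdealOf ⟨t'.1, (hT t').1⟩).asIdeal) ≤
          (hY.primeIdealOf ⟨t.1, hxY⟩).asIdeal := fun e he => by
        rw [Submodule.mem_finsetInf] at he
        exact hcon e fun t' ht' => he t' (Finset.mem_erase.2 ⟨ht', Finset.mem_univ _⟩)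
      obtain ⟨t', ht', hle'⟩ := (Ideal.IsPrime.inf_le' (hY.primeIdealOf ⟨t.1, hxY⟩).2).1 hle
      refine (Finset.mem_erase.1 ht').1 (Subtype.ext ?_)
      have h2 := ((PrimeSpectrum.le_iff_specializes (hY.primeIdealOf ⟨t'.1, (hT t').1⟩) _).1 hle').map hY.fromSpec.continuous
      rw [hY.fromSpec_primeIdealOf, hY.fromSpec_primeIdealOf] at h2
      exact hmax _ h2
    have hnil : ∀ t' : T, ∃ N : ℕ, t' ≠ t → X.presheaf.germ Y t'.1 (hT t').1 e ^ N = 0 := fun t' => by
      by_cases ht' : t' = t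
      · exact ⟨0, fun h => absurd ht' h⟩
      letI : Algebra Γ(X, Y) (X.presheaf.stalk t'.1) :=
        TopCat.Presheaf.algebra_section_stalk X.presheaf ⟨t'.1, (hT t').1⟩
      haveI := hY.isLocalization_stalk ⟨t'.1, (hT t').1⟩
      have h3 : X.presheaf.germ Y t'.1 (hT t').1 e ∈ maximalIdeal (X.presheaf.stalk t'.1) :=
        (IsLocalization.AtPrime.to_map_mem_maximal_iff (X.presheaf.stalk t'.1)
          (hY.primeIdealOf ⟨t'.1, (hT t').1⟩).asIdeal e).2 (he t' ht')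
      obtain ⟨N, hN⟩ := isNilpotent_of_maximal (hT t').2 h3
      exact ⟨N, fun _ => hN⟩
    choose N hN using hnil
    have hu : IsUnit (X.presheaf.germ Y t.1 hxY e) :=
      IsLocalization.map_units (X.presheaf.stalk t.1) (⟨e, het⟩ : (hY.primeIdealOf ⟨t.1, hxY⟩).asIdeal.primeCompl)
    refine ⟨α, β, e ^ ∑ i, N i, IsLocalization.map_units (X.presheaf.stalk t.1) β,
      by rw [map_pow]; exact hu.pow _, hαβ.symm, fun t' ht' => ?_⟩
    rw [map_pow]
    exact pow_eq_zero_of_le (Finset.single_le_sum (fun i _ => Nat.zero_le (N i)) (Finset.mem_univ t')) (hN t' ht')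
  choose α β e hβ he hc hz using hloc
  have hsum : ∀ (γ : T → Γ(X, Y)) (t : T), X.presheaf.germ Y t.1 (hT t).1 (∑ i, e i * γ i) =
      X.presheaf.germ Y t.1 (hT t).1 (e t) * X.presheaf.germ Y t.1 (hT t).1 (γ t) := fun γ t => by
    rw [map_sum, Finset.sum_eq_single t (fun i _ hi => by rw [map_mul, hz i t (Ne.symm hi), zero_mul])
      (fun h => absurd (Finset.mem_univ t) h), map_mul]
  refine ⟨∑ i, e i * α i, ∑ i, e i * β i, fun x hx hxS => ?_⟩
  let t : T := ⟨x, hS.mem_toFinset.2 hxS⟩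
  change IsUnit (X.presheaf.germ Y t.1 (hT t).1 _) ∧ X.presheaf.germ Y t.1 (hT t).1 _ = r t.1 * X.presheaf.germ Y t.1 (hT t).1 _
  rw [hsum β t, hsum α t, hc t]
  exact ⟨(he t).mul (hβ t), mul_left_comm _ _ _⟩

/-- Weakly associated points all maximal and locally finite: invertible modules come from divisors. -/
theorem exists_iso_divMod_of_weakAss_maximal
    (hmax : ∀ η : X, Curv2.IsWeakAssPoint (Coh.structureModule X) η → ∀ y : X, y ⤳ η → y = η)
    (hfin : ∀ x : X, ∃ W : X.Opens, x ∈ W ∧ {η : X | η ∈ W ∧ Curv2.IsWeakAssPoint (Coh.structureModule X) η}.Finite)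
    {L : X.Modules} (hL : PicF.IsInvertible L) : ∃ D : Divisor X, Nonempty (L ≅ divMod D) := by
  classical
  choose U₀ e₀ hU₀ he₀ using fun x : X => Groth.L18.Frame.exists_frame hL x
  refine exists_iso_divMod_of_meroFrames (v := fun η => L.presheaf.germ (U₀ η) η (hU₀ η) (e₀ η)) fun y => ?_
  obtain ⟨W, hyW, hf⟩ := hfin y
  obtain ⟨Y, e, hyY, hYW, he⟩ := exists_frame_affine hL y hyW
  choose r hru hr using fun η : {η : X // η ∈ Y.1} => exists_unit_ratio he (he₀ η.1) η.2 (hU₀ η.1)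
  obtain ⟨a, b, hab⟩ := exists_ratio Y.2 (S := {η : X | η ∈ Y.1 ∧ Curv2.IsWeakAssPoint (Coh.structureModule X) η})
    (hf.subset fun η hη => ⟨hYW hη.1, hη.2⟩) (fun η hη => ⟨hη.1, hmax η hη.2⟩)
    fun η => if hη : η ∈ Y.1 then r ⟨η, hη⟩ else 0
  have hab' : ∀ (η : X) (hη : η ∈ Y.1), Curv2.IsWeakAssPoint (Coh.structureModule X) η →
      X.presheaf.germ Y.1 η hη a = r ⟨η, hη⟩ * X.presheaf.germ Y.1 η hη b := fun η hη hA => by
    rw [(hab η hη ⟨hη, hA⟩).2, dif_pos hη]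
  have hb : b ∈ regSub X Y.1 := Groth.L22.mem_regSub_of_weakAss fun η hη hA => (hab η hη ⟨hη, hA⟩).1
  have ha : a ∈ regSub X Y.1 := Groth.L22.mem_regSub_of_weakAss fun η hη hA => by
    rw [hab' η hη hA]
    exact (hru _).mul (hab η hη ⟨hη, hA⟩).1
  refine ⟨Y.1, hyY, e, ⟨a, ha⟩, ⟨b, hb⟩, he, fun η hη hA => ?_⟩
  beta_reduce
  rw [hr ⟨η, hη⟩, smul_smul]
  exact congrArg (· • L.presheaf.germ Y.1 η hη e) ((hab' η hη hA).trans (mul_comm _ _))

/-- On an affine open with finitely many weakly associated points `K_X` gives the total fraction ring. -/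
theorem isLocalization_kmod {U : X.Opens} (hU : IsAffineOpen U)
    (hfin : {η : X | η ∈ U ∧ Curv2.IsWeakAssPoint (Coh.structureModule X) η}.Finite) :
    @IsLocalization Γ(X, U) _ (nonZeroDivisors Γ(X, U)) Γ(kmod X, U) _ (toK X U).toAlgebra := by
  letI := (toK X U).toAlgebra
  have happ : ∀ (a : Γ(X, U)) (y : U), (toK X U a).1 y = j y.1 (X.presheaf.germ U y.1 y.2 a) := fun a y =>
    (_root_.Mero.toK_apply X a y).trans (Groth.L22.Mero.algebraMap_eq_mk _).symm
  refine { map_units := fun f => ?_, surj := fun s => ?_, exists_of_eq := fun {a b} h => ⟨1, ?_⟩ }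
  · have hf := Groth.L22.Mero.mem_regSub_of_mem_nonZeroDivisors hU f.2
    refine IsUnit.of_mul_eq_one (frac (1 : Γ(X, U)) ⟨f.1, hf⟩) (Groth.L22.Mero.kmod_ext fun y => ?_)
    rw [_root_.Mero.kmod_mul_apply, _root_.Mero.kmod_one_apply]
    show (toK X U f.1).1 y * _ = _
    rw [_root_.Mero.toK_apply]
    exact (LocalizedModule.mk_mul_mk.trans (_root_.Mero.mk_congr (by rw [map_one, mul_one]) (one_mul _))).trans
      (_root_.Mero.mk_self_eq_one (regGerm y ⟨f.1, hf⟩))
  · let Vset : Set X := {y | ∃ (hy : y ∈ U), ∃ N : X.Opens, y ∈ N ∧ ∀ (z : X) (hz : z ∈ U), z ∈ N → s.1 ⟨z, hz⟩ ∈ (j z).range}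
    let V : X.Opens := ⟨Vset, isOpen_iff_forall_mem_open.2 fun y ⟨hy, N, hyN, hN⟩ =>
      ⟨(U ⊓ N : X.Opens), fun z hz => ⟨hz.1, N, hz.2, hN⟩, (U ⊓ N).2, ⟨hy, hyN⟩⟩⟩
    have hVU : V ≤ U := fun y hy => hy.1
    let sV : Γ(kmod X, V) := (kmod X).presheaf.map (homOfLE hVU).op s
    obtain ⟨g, hg⟩ := exists_section_of_range sV fun ⟨y, hy⟩ => by
      obtain ⟨hyU, N, hyN, hN⟩ := hy
      exact hN y hyU hyN
    obtain ⟨b, hb, hbV⟩ := exists_regular_basicOpen_le (V := V) hU hfin fun η hη hA => by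
      obtain ⟨W, hηW, i, m, c, w⟩ := s.2 ⟨η, hη⟩
      have hu : IsUnit (X.presheaf.germ W η hηW c.1) := Groth.L22.isUnit_of_weakAss hA (c.2 ⟨η, hηW⟩)
      refine ⟨hη, X.basicOpen c.1, (X.mem_basicOpen c.1 η hηW).2 hu, fun z hz hzN => ?_⟩
      have hzW : z ∈ W := X.basicOpen_le c.1 hzN
      obtain ⟨d, hd⟩ := ((X.mem_basicOpen c.1 z hzW).1 hzN).exists_right_inv
      refine ⟨X.presheaf.germ W z hzW m * d, ?_⟩
      refine Eq.trans ?_ (w ⟨z, hzW⟩).symm
      rw [Groth.L22.Mero.algebraMap_eq_mk, Groth.L22.Mero.mk_eq_mk_iff, Submonoid.coe_one, mul_one]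
      show X.presheaf.germ W z hzW m * d * X.presheaf.germ W z hzW c.1 = _
      rw [mul_assoc, mul_comm d, hd, mul_one]
    obtain ⟨a, c, hac⟩ := exists_frac_eq_toK hU g hb hbV
    refine ⟨(a, ⟨c.1, Groth.L22.Mero.mem_nonZeroDivisors_of_mem_regSub c.2⟩), Groth.L22.Mero.kmod_ext fun y => ?_⟩
    obtain ⟨W, hyW, i, m, d, w⟩ := s.2 y
    have h0 : ro i.le a * d.1 - m * ro i.le c.1 = 0 := eq_zero_of_weakAss _ fun η hη hA => by
      have hηV : η ∈ V := by
        have hu : IsUnit (X.presheaf.germ W η hη d.1) := Groth.L22.isUnit_of_weakAss hA (d.2 ⟨η, hη⟩)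
        refine ⟨i.le hη, X.basicOpen d.1, (X.mem_basicOpen d.1 η hη).2 hu, fun z hz hzN => ?_⟩
        have hzW : z ∈ W := X.basicOpen_le d.1 hzN
        obtain ⟨d', hd'⟩ := ((X.mem_basicOpen d.1 z hzW).1 hzN).exists_right_inv
        refine ⟨X.presheaf.germ W z hzW m * d', ?_⟩
        refine Eq.trans ?_ (w ⟨z, hzW⟩).symm
        rw [Groth.L22.Mero.algebraMap_eq_mk, Groth.L22.Mero.mk_eq_mk_iff, Submonoid.coe_one, mul_one]
        show X.presheaf.germ W z hzW m * d' * X.presheaf.germ W z hzW d.1 = _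
        rw [mul_assoc, mul_comm d', hd', mul_one]
      have h1 : (frac a c).1 ⟨η, i.le hη⟩ = LocalizedModule.mk (X.presheaf.germ W η hη m) (regGerm ⟨η, hη⟩ d) :=
        ((hac η (i.le hη) hηV).trans ((happ' g ⟨η, hηV⟩).trans (hg ⟨η, hηV⟩).symm)).trans (w ⟨η, hη⟩)
      change LocalizedModule.mk _ _ = _ at h1
      rw [Groth.L22.Mero.mk_eq_mk_iff] at h1
      simp only [map_sub, map_mul, sub_eq_zero, ro, TopCat.Presheaf.germ_res_apply]
      exact h1
    rw [_root_.Mero.kmod_mul_apply]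
    show s.1 y * (toK X U c.1).1 y = (toK X U a).1 y
    rw [happ, happ, show s.1 y = _ from w ⟨y.1, hyW⟩, j, Groth.L22.Mero.algebraMap_eq_mk,
      Groth.L22.Mero.algebraMap_eq_mk, LocalizedModule.mk_mul_mk, Groth.L22.Mero.mk_eq_mk_iff]
    have h2 := congrArg (X.presheaf.germ W y.1 hyW) h0
    simp only [map_zero, map_sub, map_mul, sub_eq_zero, ro, TopCat.Presheaf.germ_res_apply] at h2
    simp only [Submonoid.coe_one, Submonoid.coe_mul, mul_one]
    exact h2.symm
  · have h' : toK X U a = toK X U b := h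
    simp only [OneMemClass.coe_one, one_mul]
    refine TopCat.Presheaf.section_ext X.sheaf U a b fun y hy => j_injective y ?_
    have h2 := congrArg (fun t : Γ(kmod X, U) => t.1 ⟨y, hy⟩) h'
    simp only [happ] at h2
    exact h2
where
  happ' {V : X.Opens} (g : Γ(X, V)) (y : V) : (toK X V g).1 y = j y.1 (X.presheaf.germ V y.1 y.2 g) :=
    (_root_.Mero.toK_apply X g y).trans (Groth.L22.Mero.algebraMap_eq_mk _).symm

/-- Locally finitely many weakly associated points, all maximal: regular germs are the nonzerodivisors. -/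
theorem regStalk_eq_nonZeroDivisors
    (hfin : ∀ W : X.Opens, IsAffineOpen W → {η : X | η ∈ W ∧ Curv2.IsWeakAssPoint (Coh.structureModule X) η}.Finite)
    (x : X) : regStalk X x = nonZeroDivisors (X.presheaf.stalk x) := by
  refine le_antisymm (_root_.Mero.regStalk_le_nonZeroDivisors x) fun g hg => ?_
  obtain ⟨U, hxU, f, rfl⟩ := TopCat.Presheaf.exists_germ_eq X.presheaf g
  obtain ⟨Y, hY, hxY, hYU⟩ := exists_isAffineOpen_mem_and_subset hxU
  let bad : Set X := ⋃ η ∈ {η : X | η ∈ Y ∧ Curv2.IsWeakAssPoint (Coh.structureModule X) η} ∩ {η | ¬ η ⤳ x}, closure {η}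
  have hbad : IsClosed bad := ((hfin Y hY).inter_of_left _).isClosed_biUnion fun _ _ => isClosed_closure
  have hxb : x ∉ bad := fun h => by
    obtain ⟨η, ⟨-, hη⟩, hxη⟩ := Set.mem_iUnion₂.1 h
    exact hη (specializes_iff_mem_closure.2 hxη)
  let W : X.Opens := Y ⊓ ⟨badᶜ, hbad.isOpen_compl⟩
  have hWU : W ≤ U := fun z hz => hYU hz.1
  refine ⟨W, ⟨hxY, hxb⟩, ro hWU f, Groth.L22.mem_regSub_of_weakAss fun η hη hA => ?_,
    TopCat.Presheaf.germ_res_apply _ _ _ _ _⟩
  have hsp : η ⤳ x := by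
    by_contra hn
    exact hη.2 (Set.mem_iUnion₂.2 ⟨η, ⟨⟨hη.1, hA⟩, hn⟩, subset_closure rfl⟩)
  letI := (X.presheaf.stalkSpecializes hsp).hom.toAlgebra
  haveI : (RingHom.ker (Cyc.specMap x η hsp)).IsPrime := RingHom.ker_isPrime _
  haveI := Groth.L22.Cyc.isLocalization_stalkSpecializes hsp
  have h1 := IsLocalization.map_nonZeroDivisors_le (RingHom.ker (Cyc.specMap x η hsp)).primeCompl
    (X.presheaf.stalk η) ⟨_, hg, rfl⟩
  rw [TopCat.Presheaf.germ_res_apply]
  refine Groth.L22.isUnit_of_weakAss hA ?_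
  rw [← TopCat.Presheaf.germ_stalkSpecializes_apply (F := X.presheaf) hxU hsp f]
  exact h1

theorem finite_maximal_affine
    (hb : ∀ U : X.Opens, IsCompact (U : Set ↥X) → (irreducibleComponents ↥(U : Scheme.{u})).Finite)
    {U : X.Opens} (hU : IsAffineOpen U) : {η : X | η ∈ U ∧ ∀ y : X, y ⤳ η → y = η}.Finite := by
  classical
  refine Set.Finite.of_finite_image (f := fun η => if hη : η ∈ U then
    closure ({⟨η, hη⟩} : Set (U : Scheme.{u})) else ∅) ((hb U hU.isCompact).subset ?_) ?_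
  · rintro _ ⟨η, ⟨hη, hmax⟩, rfl⟩
    simp only [dif_pos hη]
    refine (maximal_iff_closure_mem (X := (U : Scheme.{u})) ⟨η, hη⟩).2 fun z hz => Subtype.ext (hmax z.1 ?_)
    exact hz.map U.ι.continuous
  · intro a ha b hb h
    simp only [dif_pos ha.1, dif_pos hb.1] at h
    exact congrArg Subtype.val ((specializes_iff_closure_subset.2 h.ge).antisymm (specializes_iff_closure_subset.2 h.le)).eq

/-- No embedded points: weakly associated points are maximal. -/
theorem maximal_of_noEmbedded [IsLocallyNoetherian X]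
    (hne : ∀ x : ↥X, Curv2.IsAssPoint (Coh.structureModule X) x →
      ∀ y : ↥X, Curv2.IsAssPoint (Coh.structureModule X) y → y ⤳ x → y = x)
    {η : X} (hA : Curv2.IsWeakAssPoint (Coh.structureModule X) η) : ∀ y : X, y ⤳ η → y = η := by
  haveI : Coh.IsQCoh (Coh.structureModule X) := (Groth.L16.CohClosedPush.isCoh_structure (X := X)).1
  obtain ⟨z, hzη, -, hmax⟩ := exists_maximal_generisation (S := (Set.univ : Set X)) (x := η) trivial
  have hz := hne η (Groth.L15.WeakAss.isAssPoint_of_isWeakAssPoint _ hA) z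
    (Groth.L15.WeakAss.isAssPoint_of_isWeakAssPoint _
      (Groth.L22.isWeakAssPoint_of_maximal fun y hy => hmax y trivial hy)) hzη
  intro y hy
  exact hz ▸ hmax y trivial (hz.symm ▸ hy)

/-- A meromorphic function killed on `X_h` is killed by a power of `h`. -/
theorem exists_pow_mul_eq_zero [CompactSpace ↥X] (h : Γ(X, ⊤))
    (f : Γ(kmod X, ⊤)) (hf : (kmod X).presheaf.map (homOfLE (le_top : X.basicOpen h ≤ ⊤)).op f = 0) :
    ∃ n : ℕ, toK X ⊤ h ^ n * f = 0 := by
  have hloc : ∀ x : X, ∃ (W : X.Opens) (_ : x ∈ W) (n : ℕ), ∀ z : W,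
      (toK X ⊤ h ^ n * f).1 ⟨z.1, trivial⟩ = 0 := fun x => by
    obtain ⟨W₀, hx₀, i, a, b, w⟩ := f.2 ⟨x, trivial⟩
    obtain ⟨W, hW, hxW, hWW⟩ := exists_isAffineOpen_mem_and_subset hx₀
    have hW' : W ≤ W₀ := hWW
    let h' : Γ(X, W) := ro (le_top : W ≤ ⊤) h
    haveI := hW.isLocalization_basicOpen h'
    have h0 : algebraMap Γ(X, W) Γ(X, X.basicOpen h') (ro hW' a) = 0 := by
      refine TopCat.Presheaf.section_ext X.sheaf _ _ 0 fun z hz => ?_
      change X.presheaf.germ _ z hz (X.presheaf.map (homOfLE (X.basicOpen_le h')).op (ro hW' a)) =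
        X.presheaf.germ _ z hz 0
      rw [TopCat.Presheaf.germ_res_apply, ro, TopCat.Presheaf.germ_res_apply, map_zero]
      have hzW : z ∈ W := X.basicOpen_le h' hz
      have hzh : z ∈ X.basicOpen h := by
        have := (X.mem_basicOpen h' z hzW).1 hz
        rw [TopCat.Presheaf.germ_res_apply] at this
        exact (X.mem_basicOpen h z trivial).2 this
      have h1 : LocalizedModule.mk (X.presheaf.germ W₀ z (hW' hzW) a) (regGerm ⟨z, hW' hzW⟩ b) = (0 : KStalk X z) :=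
        (w ⟨z, hW' hzW⟩).symm.trans (congrArg (fun s : Γ(kmod X, X.basicOpen h) => s.1 ⟨z, hzh⟩) hf)
      rw [← LocalizedModule.zero_mk 1, Groth.L22.Mero.mk_eq_mk_iff, zero_mul, Submonoid.coe_one, mul_one] at h1
      exact h1
    obtain ⟨⟨_, n, rfl⟩, hn⟩ := (IsLocalization.map_eq_zero_iff (Submonoid.powers h') Γ(X, X.basicOpen h') _).1 h0
    refine ⟨W, hxW, n, fun z => ?_⟩
    have hn' := congrArg (X.presheaf.germ W z.1 z.2) hn
    rw [map_mul, map_pow, map_zero] at hn'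
    simp only [h', ro, TopCat.Presheaf.germ_res_apply] at hn'
    rw [_root_.Mero.kmod_mul_apply, ← map_pow]
    rw [_root_.Mero.toK_apply, show f.1 ⟨z.1, trivial⟩ = _ from w ⟨z.1, hW' z.2⟩]
    refine LocalizedModule.mk_mul_mk.trans ?_
    rw [← LocalizedModule.zero_mk 1, Groth.L22.Mero.mk_eq_mk_iff, zero_mul, Submonoid.coe_one, mul_one, map_pow]
    exact hn'
  choose W hxW n hn using hloc
  obtain ⟨t, ht⟩ := CompactSpace.isCompact_univ.elim_finite_subcover (fun x : X => (W x : Set X))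
    (fun x => (W x).2) fun x _ => Set.mem_iUnion.2 ⟨x, hxW x⟩
  refine ⟨t.sup n, Groth.L22.Mero.kmod_ext fun z => ?_⟩
  obtain ⟨x, hxt, hz⟩ := Set.mem_iUnion₂.1 (ht (Set.mem_univ z.1))
  obtain ⟨k, hk⟩ := Nat.le.dest (Finset.le_sup (f := n) hxt)
  rw [← hk, add_comm, pow_add, mul_assoc, _root_.Mero.kmod_mul_apply, hn x ⟨z.1, hz⟩, mul_zero]
  rfl

end Groth.L21.Mero
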