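import Groth.Agent.L21.Mero.DepthOne

/-!
Divisors on the spectrum of a local ring.
-/

set_option autoImplicit false
set_option backward.isDefEq.respectTransparency false
universe u

open CategoryTheory AlgebraicGeometry TopologicalSpace Opposite IsLocalRing

noncomputable section

namespace Groth.L21.Mero

open _root_.Mero (Divisor KStalk regStalk regSub regGerm kmod toK)

variable {X : Scheme.{u}}

/-- The divisor of a regular section on the whole scheme. -/
def divReg (f : regSub X ⊤) : Divisor X := by
  refine ⟨fun y => clsOf (regGerm (U := ⊤) ⟨y, trivial⟩ f), fun x => ?_⟩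
  have hu : IsUnit (toK X ⊤ f.1) := by
    let inv : Γ(kmod X, ⊤) :=
      ⟨fun y => LocalizedModule.mk 1 (regGerm y f), fun y => ⟨_, y.2, 𝟙 _, 1, f, fun z =>
        _root_.Mero.mk_congr (map_one (X.presheaf.germ ⊤ z.1 z.2).hom).symm rfl⟩⟩
    refine IsUnit.of_mul_eq_one inv (Groth.L22.Mero.kmod_ext fun y => ?_)
    rw [_root_.Mero.kmod_mul_apply, _root_.Mero.toK_apply, _root_.Mero.kmod_one_apply]
    exact (LocalizedModule.mk_mul_mk.trans (_root_.Mero.mk_congr (mul_one _) (one_mul _))).trans
      (_root_.Mero.mk_self_eq_one (regGerm y f))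
  exact ⟨⊤, trivial, hu.unit, fun y => congrArg QuotientGroup.mk (Units.ext rfl)⟩

theorem isUnit_of_divReg_eq_one (f : regSub X ⊤) (h : divReg f = 1) : IsUnit f.1 := by
  refine RingedSpace.isUnit_of_isUnit_germ X.toSheafedSpace ⊤ f.1 fun y hy => ?_
  have h1 : (divReg f).1 y = (1 : Divisor X).1 y := by rw [h]
  exact (clsOf_eq_one_iff (regGerm (U := ⊤) ⟨y, trivial⟩ f)).1 h1

theorem isUnit_of_ringEquiv {R : Type u} [CommRing R] {A : Type u} [CommRing A] [IsLocalRing A]
    [IsNoetherianRing A] (e : R ≃+* A) (hd : LocCoh.depth A A = 0) {c : R} (hc : c ∈ nonZeroDivisors R) :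
    IsUnit c := by
  have h1 : e c ∈ nonZeroDivisors A := mem_nonZeroDivisors_iff_right.2 fun z hz => e.symm.injective (by
    rw [map_zero]
    refine mem_nonZeroDivisors_iff_right.1 hc _ ?_
    have h2 := congrArg e.symm hz
    rwa [map_mul, e.symm_apply_apply, map_zero] at h2)
  simpa using (isUnit_of_depth_eq_zero hd h1).map e.symm

theorem divisor_spec_eq_one_iff {A : Type u} [CommRing A] [IsNoetherianRing A] [IsLocalRing A] :
    (∀ D : Divisor (Spec (CommRingCat.of A)), D = 1) ↔ LocCoh.depth A A = 0 := by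
  let e := (Scheme.ΓSpecIso (CommRingCat.of A)).commRingCatIsoToRingEquiv
  constructor
  · intro h
    obtain ⟨r, hr, hrr⟩ | ⟨w, hw0, hw⟩ := Groth.L04.exists_regular_or_killed (maximalIdeal A) A
    · exfalso
      have hf : e.symm r ∈ nonZeroDivisors Γ(Spec (CommRingCat.of A), ⊤) :=
        mem_nonZeroDivisors_iff_right.2 fun z hz => e.injective (by
          rw [map_zero]
          refine hrr.right_eq_zero_of_smul ?_
          have h1 := congrArg e hz
          rw [map_mul, e.apply_symm_apply, map_zero] at h1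
          rw [smul_eq_mul, mul_comm]
          exact h1)
      let f : regSub (Spec (CommRingCat.of A)) ⊤ :=
        ⟨_, Groth.L22.Mero.mem_regSub_of_mem_nonZeroDivisors (isAffineOpen_top _) hf⟩
      have hu : IsUnit (e.symm r) := isUnit_of_divReg_eq_one f (h _)
      have h2 := hu.map e
      rw [e.apply_symm_apply] at h2
      exact hr h2
    · exact Groth.L01.depth_eq_zero_of_smul_eq_zero (m := w) hw0 hw
  · intro hd D
    obtain ⟨W, hxW, a, b, hab⟩ := exists_local_frac D (IsLocalRing.closedPoint A : Spec (CommRingCat.of A))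
    obtain rfl : W = ⊤ := eq_top_iff.2 fun y _ =>
      (IsLocalRing.specializes_closedPoint y).mem_open W.2 hxW
    have key : ∀ c : regSub (Spec (CommRingCat.of A)) ⊤, IsUnit c.1 := fun c => by
      exact isUnit_of_ringEquiv e hd (Groth.L22.Mero.mem_nonZeroDivisors_of_mem_regSub c.2)
    refine Subtype.ext (funext fun y => ?_)
    show D.1 y = 1
    rw [hab ⟨y, trivial⟩, (clsOf_eq_one_iff _).2 ((key a).map _), (clsOf_eq_one_iff _).2 ((key b).map _),
      inv_one]
    exact mul_one (1 : _root_.Mero.Germ _ y)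

end Groth.L21.Mero
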