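import Groth.Agent.L21.Mero.Basic
import Groth.Agent.L21.RR.Mul
import Groth.Agent.L21.RR.PointPow

/-!
Stalks of `O_X(D')/O_X(D)` for `D ≤ D'`: the local ring modulo the local equation of the difference.
-/

set_option autoImplicit false
set_option backward.isDefEq.respectTransparency false
universe u

open CategoryTheory CategoryTheory.Limits AlgebraicGeometry TopologicalSpace Opposite
open Groth.L18.Frame (IsFrame rs ro)
open Groth.L21.RR (st st_germ bijective_germ_frame bijective_smul_one one)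

noncomputable section

namespace Groth.L21.Mero

open _root_.Mero (Divisor KStalk kmod divMod DivCond DivLE germOf evalK toK IsEffective)

variable {X : Scheme.{u}}

/-- The local ideal of an effective divisor. -/
def eqIdeal (E : Divisor X) (x : X) : Ideal (X.presheaf.stalk x) where
  carrier := {r | DivCond E⁻¹ x (j x r)}
  zero_mem' := by
    show DivCond E⁻¹ x (j x 0)
    rw [map_zero]; exact _root_.Mero.divCond_zero _ _
  add_mem' {r r'} hr hr' := by
    show DivCond E⁻¹ x (j x (r + r'))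
    rw [map_add]; exact _root_.Mero.divCond_add _ _ hr hr'
  smul_mem' c r hr := by
    show DivCond E⁻¹ x (j x (c • r))
    rw [smul_eq_mul, map_mul, ← Algebra.smul_def]; exact _root_.Mero.divCond_smul _ _ c hr

theorem eqIdeal_eq_span {E : Divisor X} {x : X} {a : X.presheaf.stalk x} {g : (KStalk X x)ˣ}
    (hg : E.1 x = QuotientGroup.mk g) (ha : j x a = g) : eqIdeal E x = Ideal.span {a} := by
  have hinv : (E⁻¹).1 x = QuotientGroup.mk g⁻¹ := by
    show (E.1 x)⁻¹ = _
    rw [hg, QuotientGroup.mk_inv]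
  ext r
  rw [Ideal.mem_span_singleton']
  constructor
  · intro hr
    obtain ⟨c, hc⟩ := hr g⁻¹ hinv
    refine ⟨c, j_injective x ?_⟩
    rw [map_mul, ha]
    exact (congrArg (· * (g : KStalk X x)) hc).trans (Units.inv_mul_cancel_right (j x r) g)
  · rintro ⟨c, rfl⟩
    refine divCond_of_rep hinv ⟨c, ?_⟩
    rw [map_mul, ha, Units.mul_inv_cancel_right]

theorem exists_eq (E : Divisor X) (hE : IsEffective E) (x : X) :
    ∃ a : X.presheaf.stalk x, a ∈ nonZeroDivisors (X.presheaf.stalk x) ∧ eqIdeal E x = Ideal.span {a} ∧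
      (IsUnit a → E.1 x = 1) := by
  obtain ⟨a, ha⟩ := hE x
  refine ⟨a, _root_.Mero.regStalk_le_nonZeroDivisors x a.2, eqIdeal_eq_span ha rfl, fun hu => ?_⟩
  rw [ha, QuotientGroup.eq_one_iff]
  exact ⟨hu.unit, Units.ext rfl⟩

theorem eq_top_of_eq_one {E : Divisor X} {x : X} (h : E.1 x = 1) : eqIdeal E x = ⊤ := by
  rw [eqIdeal_eq_span (g := 1) (by rw [QuotientGroup.mk_one]; exact h) (map_one _), Ideal.span_singleton_one]

variable {D D' : Divisor X}

instance mono_incl (h : ∀ (x : X) (t : KStalk X x), DivCond D x t → DivCond D' x t) : Mono (incl h) := by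
  refine Preadditive.mono_of_cancel_zero _ fun {P} g hg => ?_
  ext U t
  refine divMod_ext fun y => ?_
  have h1 := congrArg (fun φ => vl (φ.app U t) y) hg
  exact (vl_incl h _ y).symm.trans h1

/-- Effectivity of the difference gives the inclusion. -/
def inclLE (h : DivLE D D') : divMod D ⟶ divMod D' := incl (divCond_of_divLE h)

instance mono_inclLE (h : DivLE D D') : Mono (inclLE h) := mono_incl _

theorem exists_cokernel_stalk_equiv (h : DivLE D D') (x : X) :
    Nonempty (((X.presheaf.stalk x) ⧸ eqIdeal (D' * D⁻¹) x) ≃ₗ[X.presheaf.stalk x]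
      (cokernel (inclLE h)).presheaf.stalk x) := by
  obtain ⟨U, hxU, f, hf⟩ := D.2 x
  obtain ⟨U', hxU', f', hf'⟩ := D'.2 x
  have he := (isFrame_gen f hf).mono (inf_le_left : U ⊓ U' ≤ U)
  have he' := (isFrame_gen f' hf').mono (inf_le_right : U ⊓ U' ≤ U')
  set e := rs (divMod D) (inf_le_left : U ⊓ U' ≤ U) (gen f hf)
  set e' := rs (divMod D') (inf_le_right : U ⊓ U' ≤ U') (gen f' hf')
  obtain ⟨a, ha⟩ := he'.exists_coeff le_rfl ((inclLE h).app _ e)
  rw [Groth.L18.Frame.rs_self] at ha
  have hx : x ∈ U ⊓ U' := ⟨hxU, hxU'⟩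
  set g := Units.map (evalK X U ⟨x, hxU⟩).toMonoidHom f
  set g' := Units.map (evalK X U' ⟨x, hxU'⟩).toMonoidHom f'
  have hg : D.1 x = QuotientGroup.mk g := hf ⟨x, hxU⟩
  have hg' : D'.1 x = QuotientGroup.mk g' := hf' ⟨x, hxU'⟩
  set ax := X.presheaf.germ (U ⊓ U') x hx a
  have hax : j x ax = ↑(g' * g⁻¹) := by
    have h1 := congrArg (fun t : Γ(divMod D', U ⊓ U') => vl t ⟨x, hx⟩) ha
    simp only [vl_smul, e', e, vl_rs, inclLE, vl_incl] at h1
    have h2 : vl (gen f' hf') ⟨x, hxU'⟩ = ↑g'⁻¹ := Units.eq_inv_of_mul_eq_one_left (by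
      rw [mul_comm]; exact vl_gen f' hf' ⟨x, hxU'⟩)
    have h3 : vl (gen f hf) ⟨x, hxU⟩ = ↑g⁻¹ := Units.eq_inv_of_mul_eq_one_left (by
      rw [mul_comm]; exact vl_gen f hf ⟨x, hxU⟩)
    rw [h2, h3] at h1
    rw [Units.val_mul, mul_comm (g' : KStalk X x)]
    exact (Units.mul_inv_eq_iff_eq_mul g').1 h1
  have hE : (D' * D⁻¹).1 x = QuotientGroup.mk (g' * g⁻¹) := by
    show D'.1 x * (D.1 x)⁻¹ = _
    rw [hg, hg', QuotientGroup.mk_mul, QuotientGroup.mk_inv]
  rw [eqIdeal_eq_span hE hax]
  let v := (divMod D').presheaf.germ (U ⊓ U') x hx e'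
  let φ : X.presheaf.stalk x →ₗ[X.presheaf.stalk x] (cokernel (inclLE h)).presheaf.stalk x :=
    (st (cokernel.π (inclLE h)) x).comp (LinearMap.toSpanSingleton (X.presheaf.stalk x) _ v)
  have hφ : Function.Surjective φ :=
    ((Groth.L21.Mod.epi_iff_stalk_surjective (cokernel.π (inclLE h))).1 inferInstance x).comp
      (bijective_germ_frame he' hx).2
  have hev : st (inclLE h) x ((divMod D).presheaf.germ (U ⊓ U') x hx e) = ax • v := by
    rw [st_germ, ← ha, Groth.L20.ModStalk.germ_smul]
  refine ⟨(Submodule.quotEquivOfEq _ _ ?_).trans (LinearMap.quotKerEquivOfSurjective φ hφ)⟩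
  ext r
  rw [Ideal.mem_span_singleton', LinearMap.mem_ker]
  constructor
  · rintro ⟨c, rfl⟩
    show st (cokernel.π (inclLE h)) x ((c * ax) • v) = 0
    rw [mul_smul, ← hev, ← map_smul (st (inclLE h) x), ← Groth.L21.RR.st_comp, cokernel.condition, st,
      Functor.map_zero]
    rfl
  · intro hr
    obtain ⟨u, hu⟩ := Groth.L21.RR.exists_of_st_cokernel (inclLE h) x _ hr
    obtain ⟨c, rfl⟩ := (bijective_germ_frame he hx).2 u
    refine ⟨c, (bijective_germ_frame he' hx).1 ?_⟩
    show (c * ax) • v = r • v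
    rw [mul_smul, ← hev, ← map_smul (st (inclLE h) x)]
    exact hu

/-- The unit section of the trivial divisor. -/
def oneGen : Γ(divMod (1 : Divisor X), ⊤) :=
  gen (D := 1) 1 fun y => by
    show (1 : _root_.Mero.Germ X y.1) = germOf 1 y
    rw [germOf, map_one, QuotientGroup.mk_one]

/-- The trivial divisor gives the structure sheaf. -/
theorem nonempty_iso_one : Nonempty (Coh.structureModule X ≅ divMod (1 : Divisor X)) := by
  let φ := Groth.L16.homOfSection (divMod (1 : Divisor X)) oneGen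
  suffices IsIso φ from ⟨asIso φ⟩
  rw [Groth.L21.Mod.isIso_iff_stalk_bijective]
  intro x
  have h1 : ∀ r : X.presheaf.stalk x, st φ x (r • one X x) =
      r • (divMod (1 : Divisor X)).presheaf.germ ⊤ x trivial oneGen := fun r => by
    rw [map_smul]
    congr 1
    exact (Groth.L21.RR.st_germ φ (U := ⊤) trivial (Groth.L21.RR.oneSec X)).trans
      (congrArg _ (Groth.L21.RR.app_homOfSection_one _))
  have h2 : Function.Bijective (st φ x ∘ fun r : X.presheaf.stalk x => r • one X x) := by
    rw [show st φ x ∘ (fun r : X.presheaf.stalk x => r • one X x) =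
      fun r => r • (divMod (1 : Divisor X)).presheaf.germ ⊤ x trivial oneGen from funext h1]
    exact bijective_germ_frame (W := ⊤) (x := x) (isFrame_gen _ _) trivial
  exact (Function.Bijective.of_comp_iff _ (bijective_smul_one x)).1 h2

end Groth.L21.Mero
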