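import Groth.Agent.L21.Mero.AssPts
import Groth.Agent.L15.WeakAss
import Groth.Agent.L19.ZClos.Criteria
import Groth.Agent.S8863

/-!
Torsion free modules.
-/

set_option autoImplicit false
set_option backward.isDefEq.respectTransparency false
universe u

open CategoryTheory AlgebraicGeometry TopologicalSpace IsLocalRing
open Groth.L18.Frame (rs ro)

noncomputable section

namespace Groth.L21.Mero

open _root_.Mero (toMer toMerFun regSub regGerm regStalk merMod)

variable {X : Scheme.{u}}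

theorem toMer_app_eq_zero_of_smul {F : X.Modules} {U : X.Opens} {m : Γ(F, U)} {f : Γ(X, U)}
    (hf : f ∈ regSub X U) (h : f • m = 0) : (toMer F).app U m = 0 := by
  refine Subtype.ext (funext fun y => ?_)
  show LocalizedModule.mk (F.presheaf.germ U y.1 y.2 m) 1 = (0 : _root_.Mero.MStalk F y.1)
  rw [← LocalizedModule.zero_mk 1, LocalizedModule.mk_eq]
  refine ⟨regGerm y ⟨f, hf⟩, ?_⟩
  simp only [one_smul, smul_zero, Submonoid.smul_def]
  rw [← Groth.L20.ModStalk.germ_smul, h, map_zero]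

/-- Elimination for germs killed by a regular germ. -/
theorem exists_smul_eq_zero {F : X.Modules} {U : X.Opens} {x : X} (hx : x ∈ U) (m : Γ(F, U))
    (c : regStalk X x) (h : (c : X.presheaf.stalk x) • F.presheaf.germ U x hx m = 0) :
    ∃ (V : X.Opens) (hV : V ≤ U) (_ : x ∈ V) (f : Γ(X, V)),
      IsAffineOpen V ∧ f ∈ regSub X V ∧ f • rs F hV m = 0 := by
  obtain ⟨W, hxW, f, hf, hfc⟩ := c.2
  have h1 : F.presheaf.germ (W ⊓ U) x ⟨hxW, hx⟩ (ro (inf_le_left : W ⊓ U ≤ W) f • rs F (inf_le_right : W ⊓ U ≤ U) m) = 0 := by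
    rw [Groth.L20.ModStalk.germ_smul, ro, TopCat.Presheaf.germ_res_apply, hfc, Groth.L20.ModStalk.germ_rs]
    exact h
  obtain ⟨W', hxW', i₁, i₂, he⟩ := F.presheaf.germ_eq x (show x ∈ W ⊓ U from ⟨hxW, hx⟩)
    (show x ∈ W ⊓ U from ⟨hxW, hx⟩) _ 0 (h1.trans (map_zero _).symm)
  obtain ⟨V, hV, hxV, hVW⟩ := exists_isAffineOpen_mem_and_subset hxW'
  have hVWU : V ≤ W ⊓ U := fun z hz => i₁.le (hVW hz)
  refine ⟨V, hVWU.trans inf_le_right, hxV, ro (hVWU.trans inf_le_left) f, hV,
    _root_.Mero.regSub_res _ hf, ?_⟩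
  have he' := congrArg (rs F (show V ≤ W' from hVW)) he
  refine Eq.trans ?_ (he'.trans ((congrArg _ (map_zero _)).trans (map_zero _)))
  refine TopCat.Presheaf.section_ext ((Groth.L21.Mod.toAbSh X).obj F) _ _ _ fun z hz => ?_
  show F.presheaf.germ V z hz _ = F.presheaf.germ V z hz _
  simp only [Groth.L20.ModStalk.germ_smul, Groth.L20.ModStalk.germ_rs, ro, TopCat.Presheaf.germ_res_apply,
    TopCat.Presheaf.germ_res_apply']

theorem mono_toMer_iff [IsLocallyNoetherian X] (F : X.Modules) (hF : Coh.IsQCoh F) :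
    Mono (toMer F) ↔ ∀ x : X, Curv2.IsAssPoint F x →
      IsAssociatedPrime (maximalIdeal (X.presheaf.stalk x)) (X.presheaf.stalk x) := by
  constructor
  · intro hmono x hx
    refine (Groth.Agent.S5752.result _ _).1 ?_
    obtain ⟨r, hr, hrr⟩ | ⟨w, hw0, hw⟩ :=
      Groth.L04.exists_regular_or_killed (maximalIdeal (X.presheaf.stalk x)) (X.presheaf.stalk x)
    · exfalso
      have hrS : r ∈ regStalk X x := by
        rw [Groth.Agent.S8863.result X x]
        exact mem_nonZeroDivisors_iff_right.2 fun z hz => hrr.right_eq_zero_of_smul (by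
          rw [smul_eq_mul, mul_comm]; exact hz)
      obtain ⟨-, v, hv⟩ := isAssociatedPrime_iff.1 hx
      obtain ⟨U, hxU, m, rfl⟩ := TopCat.Presheaf.exists_germ_eq F.presheaf v
      rw [hv, Submodule.mem_colon_singleton, Submodule.mem_bot] at hr
      obtain ⟨V, hV, hxV, f, -, hf, h0⟩ := exists_smul_eq_zero hxU m ⟨r, hrS⟩ hr
      have h1 : rs F hV m = 0 := Groth.L19.ZClos.app_injective_of_mono (toMer F) V
        ((toMer_app_eq_zero_of_smul hf h0).trans (map_zero _).symm)
      refine (maximalIdeal.isMaximal (X.presheaf.stalk x)).ne_top ?_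
      rw [hv, Ideal.eq_top_iff_one, Submodule.mem_colon_singleton, Submodule.mem_bot, one_smul,
        ← Groth.L20.ModStalk.germ_rs F hV hxV m, h1, map_zero]
    · exact Groth.L01.depth_eq_zero_of_smul_eq_zero hw0 hw
  · intro h
    refine Groth.L19.ZClos.mono_of_app_injective _ fun U => ?_
    refine (injective_iff_map_eq_zero ((toMer F).app U).hom).2 fun m hm => ?_
    refine TopCat.Presheaf.section_ext ((Groth.L21.Mod.toAbSh X).obj F) _ _ _ fun x hx => ?_
    show F.presheaf.germ U x hx m = F.presheaf.germ U x hx 0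
    rw [map_zero]
    have hx0 : LocalizedModule.mk (F.presheaf.germ U x hx m) 1 = (0 : _root_.Mero.MStalk F x) :=
      congrArg (fun s : Γ(merMod F, U) => s.1 ⟨x, hx⟩) hm
    rw [← LocalizedModule.zero_mk 1, LocalizedModule.mk_eq] at hx0
    obtain ⟨c, hc⟩ := hx0
    simp only [one_smul, smul_zero, Submonoid.smul_def] at hc
    obtain ⟨V, hV, hxV, f, hVa, hf, h0⟩ := exists_smul_eq_zero hx m c hc
    rw [← Groth.L20.ModStalk.germ_rs F hV hxV m]
    haveI := hF
    have h1 : rs F hV m = 0 := by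
      by_contra hne
      obtain ⟨z, hz, hzA, hzs⟩ := Groth.L15.WeakAss.exists_weakAss_germ_ne_zero F hVa hne
      have hu := isUnit_of_assPoint (h z (Groth.L15.WeakAss.isAssPoint_of_isWeakAssPoint F hzA)) (hf ⟨z, hz⟩)
      refine hzs (hu.smul_left_cancel.1 ?_)
      rw [smul_zero, ← Groth.L20.ModStalk.germ_smul, h0, map_zero]
    rw [h1, map_zero]

end Groth.L21.Mero
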