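import Groth.Agent.L21.Mero.Zero
import Groth.Agent.L18.GlobGen

/-!
On an integral scheme an invertible module with a nonzero section is `O(D)` of its zero scheme.
-/

set_option autoImplicit false
set_option backward.isDefEq.respectTransparency false
set_option linter.style.haveILetI false
universe u

open CategoryTheory CategoryTheory.Limits AlgebraicGeometry TopologicalSpace Opposite
open Groth.L18.Frame (IsFrame rs ro rs_self rs_rs rs_smul)
open Groth.L18.GenLoc (secOf)
open Groth.L21.RR (st st_germ bijective_germ_frame)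

noncomputable section

namespace Groth.L21.Mero

open _root_.Mero (Divisor KStalk regStalk regSub regGerm divMod IsDivOfIdeal)

variable {X : Scheme.{u}} [IsIntegral X] {L : X.Modules} (hL : PicF.IsInvertible L)
  {s : Coh.structureModule X ⟶ L} (hs : s ≠ 0)

/-- The germ of the section. -/
abbrev gs (s : Coh.structureModule X ⟶ L) (y : X) : L.presheaf.stalk y := L.presheaf.germ ⊤ y trivial (secOf s)

omit [IsIntegral X] in
theorem germ_rs_secOf (s : Coh.structureModule X ⟶ L) {U : X.Opens} {y : X} (hy : y ∈ U) :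
    L.presheaf.germ U y hy (rs L (le_top : U ≤ ⊤) (secOf s)) = gs s y :=
  Groth.L20.ModStalk.germ_rs L _ hy _

include hL hs in
theorem exists_frac (y : X) (m : L.presheaf.stalk y) :
    ∃ (r : X.presheaf.stalk y) (a : regStalk X y), (a : X.presheaf.stalk y) • m = r • gs s y := by
  obtain ⟨U, e, hyU, -, he⟩ := exists_frame_affine hL y (O := ⊤) trivial
  obtain ⟨a, ha⟩ := he.exists_coeff le_rfl (rs L (le_top : U.1 ≤ ⊤) (secOf s))
  rw [rs_self] at ha
  obtain ⟨r, hr⟩ := (bijective_germ_frame he hyU).2 m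
  change r • L.presheaf.germ U.1 y hyU e = m at hr
  refine ⟨r, regGerm ⟨y, hyU⟩ ⟨a, mem_regSub_coeff hL hs ha⟩, ?_⟩
  rw [← germ_rs_secOf s hyU, ← ha, Groth.L20.ModStalk.germ_smul, ← hr, smul_smul, smul_smul, mul_comm]

include hL hs in
theorem smul_gs_injective (y : X) : Function.Injective fun r : X.presheaf.stalk y => r • gs s y := by
  obtain ⟨U, e, hyU, -, he⟩ := exists_frame_affine hL y (O := ⊤) trivial
  obtain ⟨a, ha⟩ := he.exists_coeff le_rfl (rs L (le_top : U.1 ≤ ⊤) (secOf s))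
  rw [rs_self] at ha
  intro r r' h
  change r • gs s y = r' • gs s y at h
  rw [← germ_rs_secOf s hyU, ← ha, Groth.L20.ModStalk.germ_smul, smul_smul, smul_smul] at h
  exact mul_right_cancel₀ (coeff_ne_zero hL hs ha hyU) ((bijective_germ_frame he hyU).1 h)

/-- The quotient by the section. -/
def kap (y : X) (m : L.presheaf.stalk y) : KStalk X y :=
  LocalizedModule.mk (exists_frac hL hs y m).choose (exists_frac hL hs y m).choose_spec.choose

theorem kap_eq {y : X} {m : L.presheaf.stalk y} {r : X.presheaf.stalk y} {a : regStalk X y}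
    (h : (a : X.presheaf.stalk y) • m = r • gs s y) : kap hL hs y m = LocalizedModule.mk r a := by
  have key : ∀ (r0 : X.presheaf.stalk y) (a0 : regStalk X y), (a0 : X.presheaf.stalk y) • m = r0 • gs s y →
      (LocalizedModule.mk r0 a0 : KStalk X y) = LocalizedModule.mk r a := fun r0 a0 h0 => by
    rw [Groth.L22.Mero.mk_eq_mk_iff]
    refine smul_gs_injective hL hs y ?_
    show (r0 * (a : X.presheaf.stalk y)) • gs s y = (r * (a0 : X.presheaf.stalk y)) • gs s y
    rw [mul_comm r0, mul_comm r, mul_smul, mul_smul, ← h0, ← h, smul_comm]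
  exact key _ _ (exists_frac hL hs y m).choose_spec.choose_spec

theorem kap_add (y : X) (m m' : L.presheaf.stalk y) : kap hL hs y (m + m') = kap hL hs y m + kap hL hs y m' := by
  obtain ⟨r, a, h⟩ := exists_frac hL hs y m
  obtain ⟨r', a', h'⟩ := exists_frac hL hs y m'
  rw [kap_eq hL hs h, kap_eq hL hs h', LocalizedModule.mk_add_mk]
  refine kap_eq hL hs ?_
  simp only [Submonoid.coe_mul, Submonoid.smul_def, smul_eq_mul, smul_add, add_smul, mul_smul]
  rw [← h, ← h', smul_comm (a' : X.presheaf.stalk y) (a : X.presheaf.stalk y) m]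

theorem kap_smul (y : X) (c : X.presheaf.stalk y) (m : L.presheaf.stalk y) :
    kap hL hs y (c • m) = c • kap hL hs y m := by
  obtain ⟨r, a, h⟩ := exists_frac hL hs y m
  rw [kap_eq hL hs h, LocalizedModule.smul'_mk]
  refine kap_eq hL hs ?_
  rw [smul_eq_mul, mul_smul, ← h, smul_comm]

theorem kap_gs (y : X) : kap hL hs y (gs s y) = 1 := by
  rw [kap_eq hL hs (r := 1) (a := 1) rfl]
  exact _root_.Mero.mk_self_eq_one 1

variable {D : Divisor X} (hD : IsDivOfIdeal D (PicF2.zeroScheme L s))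

include hD in
theorem frame_data (x : X) :
    ∃ (U : X.affineOpens) (e : Γ(L, U.1)) (a : regSub X U.1), x ∈ (U : X.Opens) ∧ IsFrame L U.1 e ∧
      a.1 • e = rs L (le_top : U.1 ≤ ⊤) (secOf s) ∧ ∀ y : U.1, D.1 y.1 = clsOf (regGerm y a) ∧
        ∀ r : X.presheaf.stalk y.1, kap hL hs y.1 (r • L.presheaf.germ U.1 y.1 y.2 e) =
          LocalizedModule.mk r (regGerm y a) := by
  obtain ⟨U, e, hxU, -, he⟩ := exists_frame_affine hL x (O := ⊤) trivial
  obtain ⟨a, ha⟩ := he.exists_coeff le_rfl (rs L (le_top : U.1 ≤ ⊤) (secOf s))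
  rw [rs_self] at ha
  refine ⟨U, e, ⟨a, mem_regSub_coeff hL hs ha⟩, hxU, he, ha, fun y =>
    ⟨class_eq_of_isDivOfIdeal hD U _ (zeroScheme_ideal_frame hL s U he ha) y, fun r => kap_eq hL hs ?_⟩⟩
  show X.presheaf.germ U.1 y.1 y.2 a • r • L.presheaf.germ U.1 y.1 y.2 e = r • gs s y.1
  rw [← germ_rs_secOf s y.2, ← ha, Groth.L20.ModStalk.germ_smul, smul_comm]

/-- The morphism `m ↦ m/s`. -/
def divBy : L ⟶ divMod D :=
  ⟨PresheafOfModules.homMk (M₁ := L.val) (M₂ := (divMod D).val)
    { app := fun V => AddCommGrpCat.ofHom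
        { toFun := fun (m : Γ(L, V.unop)) =>
            (⟨fun y => kap hL hs y.1 (L.presheaf.germ V.unop y.1 y.2 m), by
              refine ⟨fun y => ?_, fun y => ?_⟩
              · obtain ⟨U, e, a, hyU, he, -, hk⟩ := frame_data hL hs hD y.1
                obtain ⟨b, hb⟩ := he.exists_coeff (inf_le_left : U.1 ⊓ V.unop ≤ U.1) (rs L inf_le_right m)
                refine ⟨U.1 ⊓ V.unop, ⟨hyU, y.2⟩, homOfLE inf_le_right, b,
                  ⟨ro inf_le_left a.1, _root_.Mero.regSub_res (homOfLE inf_le_left) a.2⟩, fun z => ?_⟩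
                show kap hL hs z.1 (L.presheaf.germ V.unop z.1 z.2.2 m) = _
                rw [← Groth.L20.ModStalk.germ_rs L inf_le_right z.2 m, ← hb, Groth.L20.ModStalk.germ_smul,
                  Groth.L20.ModStalk.germ_rs, (hk ⟨z.1, z.2.1⟩).2]
                exact _root_.Mero.mk_congr rfl (TopCat.Presheaf.germ_res_apply X.presheaf _ z.1 z.2 a.1).symm
              · obtain ⟨U, e, a, hyU, he, -, hk⟩ := frame_data hL hs hD y.1
                obtain ⟨r, hr⟩ := (bijective_germ_frame he hyU).2 (L.presheaf.germ V.unop y.1 y.2 m)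
                change r • L.presheaf.germ U.1 y.1 hyU e = _ at hr
                refine divCond_of_rep (hk ⟨y.1, hyU⟩).1 ⟨r, ?_⟩
                show j y.1 r = kap hL hs y.1 (L.presheaf.germ V.unop y.1 y.2 m) * _
                rw [← hr, (hk ⟨y.1, hyU⟩).2 r]
                show _ = LocalizedModule.mk r (regGerm ⟨y.1, hyU⟩ a) * LocalizedModule.mk (regGerm ⟨y.1, hyU⟩ a).1 1
                rw [LocalizedModule.mk_mul_mk, Groth.L22.Mero.algebraMap_eq_mk, Groth.L22.Mero.mk_eq_mk_iff, mul_one,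
                  Submonoid.coe_one, mul_one]⟩ : Γ(divMod D, V.unop))
          map_zero' := divMod_ext fun y => by
            show kap hL hs y.1 (L.presheaf.germ V.unop y.1 y.2 0) = 0
            rw [map_zero, kap_eq hL hs (r := 0) (a := 1) (by rw [smul_zero, zero_smul]), LocalizedModule.zero_mk]
          map_add' := fun m m' => divMod_ext fun y => by
            show kap hL hs y.1 (L.presheaf.germ V.unop y.1 y.2 (m + m')) =
              kap hL hs y.1 (L.presheaf.germ V.unop y.1 y.2 m) + kap hL hs y.1 (L.presheaf.germ V.unop y.1 y.2 m')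
            rw [map_add, kap_add] }
      naturality := fun {V W} i => by
        ext m
        exact divMod_ext fun y =>
          congrArg (kap hL hs y.1) (TopCat.Presheaf.germ_res_apply' L.presheaf i y.1 y.2 m) }
    (fun V c (m : Γ(L, V.unop)) => divMod_ext fun y => by
      show kap hL hs y.1 (L.presheaf.germ V.unop y.1 y.2 ((show Γ(X, V.unop) from c) • m)) =
        X.presheaf.germ V.unop y.1 y.2 (show Γ(X, V.unop) from c) • kap hL hs y.1 (L.presheaf.germ V.unop y.1 y.2 m)
      rw [Groth.L20.ModStalk.germ_smul, kap_smul])⟩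

theorem vl_divBy {V : X.Opens} (m : Γ(L, V)) (y : V) :
    vl ((divBy hL hs hD).app V m) y = kap hL hs y.1 (L.presheaf.germ V y.1 y.2 m) := rfl

theorem isIso_divBy : IsIso (divBy hL hs hD) := by
  rw [Groth.L21.Mod.isIso_iff_stalk_bijective]
  intro x
  obtain ⟨U, e, a, hxU, he, -, hk⟩ := frame_data hL hs hD x
  obtain ⟨O, hxO, f, hf⟩ := D.2 x
  have hge := (isFrame_gen f hf).mono (inf_le_right : U.1 ⊓ O ≤ O)
  have heU := he.mono (inf_le_left : U.1 ⊓ O ≤ U.1)
  have hx : x ∈ U.1 ⊓ O := ⟨hxU, hxO⟩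
  set eU := rs L (inf_le_left : U.1 ⊓ O ≤ U.1) e
  set g := rs (divMod D) (inf_le_right : U.1 ⊓ O ≤ O) (gen f hf)
  obtain ⟨c, hc⟩ := hge.exists_coeff le_rfl ((divBy hL hs hD).app _ eU)
  rw [rs_self] at hc
  have hcu : IsUnit (X.presheaf.germ (U.1 ⊓ O) x hx c) := by
    have h1 := congrArg (fun t : Γ(divMod D, U.1 ⊓ O) => vl t ⟨x, hx⟩) hc
    simp only [vl_smul, vl_divBy, g, vl_rs, eU, Groth.L20.ModStalk.germ_rs] at h1
    have h2 := (hk ⟨x, hxU⟩).2 1
    rw [one_smul] at h2
    rw [h2] at h1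
    have h3 := (hk ⟨x, hxU⟩).1
    rw [hf ⟨x, hxO⟩] at h3
    obtain ⟨v, hv⟩ := QuotientGroup.eq.1 h3
    refine ⟨v⁻¹, j_injective x ?_⟩
    set G := (Units.map (_root_.Mero.evalK X O ⟨x, hxO⟩).toMonoidHom f : (KStalk X x)ˣ)
    set A := (IsLocalization.map_units (KStalk X x) (regGerm ⟨x, hxU⟩ a)).unit
    have hg : vl (gen f hf) ⟨x, hxO⟩ = ↑G⁻¹ := Units.eq_inv_of_mul_eq_one_left (by
      rw [mul_comm]; exact vl_gen f hf ⟨x, hxO⟩)
    have hA : (LocalizedModule.mk 1 (regGerm ⟨x, hxU⟩ a) : KStalk X x) = ↑A⁻¹ := by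
      refine Units.eq_inv_of_mul_eq_one_left ?_
      show j x _ * LocalizedModule.mk 1 _ = 1
      rw [Groth.L22.Mero.algebraMap_eq_mk, LocalizedModule.mk_mul_mk]
      exact (_root_.Mero.mk_congr (mul_one _) (one_mul _)).trans (_root_.Mero.mk_self_eq_one _)
    rw [hg, hA] at h1
    have h4 : Units.map (algebraMap (X.presheaf.stalk x) (KStalk X x)).toMonoidHom v⁻¹ = A⁻¹ * G := by
      rw [map_inv, hv, mul_inv_rev, inv_inv]
    refine (congrArg Units.val h4).trans ?_
    rw [Units.val_mul, ← h1, mul_assoc, Units.inv_mul, mul_one]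
  have hst : ∀ r : X.presheaf.stalk x, st (divBy hL hs hD) x (r • L.presheaf.germ (U.1 ⊓ O) x hx eU) =
      (r * X.presheaf.germ (U.1 ⊓ O) x hx c) • (divMod D).presheaf.germ (U.1 ⊓ O) x hx g := fun r => by
    rw [map_smul, st_germ, ← hc, Groth.L20.ModStalk.germ_smul, mul_smul]
  have hbij : Function.Bijective (st (divBy hL hs hD) x ∘
      fun r : X.presheaf.stalk x => r • L.presheaf.germ (U.1 ⊓ O) x hx eU) := by
    rw [show st (divBy hL hs hD) x ∘ (fun r : X.presheaf.stalk x => r • L.presheaf.germ (U.1 ⊓ O) x hx eU) =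
      (fun r => r • (divMod D).presheaf.germ (U.1 ⊓ O) x hx g) ∘ (fun r => r * X.presheaf.germ (U.1 ⊓ O) x hx c)
      from funext hst]
    exact (bijective_germ_frame hge hx).comp ⟨hcu.mul_left_injective, fun r => ⟨r * ↑hcu.unit⁻¹, by
      simp only [mul_assoc, IsUnit.val_inv_mul, mul_one]⟩⟩
  exact (Function.Bijective.of_comp_iff _ (bijective_germ_frame heU hx)).1 hbij

end Groth.L21.Mero
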